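import Groth.Agent.Lib.Nodal27.Crit
import Groth.Agent.Lib.Goren15.FlatLocal
import Groth.Agent.Lib.Goren15.Equiv
import Groth.Agent.Lib.Goren.SopHull27
import Groth.Agent.Lib.ArtFun.Obs
import Groth.Agent.S0342
import Mathlib.RingTheory.MvPowerSeries.NoZeroDivisors
import Mathlib.RingTheory.AdicCompletion.AsTensorProduct

/-!
# The node is Gorenstein
-/

set_option autoImplicit false
set_option linter.style.haveILetI false

universe u

open IsLocalRing

noncomputable section

namespace Groth.Agent.Nodal27

theorem gorenstein_node (K : Type u) [Field K] :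
    LocCoh.IsGorensteinLocalRing (MvPowerSeries (Fin 2) K ⧸ nodeIdeal K) := by
  haveI := ArtFunLib.isRegularLocalRing_mvPowerSeries K 2
  haveI : LocCoh.IsGorensteinLocalRing (MvPowerSeries (Fin 2) K) := S0342.result _
  classical
  let f : MvPowerSeries (Fin 2) K := MvPowerSeries.X 0 * MvPowerSeries.X 1
  have hf0 : f ≠ 0 := mul_ne_zero
    (fun h => by simpa [MvPowerSeries.coeff_X] using congrArg (MvPowerSeries.coeff (Finsupp.single (0 : Fin 2) 1)) h)
    (fun h => by simpa [MvPowerSeries.coeff_X] using congrArg (MvPowerSeries.coeff (Finsupp.single (1 : Fin 2) 1)) h)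
  have hw : RingTheory.Sequence.IsWeaklyRegular (MvPowerSeries (Fin 2) K) [f] := by
    refine (RingTheory.Sequence.isWeaklyRegular_singleton_iff (M := MvPowerSeries (Fin 2) K) f).2 fun a b h => ?_
    exact mul_left_cancel₀ hf0 h
  haveI := Groth.Agent.GorenLib.gorenstein_quotient_ofList 1 (MvPowerSeries (Fin 2) K) [f] rfl hw (fun y hy => by
    rw [List.mem_singleton] at hy
    subst hy
    refine (IsLocalRing.mem_maximalIdeal _).2 (mem_nonunits_iff.2 fun hu => ?_)
    have := MvPowerSeries.isUnit_iff_constantCoeff.1 hu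
    simp [f] at this)
  exact Goren15.isGorensteinLocalRing_of_ringEquiv (h := this) (Ideal.quotEquivOfEq (Ideal.ofList_singleton f))

theorem gorenstein_of_isOrdDoublePt {K A : Type u} [Field K] [CommRing A] [IsLocalRing A] [IsNoetherianRing A]
    [Algebra K A] (h : Curv2.IsOrdDoublePt K A) : LocCoh.IsGorensteinLocalRing A := by
  obtain ⟨e, -⟩ := h
  haveI := gorenstein_node K
  haveI hC : LocCoh.IsGorensteinLocalRing (AdicCompletion (maximalIdeal A) A) :=
    Goren15.isGorensteinLocalRing_of_ringEquiv e.symm
  haveI : IsNoetherianRing (AdicCompletion (maximalIdeal A) A) := inferInstance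
  exact ((Goren15.gorenstein_flat_local_iff A (AdicCompletion (maximalIdeal A) A)).1 hC).1

end Groth.Agent.Nodal27
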