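import Groth.Agent.Lib.Nodal27.Point
import Groth.Agent.Lib.NodalRed10.Scheme
import Groth.Agent.Lib.GrpHomog20.Field
import Groth.Agent.Lib.GrpGen20.DomSurj
import Groth.Agent.S1586
import Mathlib.AlgebraicGeometry.AlgClosed.Basic

/-!
# Nodal curves over algebraically closed fields and their geometric characterisation
-/

set_option autoImplicit false
set_option linter.style.haveILetI false
set_option backward.isDefEq.respectTransparency.types false

universe u

open CategoryTheory CategoryTheory.Limits AlgebraicGeometry IsLocalRing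
open scoped TensorProduct

noncomputable section

namespace Groth.Agent.Nodal27

variable {K : Type u} [Field K] {X Y : Scheme.{u}}

/-- A curve (every local dimension one) all whose closed points are smooth or nodes. -/
def Good (f : X ⟶ Spec (CommRingCat.of K)) [LocallyOfFiniteType f] : Prop :=
  (∀ x : X, FlatMor.localDim X x = 1) ∧ ∀ x : X, IsClosed ({x} : Set X) → GoodAt f x

theorem components_iff (f : X ⟶ Spec (CommRingCat.of K)) [LocallyOfFiniteType f] :
    (∀ Z ∈ irreducibleComponents (X : Type u), topologicalKrullDim Z = 1) ↔ ∀ x : X, FlatMor.localDim X x = 1 := by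
  refine ⟨fun h x => ?_, fun h Z hZ => ?_⟩
  · obtain ⟨z, -, hmax, hz, -⟩ := DimF18.exists_localDim_eq_sdim f x
    rw [hz, ← VarDim.dim_closure_singleton f z]
    exact h _ (GrpHomog20.closure_mem_irreducibleComponents hmax)
  · obtain ⟨M, hM, rfl⟩ := GrpHomog20.exists_isMaxPt_of_mem_irreducibleComponents hZ
    obtain ⟨z, hzM, -, hz, -⟩ := DimF18.exists_localDim_eq_sdim f M
    rw [VarDim.dim_closure_singleton f M, ← h M, hz, hM z hzM]

/-- The closed points of a base change to an algebraically closed field over a closed point. -/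
theorem closedPoint_bc [IsAlgClosed K] {L : Type u} [Field L] [IsAlgClosed L] [Algebra K L]
    (f : X ⟶ Spec (CommRingCat.of K)) [LocallyOfFiniteType f]
    (y : (pullback f (Spec.map (CommRingCat.ofHom (algebraMap K L))) : Scheme.{u}))
    (hx : IsClosed ({pullback.fst f (Spec.map (CommRingCat.ofHom (algebraMap K L))) y} : Set X)) :
    IsClosed ({y} : Set (pullback f (Spec.map (CommRingCat.ofHom (algebraMap K L))) : Scheme.{u})) ∧
      (ODPAt (pullback.snd f (Spec.map (CommRingCat.ofHom (algebraMap K L)))) y ↔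
        ODPAt f (pullback.fst f (Spec.map (CommRingCat.ofHom (algebraMap K L))) y)) := by
  let σ := Spec.map (CommRingCat.ofHom (algebraMap K L))
  obtain ⟨U, hU, hxU, -⟩ := exists_isAffineOpen_mem_and_subset (X := X) (x := pullback.fst f σ y) (U := ⊤) trivial
  let R : Type u := Γ(X, U)
  let j : Spec (CommRingCat.of R) ⟶ X := hU.fromSpec
  haveI : IsOpenImmersion j := inferInstanceAs (IsOpenImmersion hU.fromSpec)
  letI : Algebra K R := (Spec.preimage (j ≫ f)).hom.toAlgebra
  have hj : Spec.map (CommRingCat.ofHom (algebraMap K R)) = j ≫ f := Spec.map_preimage _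
  haveI : Algebra.FiniteType K R := by
    have h1 : LocallyOfFiniteType (Spec.map (CommRingCat.ofHom (algebraMap K R))) := by rw [hj]; infer_instance
    exact RingHom.finiteType_algebraMap.1 ((HasRingHomProperty.Spec_iff (P := @LocallyOfFiniteType)).1 h1)
  let p : Spec (CommRingCat.of R) := hU.primeIdealOf ⟨_, hxU⟩
  have hp : j p = pullback.fst f σ y := hU.fromSpec_primeIdealOf ⟨_, hxU⟩
  have hpc : IsClosed ({p} : Set (Spec (CommRingCat.of R))) := by
    rw [← Set.preimage_image_eq ({p} : Set (Spec (CommRingCat.of R))) j.isOpenEmbedding.injective, Set.image_singleton, hp]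
    exact hx.preimage j.continuous
  haveI : p.asIdeal.IsMaximal := (PrimeSpectrum.isClosed_singleton_iff_isMaximal p).1 hpc
  let ι : R →ₐ[K] L ⊗[K] R := Algebra.TensorProduct.includeRight
  let pr : Spec (CommRingCat.of (L ⊗[K] R)) ⟶ Spec (CommRingCat.of R) := Spec.map (CommRingCat.ofHom ι.toRingHom)
  let q : Spec (CommRingCat.of (L ⊗[K] R)) ⟶ Spec (CommRingCat.of L) :=
    Spec.map (CommRingCat.ofHom (algebraMap L (L ⊗[K] R)))
  have sq : IsPullback pr q (Spec.map (CommRingCat.ofHom (algebraMap K R))) σ :=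
    (AlgebraicGeometry.isPullback_SpecMap_of_isPushout _ _ _ _ (CommRingCat.isPushout_tensorProduct K L R)).flip
  let j' : Spec (CommRingCat.of (L ⊗[K] R)) ⟶ pullback f σ :=
    pullback.lift (pr ≫ j) q (by rw [Category.assoc, ← hj]; exact sq.w)
  have top : IsPullback pr j' j (pullback.fst f σ) := by
    refine IsPullback.of_bot ?_ (pullback.lift_fst _ _ _).symm (IsPullback.of_hasPullback f σ)
    rw [pullback.lift_snd, ← hj]
    exact sq
  haveI : IsOpenImmersion j' := MorphismProperty.of_isPullback top.flip.flip inferInstance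
  obtain ⟨w, hw1, hw2⟩ := Scheme.exists_preimage_of_isPullback top p y hp
  -- the only prime over `p`
  let PL : Ideal (L ⊗[K] R) := ext K L p.asIdeal
  haveI hPL : PL.IsMaximal := by
    letI := Ideal.Quotient.field p.asIdeal
    haveI : Module.Finite K (R ⧸ p.asIdeal) := finite_of_finite_type_of_isJacobsonRing K (R ⧸ p.asIdeal)
    have h1 : Module.finrank K (R ⧸ p.asIdeal) = 1 := by
      rw [← (AlgEquiv.ofBijective (Algebra.ofId K (R ⧸ p.asIdeal))
        IsAlgClosed.algebraMap_bijective_of_isIntegral).toLinearEquiv.finrank_eq, Module.finrank_self]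
    have h2 : Module.finrank L ((L ⊗[K] R) ⧸ PL) = 1 := (finrank_ext p.asIdeal).trans h1
    haveI : Nontrivial ((L ⊗[K] R) ⧸ PL) := Module.nontrivial_of_finrank_pos (R := L) (by rw [h2]; norm_num)
    refine Ideal.Quotient.maximal_of_isField _ (MulEquiv.isField (Field.toIsField L)
      (AlgEquiv.ofBijective (Algebra.ofId L ((L ⊗[K] R) ⧸ PL)) ⟨(algebraMap L _).injective, fun z => ?_⟩).symm.toMulEquiv)
    obtain ⟨c, hc⟩ := (finrank_eq_one_iff_of_nonzero' (1 : (L ⊗[K] R) ⧸ PL) one_ne_zero).1 h2 z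
    exact ⟨c, by rw [← hc, ← Algebra.algebraMap_eq_smul_one]; rfl⟩
  have huniq : ∀ v, pr v = p → v.asIdeal = PL := fun v hv => by
    refine (hPL.eq_of_le v.isPrime.ne_top (Ideal.map_le_iff_le_comap.2 ?_)).symm
    rw [← hv]
    exact le_rfl
  have hwPL := huniq w hw1
  haveI : w.asIdeal.IsMaximal := hwPL ▸ hPL
  have hfib : pullback.fst f σ ⁻¹' {pullback.fst f σ y} = {y} := by
    refine Set.eq_singleton_iff_unique_mem.2 ⟨rfl, fun z hz => ?_⟩
    obtain ⟨v, hv1, hv2⟩ := Scheme.exists_preimage_of_isPullback top p z (hp.trans hz.symm)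
    rw [← hv2, ← hw2]
    exact congrArg j' (PrimeSpectrum.ext ((huniq v hv1).trans hwPL.symm))
  have hyc : IsClosed ({y} : Set (pullback f σ : Scheme.{u})) := hfib ▸ hx.preimage (pullback.fst f σ).continuous
  refine ⟨hyc, ?_⟩
  have hwc : IsClosed ({w} : Set (Spec (CommRingCat.of (L ⊗[K] R)))) :=
    (PrimeSpectrum.isClosed_singleton_iff_isMaximal w).2 ‹_›
  have e1 := odpAt_etale_iff j' (pullback.snd f σ) (y := w) hwc
  rw [hw2, show j' ≫ pullback.snd f σ = q from pullback.lift_snd _ _ _] at e1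
  have e2 := odpAt_etale_iff j f (y := p) hpc
  rw [hp, ← hj] at e2
  rw [← e1, ← e2]
  refine (odpAt_spec_iff w).trans (Iff.trans ?_ (odpAt_spec_iff p).symm)
  rw [hwPL]
  exact ⟨nodeData_of_baseChange, nodeData_baseChange⟩

theorem isReduced_of_good [IsAlgClosed K] (f : X ⟶ Spec (CommRingCat.of K)) [LocallyOfFiniteType f] (h : Good f) :
    IsReduced X := by
  haveI : JacobsonSpace X := LocallyOfFiniteType.jacobsonSpace f
  refine NodalRed10.isReduced_of_closedPoints fun x hx => ?_
  rcases h.2 x hx with hs | ho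
  · haveI := (mem_smoothLocus_iff_isRegular f hx).1 hs
    haveI := RegLoc.isDomain (X.presheaf.stalk x)
    infer_instance
  · exact isReduced_of_odpAt f ho

theorem mem_smoothLocus_of_good [IsAlgClosed K] (f : X ⟶ Spec (CommRingCat.of K)) [LocallyOfFiniteType f]
    (h : Good f) {x : X} (hx : ¬IsClosed ({x} : Set X)) : x ∈ f.smoothLocus := by
  haveI := isReduced_of_good f h
  exact Cartier.mem_smoothLocus_of_isField_stalk f x
    (GrpGen20.isField_stalk_of_isMaxPt fun y hy => isMaxPt_of_not_isClosed f (h.1 x).le hx hy)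

theorem good_bc_iff [IsAlgClosed K] {L : Type u} [Field L] [IsAlgClosed L] [Algebra K L]
    (f : X ⟶ Spec (CommRingCat.of K)) [LocallyOfFiniteType f] :
    Good (pullback.snd f (Spec.map (CommRingCat.ofHom (algebraMap K L)))) ↔ Good f := by
  let σ := Spec.map (CommRingCat.ofHom (algebraMap K L))
  have hsm : (pullback.snd f σ).smoothLocus = pullback.fst f σ ⁻¹ᵁ f.smoothLocus :=
    S2155.result f σ (pullback.snd f σ) (pullback.fst f σ) (IsPullback.of_hasPullback f σ) (Or.inr inferInstance)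
  have hd : ∀ y : (pullback f σ : Scheme.{u}),
      FlatMor.localDim (pullback f σ : Scheme.{u}) y = FlatMor.localDim X (pullback.fst f σ y) :=
    fun y => DimF18.localDim_bc (IsPullback.of_hasPullback f σ) y
  haveI : Surjective σ :=
    ⟨Function.surjective_to_subsingleton (α := Spec (CommRingCat.of L)) (β := Spec (CommRingCat.of K)) _⟩
  haveI : Surjective (pullback.fst f σ) := MorphismProperty.pullback_fst _ _ inferInstance
  constructor
  · rintro ⟨h1, h2⟩
    refine ⟨fun x => ?_, fun x hx => ?_⟩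
    · obtain ⟨y, rfl⟩ := (pullback.fst f σ).surjective x
      rw [← hd]; exact h1 y
    · obtain ⟨y, rfl⟩ := (pullback.fst f σ).surjective x
      obtain ⟨hy, hiff⟩ := closedPoint_bc f y hx
      rcases h2 y hy with hs | ho
      · rw [hsm] at hs; exact Or.inl hs
      · exact Or.inr (hiff.1 ho)
  · intro h
    refine ⟨fun y => (hd y).trans (h.1 _), fun y _ => ?_⟩
    by_cases hx : IsClosed ({pullback.fst f σ y} : Set X)
    · obtain ⟨-, hiff⟩ := closedPoint_bc f y hx
      rcases h.2 _ hx with hs | ho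
      · exact Or.inl (by rw [hsm]; exact hs)
      · exact Or.inr (hiff.2 ho)
    · exact Or.inl (by rw [hsm]; exact mem_smoothLocus_of_good f h hx)

theorem good_comp_etale [IsAlgClosed K] (g : Y ⟶ X) [Etale g] (f : X ⟶ Spec (CommRingCat.of K))
    [LocallyOfFiniteType f] (h : Good f) : Good (g ≫ f) :=
  ⟨fun y => (S1146.result g y).trans (h.1 _), fun _ hy => (goodAt_etale_iff g f hy).2 (h.2 _ (isClosed_image g f hy))⟩

theorem good_of_cover [IsAlgClosed K] (f : X ⟶ Spec (CommRingCat.of K)) [LocallyOfFiniteType f]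
    (h : ∀ x : X, ∃ (U : Scheme.{u}) (g : U ⟶ X) (_ : Etale g), x ∈ Set.range g ∧ Good (g ≫ f)) : Good f := by
  refine ⟨fun x => ?_, fun x hx => ?_⟩
  · obtain ⟨U, g, _, ⟨y, rfl⟩, hg⟩ := h x
    exact (S1146.result g y).symm.trans (hg.1 y)
  · obtain ⟨U, g, _, ⟨y, rfl⟩, hg⟩ := h x
    have hy := isClosed_of_etale_of_isClosed g f hx
    exact (goodAt_etale_iff g f hy).1 (hg.2 y hy)

theorem good_congr [IsAlgClosed K] {f : X ⟶ Spec (CommRingCat.of K)} [LocallyOfFiniteType f]
    {g : Y ⟶ Spec (CommRingCat.of K)} [LocallyOfFiniteType g] (e : X ≅ Y) (he : e.hom ≫ g = f) :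
    Good f ↔ Good g := by
  subst he
  refine ⟨fun h => ?_, fun h => good_comp_etale e.hom g h⟩
  have := good_comp_etale e.inv (e.hom ≫ g) h
  simp only [Iso.inv_hom_id_assoc] at this
  exact this

theorem good_pullback_iff {S : Scheme.{u}} (f : X ⟶ S) [LocallyOfFiniteType f] {L M : Type u} [Field L]
    [IsAlgClosed L] [Field M] [IsAlgClosed M] (t : Spec (CommRingCat.of L) ⟶ S)
    (τ : Spec (CommRingCat.of M) ⟶ Spec (CommRingCat.of L)) :
    Good (pullback.snd f (τ ≫ t)) ↔ Good (pullback.snd f t) := by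
  obtain ⟨φ, rfl⟩ := Spec.map_surjective τ
  letI : Algebra L M := φ.hom.toAlgebra
  rw [← good_bc_iff (L := M) (pullback.snd f t)]
  exact (good_congr (pullbackLeftPullbackSndIso f t (Spec.map φ)) (pullbackLeftPullbackSndIso_hom_snd _ _ _)).symm

/-! ## Curves over arbitrary fields -/

variable (k : Type u) [Field k] (X)

theorem odpAt_iff_isOrdDoublePt [X.Over (Spec (CommRingCat.of k))] [IsAlgClosed k]
    [LocallyOfFiniteType (X ↘ Spec (CommRingCat.of k))] (x : X) :
    (letI := Curv2.stalkAlgebra k X x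
     Curv2.IsOrdDoublePt k (X.presheaf.stalk x)) ↔ ODPAt (X ↘ Spec (CommRingCat.of k)) x := by
  haveI : IsLocallyNoetherian X := LocallyOfFiniteType.isLocallyNoetherian (X ↘ Spec (CommRingCat.of k))
  letI := Curv2.stalkAlgebra k X x
  exact isOrdDoublePt_iff

variable [X.Over (Spec (CommRingCat.of k))] [LocallyOfFiniteType (X ↘ Spec (CommRingCat.of k))]

local notation "kbar" => AlgebraicClosure k

theorem isNode_iff (x : X) : Curv2.IsNode k X x ↔ IsClosed ({x} : Set X) ∧
    ∃ xb : Curv2.bc k X kbar, Curv2.bcFst k X kbar xb = x ∧ ODPAt (Curv2.bcSnd k X kbar) xb := by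
  letI : (Curv2.bc k X kbar).Over (Spec (CommRingCat.of kbar)) := ⟨Curv2.bcSnd k X kbar⟩
  haveI : LocallyOfFiniteType ((Curv2.bc k X kbar) ↘ Spec (CommRingCat.of kbar)) :=
    inferInstanceAs (LocallyOfFiniteType (pullback.snd _ _))
  exact and_congr_right fun _ => exists_congr fun xb => and_congr_right fun _ =>
    odpAt_iff_isOrdDoublePt (Curv2.bc k X kbar) kbar xb

theorem odpAt_conj {a b : Curv2.bc k X kbar} (hab : Curv2.bcFst k X kbar a = Curv2.bcFst k X kbar b)
    (h : ODPAt (Curv2.bcSnd k X kbar) b) : ODPAt (Curv2.bcSnd k X kbar) a := by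
  letI : (Curv2.bc k X kbar).Over (Spec (CommRingCat.of kbar)) := ⟨Curv2.bcSnd k X kbar⟩
  haveI : LocallyOfFiniteType ((Curv2.bc k X kbar) ↘ Spec (CommRingCat.of kbar)) :=
    inferInstanceAs (LocallyOfFiniteType (pullback.snd _ _))
  obtain ⟨σ, hσ⟩ := BcField.exists_galAct k X kbar hab
  subst hσ
  let φ := Curv2.galAct k X kbar σ
  haveI : IsIso φ := BcField.isIso_galAct k X kbar σ
  let st : (Curv2.bc k X kbar).presheaf.stalk (φ a) ≃+* (Curv2.bc k X kbar).presheaf.stalk a :=
    (asIso (φ.stalkMap a)).commRingCatIsoToRingEquiv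
  refine (odpAt_iff_isOrdDoublePt (Curv2.bc k X kbar) kbar a).1 ?_
  have hodp := (odpAt_iff_isOrdDoublePt (Curv2.bc k X kbar) kbar (φ a)).2 h
  have hconst : ∀ c : kbar, st (Curv2.stalkMap kbar (Curv2.bc k X kbar) (φ a) c) =
      Curv2.stalkMap kbar (Curv2.bc k X kbar) a (σ c) := fun c => by
    show φ.stalkMap a ((Curv2.bc k X kbar).presheaf.germ ⊤ (φ a) trivial _) = _
    rw [Scheme.Hom.germ_stalkMap_apply]
    refine congrArg ((Curv2.bc k X kbar).presheaf.germ ⊤ a trivial) ?_
    show (φ.appTop).hom ((Curv2.bcSnd k X kbar).appTop ((Scheme.ΓSpecIso (CommRingCat.of kbar)).inv c)) =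
      (Curv2.bcSnd k X kbar).appTop ((Scheme.ΓSpecIso (CommRingCat.of kbar)).inv (σ c))
    rw [← CommRingCat.comp_apply, ← Scheme.Hom.comp_appTop, BcField.galAct_snd, Scheme.Hom.comp_appTop,
      CommRingCat.comp_apply]
    refine congrArg (Curv2.bcSnd k X kbar).appTop ?_
    exact (congrArg (fun m => m.hom c)
      (Scheme.ΓSpecIso_inv_naturality (CommRingCat.ofHom (σ : kbar →ₐ[k] kbar).toRingHom))).symm
  obtain ⟨e, he⟩ := hodp
  obtain ⟨E, hE⟩ := S1586.exists_cplEquiv_map st
  obtain ⟨M, hM⟩ := S1586.exists_twist σ.toRingEquiv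
  refine ⟨E.symm.trans (e.trans M), fun c => ?_⟩
  obtain ⟨d, rfl⟩ := σ.surjective c
  have h1 : E.symm (algebraMap ((Curv2.bc k X kbar).presheaf.stalk a) _
      (Curv2.stalkMap kbar (Curv2.bc k X kbar) a (σ d))) =
      algebraMap ((Curv2.bc k X kbar).presheaf.stalk (φ a)) _ (Curv2.stalkMap kbar (Curv2.bc k X kbar) (φ a) d) := by
    rw [RingEquiv.symm_apply_eq, hE, hconst]
  exact (congrArg (fun z => M (e z)) h1).trans ((congrArg M (he d)).trans (hM d))

theorem isClosed_bc_iff (y : Curv2.bc k X kbar) :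
    IsClosed ({y} : Set (Curv2.bc k X kbar)) ↔ IsClosed ({Curv2.bcFst k X kbar y} : Set X) := by
  haveI : IsIntegralHom (Curv2.bcFst k X kbar) := MorphismProperty.pullback_fst _ _ (by
    rw [IsIntegralHom.SpecMap_iff]
    exact Algebra.IsIntegral.isIntegral)
  refine ⟨fun h => ?_, fun h => ?_⟩
  · rw [← Set.image_singleton]; exact (Curv2.bcFst k X kbar).isClosedMap _ h
  · refine isClosed_of_closure_subset fun z hz => ?_
    have hp := ((specializes_iff_mem_closure.2 hz).map (Curv2.bcFst k X kbar).continuous).mem_closed h rfl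
    exact Set.mem_singleton_iff.2
      (AssPts11.eq_of_specializes_of_isIntegralHom _ (specializes_iff_mem_closure.2 hz) (Set.mem_singleton_iff.1 hp).symm)

theorem good_bar_iff : Good (Curv2.bcSnd k X kbar) ↔
    (∀ Z ∈ irreducibleComponents (X : Type u), topologicalKrullDim Z = 1) ∧ Curv2.AtWorstNodal k X := by
  let σ := Spec.map (CommRingCat.ofHom (algebraMap k kbar))
  let f := X ↘ Spec (CommRingCat.of k)
  have hsm : (pullback.snd f σ).smoothLocus = pullback.fst f σ ⁻¹ᵁ f.smoothLocus :=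
    S2155.result f σ (pullback.snd f σ) (pullback.fst f σ) (IsPullback.of_hasPullback f σ) (Or.inr inferInstance)
  haveI : Surjective σ :=
    ⟨Function.surjective_to_subsingleton (α := Spec (CommRingCat.of kbar)) (β := Spec (CommRingCat.of k)) _⟩
  haveI : Surjective (Curv2.bcFst k X kbar) := MorphismProperty.pullback_fst _ _ inferInstance
  have hd : ∀ y : Curv2.bc k X kbar,
      FlatMor.localDim (Curv2.bc k X kbar) y = FlatMor.localDim X (Curv2.bcFst k X kbar y) :=
    fun y => DimF18.localDim_bc (IsPullback.of_hasPullback f σ) y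
  rw [components_iff f]
  constructor
  · rintro ⟨h1, h2⟩
    refine ⟨fun x => ?_, fun x hx => ?_⟩
    · obtain ⟨y, rfl⟩ := (Curv2.bcFst k X kbar).surjective x
      rw [← hd]; exact h1 y
    · obtain ⟨y, rfl⟩ := (Curv2.bcFst k X kbar).surjective x
      rcases h2 y ((isClosed_bc_iff X k y).2 hx) with hs | ho
      · rw [hsm] at hs
        refine Or.inl ⟨f.smoothLocus, hs, ?_⟩
        rw [← Scheme.Hom.smoothLocus_eq_top_iff, ← Scheme.Hom.preimage_smoothLocus_eq]
        exact top_le_iff.mp fun z _ => z.2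
      · exact Or.inr ((isNode_iff X k _).2 ⟨hx, y, rfl, ho⟩)
  · rintro ⟨h1, h2⟩
    refine ⟨fun y => (hd y).trans (h1 _), fun y hy => ?_⟩
    rcases h2 _ ((isClosed_bc_iff X k y).1 hy) with ⟨U, hxU, hU⟩ | hn
    · refine Or.inl ?_
      rw [hsm]
      have : (⟨_, hxU⟩ : U) ∈ (U.ι ≫ f).smoothLocus := by
        haveI : Smooth (U.ι ≫ f) := hU
        rw [Scheme.Hom.smoothLocus_eq_top]; trivial
      rw [← Scheme.Hom.preimage_smoothLocus_eq] at this
      exact this
    · obtain ⟨-, xb, hxb, ho⟩ := (isNode_iff X k _).1 hn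
      exact Or.inr (odpAt_conj X k hxb.symm ho)

end Groth.Agent.Nodal27
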