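import Groth.Agent.Lib.Nodal27.Model
import Groth.Prelude.Def_CurvBase
import Mathlib.RingTheory.AdicCompletion.LocalRing
import Mathlib.RingTheory.TensorProduct.Quotient
import Mathlib.FieldTheory.IsAlgClosed.Basic
import Mathlib.RingTheory.TensorProduct.Free

/-!
# A criterion for ordinary double points

`NodeData K P` only involves the levels `R ⧸ P ^ n`, so it is invariant under etale maps and commutes
with extensions of the ground field.
-/

set_option autoImplicit false
set_option linter.style.haveILetI false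

universe u

open scoped TensorProduct

noncomputable section

namespace Groth.Agent.Nodal27

variable (K : Type u) [Field K] {R : Type u} [CommRing R] [Algebra K R]

/-- The levels of `(R, P)` have the size of those of a node and two generators of `P` satisfy a
nondegenerate quadratic relation modulo `P ^ 3`. -/
def NodeData (P : Ideal R) : Prop :=
  (∀ n, Module.finrank K (R ⧸ P ^ n) = 2 * n - 1) ∧
    ∃ x y : R, x ∈ P ∧ y ∈ P ∧ P ≤ Ideal.span {x, y} ⊔ P ^ 2 ∧
      ∃ a b c : K, b ^ 2 - 4 * a * c ≠ 0 ∧ a • x ^ 2 + b • (x * y) + c • y ^ 2 ∈ P ^ 3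

variable {K} {P : Ideal R}

theorem exists_sub_mem (h : ∀ n, Module.finrank K (R ⧸ P ^ n) = 2 * n - 1) (r : R) :
    ∃ c : K, r - algebraMap K R c ∈ P := by
  have h1 : Module.finrank K (R ⧸ P) = 1 := by
    have h2 := h 1
    rw [(Ideal.quotientEquivAlgOfEq K (pow_one P)).toLinearEquiv.finrank_eq] at h2
    simpa using h2
  have hne : (1 : R ⧸ P) ≠ 0 := by
    intro h0
    haveI := subsingleton_of_zero_eq_one h0.symm
    rw [Module.finrank_zero_of_subsingleton] at h1
    exact absurd h1 (by norm_num)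
  obtain ⟨c, hc⟩ := (finrank_eq_one_iff_of_nonzero' (1 : R ⧸ P) hne).1 h1 (Ideal.Quotient.mk P r)
  refine ⟨c, Ideal.Quotient.eq.1 (hc.symm.trans ?_)⟩
  rw [← Algebra.algebraMap_eq_smul_one]
  rfl

/-- Transfer along a map that is bijective on all levels. -/
theorem nodeData_iff_of_levels {R' : Type u} [CommRing R'] [Algebra K R'] {P' : Ideal R'} (φ : R →ₐ[K] R')
    (hle : ∀ n, ∀ r ∈ P ^ n, φ r ∈ P' ^ n) (hinj : ∀ n r, φ r ∈ P' ^ n → r ∈ P ^ n)
    (hsur : ∀ n r', ∃ r, φ r - r' ∈ P' ^ n) : NodeData K P ↔ NodeData K P' := by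
  have hrank : ∀ n, Module.finrank K (R ⧸ P ^ n) = Module.finrank K (R' ⧸ P' ^ n) := fun n => by
    let g : R ⧸ P ^ n →ₐ[K] R' ⧸ P' ^ n := Ideal.quotientMapₐ _ φ (fun r hr => hle n r hr)
    refine (AlgEquiv.ofBijective g ⟨(injective_iff_map_eq_zero _).2 fun x hx => ?_, fun y => ?_⟩).toLinearEquiv.finrank_eq
    · obtain ⟨r, rfl⟩ := Ideal.Quotient.mk_surjective x
      exact Ideal.Quotient.eq_zero_iff_mem.2 (hinj n r (Ideal.Quotient.eq_zero_iff_mem.1 hx))
    · obtain ⟨r', rfl⟩ := Ideal.Quotient.mk_surjective y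
      obtain ⟨r, hr⟩ := hsur n r'
      exact ⟨Ideal.Quotient.mk _ r, Ideal.Quotient.eq.2 hr⟩
  have hle1 : ∀ r ∈ P, φ r ∈ P' := fun r hr => by simpa using hle 1 r (by simpa using hr)
  have hinj1 : ∀ r, φ r ∈ P' → r ∈ P := fun r hr => by simpa using hinj 1 r (by simpa using hr)
  constructor
  · rintro ⟨h, x, y, hx, hy, hspan, a, b, c, hd, hq⟩
    refine ⟨fun n => (hrank n).symm.trans (h n), φ x, φ y, hle1 x hx, hle1 y hy, fun r' hr' => ?_,
      a, b, c, hd, ?_⟩
    · obtain ⟨r, hr⟩ := hsur 2 r'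
      have hrP : r ∈ P := hinj1 r (by
        have := Ideal.pow_le_self two_ne_zero hr
        simpa using add_mem this hr')
      obtain ⟨s, hs, t, ht, rfl⟩ := Submodule.mem_sup.1 (hspan hrP)
      obtain ⟨α, β, rfl⟩ := Ideal.mem_span_pair.1 hs
      refine Submodule.mem_sup.2 ⟨φ (α * x + β * y), Ideal.mem_span_pair.2 ⟨φ α, φ β, by simp⟩,
        φ t - (φ (α * x + β * y + t) - r'), sub_mem (hle 2 t ht) hr, by rw [map_add φ (α * x + β * y)]; ring⟩
    · have := hle 3 _ hq
      simpa [map_smul] using this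
  · rintro ⟨h, x', y', hx', hy', hspan, a, b, c, hd, hq⟩
    obtain ⟨x, hx⟩ := hsur 3 x'
    obtain ⟨y, hy⟩ := hsur 3 y'
    have hxP : φ x ∈ P' := by simpa using add_mem (Ideal.pow_le_self three_ne_zero hx) hx'
    have hyP : φ y ∈ P' := by simpa using add_mem (Ideal.pow_le_self three_ne_zero hy) hy'
    refine ⟨fun n => (hrank n).trans (h n), x, y, hinj1 _ hxP, hinj1 _ hyP, fun r hr => ?_, a, b, c, hd,
      hinj 3 _ ?_⟩
    · obtain ⟨s, hs, t, ht, hst⟩ := Submodule.mem_sup.1 (hspan (hle1 r hr))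
      obtain ⟨α', β', rfl⟩ := Ideal.mem_span_pair.1 hs
      obtain ⟨α, hα⟩ := hsur 2 α'
      obtain ⟨β, hβ⟩ := hsur 2 β'
      refine Submodule.mem_sup.2 ⟨α * x + β * y, Ideal.mem_span_pair.2 ⟨α, β, rfl⟩, r - (α * x + β * y),
        hinj 2 _ ?_, by ring⟩
      rw [map_sub, ← hst, map_add, map_mul, map_mul,
        show α' * x' + β' * y' + t - (φ α * φ x + φ β * φ y) = t - ((φ α - α') * φ x + α' * (φ x - x') +
          ((φ β - β') * φ y + β' * (φ y - y'))) by ring]
      have h32 : P' ^ 3 ≤ P' ^ 2 := Ideal.pow_le_pow_right (by norm_num)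
      exact sub_mem ht (add_mem (add_mem (Ideal.mul_mem_right _ _ hα) (Ideal.mul_mem_left _ _ (h32 hx)))
        (add_mem (Ideal.mul_mem_right _ _ hβ) (Ideal.mul_mem_left _ _ (h32 hy))))
    · rw [map_add, map_add, map_smul, map_smul, map_smul, map_pow, map_mul, map_pow]
      have e1 : φ x ^ 2 - x' ^ 2 ∈ P' ^ 3 := by
        rw [sq_sub_sq]; exact Ideal.mul_mem_left _ _ hx
      have e2 : φ y ^ 2 - y' ^ 2 ∈ P' ^ 3 := by
        rw [sq_sub_sq]; exact Ideal.mul_mem_left _ _ hy
      have e3 : φ x * φ y - x' * y' ∈ P' ^ 3 := by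
        rw [show φ x * φ y - x' * y' = φ x * (φ y - y') + (φ x - x') * y' by ring]
        exact add_mem (Ideal.mul_mem_left _ _ hy) (Ideal.mul_mem_right _ _ hx)
      have hsmul : ∀ (d : K) {z : R'}, z ∈ P' ^ 3 → d • z ∈ P' ^ 3 := fun d z hz =>
        Submodule.smul_of_tower_mem (P' ^ 3) d hz
      have := add_mem hq (add_mem (add_mem (hsmul a e1) (hsmul b e3)) (hsmul c e2))
      convert this using 1
      simp only [smul_sub]
      abel

section AlgClosed

variable [IsAlgClosed K]

theorem exists_root_quadratic {a : K} (ha : a ≠ 0) (b c : K) : ∃ r, a * r ^ 2 + b * r + c = 0 := by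
  obtain ⟨r, hr⟩ := IsAlgClosed.exists_root
    (Polynomial.C a * Polynomial.X ^ 2 + Polynomial.C b * Polynomial.X + Polynomial.C c) (by
      rw [Polynomial.degree_quadratic ha]; norm_num)
  exact ⟨r, by simpa using hr⟩

/-- Two generators with product in the cube. -/
theorem exists_normal (h : NodeData K P) :
    ∃ x y : R, x ∈ P ∧ y ∈ P ∧ P ≤ Ideal.span {x, y} ⊔ P ^ 2 ∧ x * y ∈ P ^ 3 := by
  obtain ⟨-, x, y, hx, hy, hspan, a, b, c, hd, hq⟩ := h
  by_cases ha : a = 0
  · have hb : b ≠ 0 := by rintro rfl; simp [ha] at hd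
    refine ⟨b • x + c • y, y, add_mem (P.smul_of_tower_mem b hx) (P.smul_of_tower_mem c hy), hy,
      hspan.trans (sup_le_sup_right (Ideal.span_le.2 ?_) _), ?_⟩
    · rintro z (rfl | rfl)
      · refine Ideal.mem_span_pair.2 ⟨algebraMap K R b⁻¹, -algebraMap K R (b⁻¹ * c), ?_⟩
        simp only [Algebra.smul_def, map_mul]
        have e1 : algebraMap K R b⁻¹ * algebraMap K R b = 1 := by
          rw [← map_mul, inv_mul_cancel₀ hb, map_one]
        linear_combination z * e1
      · exact Ideal.subset_span (Set.mem_insert_of_mem _ rfl)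
    · convert hq using 1
      simp only [ha, zero_smul, zero_add, add_mul, smul_mul_assoc, sq]
  · obtain ⟨r, hr⟩ := exists_root_quadratic ha b c
    set s := -b / a - r with hs
    have hb' : b = -a * (r + s) := by rw [hs]; field_simp; ring
    have hc' : c = a * r * s := by
      rw [hs]; field_simp; linear_combination hr
    have hrs : r - s ≠ 0 := by
      intro hrs
      apply hd
      rw [hb', hc', sub_eq_zero.1 hrs]
      ring
    have hmem : ∀ t : K, x - t • y ∈ P := fun t => sub_mem hx (P.smul_of_tower_mem t hy)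
    refine ⟨a • (x - r • y), x - s • y, P.smul_of_tower_mem a (hmem r), hmem s,
      hspan.trans (sup_le_sup_right (Ideal.span_le.2 ?_) _), ?_⟩
    · have hy' : y ∈ Ideal.span {a • (x - r • y), x - s • y} := by
        refine Ideal.mem_span_pair.2 ⟨-algebraMap K R ((r - s)⁻¹ * a⁻¹), algebraMap K R (r - s)⁻¹, ?_⟩
        simp only [Algebra.smul_def, map_mul]
        have e1 : algebraMap K R a⁻¹ * algebraMap K R a = 1 := by rw [← map_mul, inv_mul_cancel₀ ha, map_one]
        have e2 : algebraMap K R (r - s)⁻¹ * (algebraMap K R r - algebraMap K R s) = 1 := by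
          rw [← map_sub, ← map_mul, inv_mul_cancel₀ hrs, map_one]
        linear_combination (-algebraMap K R (r - s)⁻¹ * (x - algebraMap K R r * y)) * e1 + y * e2
      rintro z (rfl | rfl)
      · have := add_mem (Ideal.subset_span (Set.mem_insert_of_mem _ rfl) :
          z - s • y ∈ Ideal.span {a • (z - r • y), z - s • y}) (Submodule.smul_of_tower_mem _ s hy')
        simpa using this
      · exact hy'
    · convert hq using 1
      rw [hb', hc']
      simp only [Algebra.smul_def, map_mul, map_neg, map_add]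
      ring

/-- Successive lifts of the two branches. -/
theorem exists_seq (h : NodeData K P) :
    ∃ u v : ℕ → R, ∀ n, u n ∈ P ∧ v n ∈ P ∧ P ≤ Ideal.span {u n, v n} ⊔ P ^ 2 ∧ u n * v n ∈ P ^ (n + 3) ∧
      u (n + 1) - u n ∈ P ^ (n + 2) ∧ v (n + 1) - v n ∈ P ^ (n + 2) := by
  let G : ℕ → R × R → Prop := fun n w =>
    w.1 ∈ P ∧ w.2 ∈ P ∧ P ≤ Ideal.span {w.1, w.2} ⊔ P ^ 2 ∧ w.1 * w.2 ∈ P ^ (n + 3)
  have step : ∀ n w, G n w → ∃ w', G (n + 1) w' ∧ w'.1 - w.1 ∈ P ^ (n + 2) ∧ w'.2 - w.2 ∈ P ^ (n + 2) := by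
    rintro n ⟨x, y⟩ ⟨hx, hy, hspan, hxy⟩
    have h1 : P ^ (n + 3) ≤ Ideal.span {x} * P ^ (n + 2) ⊔ Ideal.span {y} * P ^ (n + 2) ⊔ P ^ (n + 4) := by
      calc P ^ (n + 3) = P * P ^ (n + 2) := by rw [← pow_succ']
        _ ≤ (Ideal.span {x, y} ⊔ P ^ 2) * P ^ (n + 2) := Ideal.mul_mono_left hspan
        _ = _ := by rw [Ideal.sup_mul, ← pow_add, show 2 + (n + 2) = n + 4 by omega, Ideal.span_insert,
          Ideal.sup_mul]
    obtain ⟨w, hw, z, hz, hwz⟩ := Submodule.mem_sup.1 (h1 (neg_mem hxy))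
    obtain ⟨w₁, hw₁, w₂, hw₂, rfl⟩ := Submodule.mem_sup.1 hw
    obtain ⟨β, hβ, rfl⟩ := Ideal.mem_span_singleton_mul.1 hw₁
    obtain ⟨α, hα, rfl⟩ := Ideal.mem_span_singleton_mul.1 hw₂
    have hP2 : P ^ (n + 2) ≤ P ^ 2 := Ideal.pow_le_pow_right (by omega)
    refine ⟨(x + α, y + β), ⟨add_mem hx (Ideal.pow_le_self (by omega) hα),
      add_mem hy (Ideal.pow_le_self (by omega) hβ), hspan.trans (sup_le (Ideal.span_le.2 ?_) le_sup_right), ?_⟩,
      by simpa using hα, by simpa using hβ⟩
    · rintro t (rfl | rfl)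
      · exact Submodule.mem_sup.2 ⟨t + α, Ideal.subset_span (Set.mem_insert _ _), -α, neg_mem (hP2 hα), by ring⟩
      · exact Submodule.mem_sup.2 ⟨t + β, Ideal.subset_span (Set.mem_insert_of_mem _ rfl), -β, neg_mem (hP2 hβ),
          by ring⟩
    · have h2 : α * β ∈ P ^ (n + 1 + 3) :=
        Ideal.pow_le_pow_right (show n + 1 + 3 ≤ (n + 2) + (n + 2) by omega)
          (by rw [pow_add]; exact Ideal.mul_mem_mul hα hβ)
      rw [show (x + α) * (y + β) = -z + α * β by linear_combination hwz]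
      exact add_mem (neg_mem hz) h2
  obtain ⟨x, y, hx, hy, hspan, hxy⟩ := exists_normal h
  choose f hf using step
  let W : ∀ n, {w // G n w} := fun n => Nat.rec ⟨(x, y), hx, hy, hspan, by simpa using hxy⟩
    (fun m w => ⟨f m w.1 w.2, (hf m w.1 w.2).1⟩) n
  exact ⟨fun n => (W n).1.1, fun n => (W n).1.2, fun n => ⟨(W n).2.1, (W n).2.2.1, (W n).2.2.2.1, (W n).2.2.2.2,
    (hf n _ (W n).2).2.1, (hf n _ (W n).2).2.2⟩⟩

/-- A family of compatible isomorphisms of levels with those of the node. -/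
theorem exists_levels (h : NodeData K P) :
    ∃ ψ : ∀ n, N K n ≃ₐ[K] R ⧸ P ^ n, ∀ a b (hab : a ≤ b) z,
      Ideal.Quotient.factor (Ideal.pow_le_pow_right hab) (ψ b z) = ψ a (Ideal.Quotient.factor (factor_le hab) z) := by
  obtain ⟨u, v, huv⟩ := exists_seq h
  let A : ℕ → MvPolynomial (Fin 2) K →ₐ[K] R := fun n => MvPolynomial.aeval ![u n, v n]
  have hA : ∀ n (i : Fin 2), A n (MvPolynomial.X i) ∈ P := fun n i => by
    fin_cases i <;> simp [A, (huv n).1, (huv n).2.1]
  have hJ : ∀ n, ∀ q ∈ J K n, Ideal.Quotient.mkₐ K (P ^ n) (A n q) = 0 := fun n q hq => by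
    refine Ideal.Quotient.eq_zero_iff_mem.2 ?_
    refine (?_ : J K n ≤ (P ^ n).comap (A n)) hq
    refine sup_le ((Ideal.pow_right_mono ?_ n).trans (Ideal.le_comap_pow _ n)) ?_
    · rw [MvPolynomial.idealOfVars, Ideal.span_le]
      rintro _ ⟨i, rfl⟩
      exact hA n i
    · rw [Ideal.span_le, Set.singleton_subset_iff]
      change A n (_ * _) ∈ P ^ n
      rw [map_mul]
      simpa [A] using Ideal.pow_le_pow_right (by omega) (huv n).2.2.2.1
  let g : ∀ n, N K n →ₐ[K] R ⧸ P ^ n := fun n =>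
    Ideal.Quotient.liftₐ (J K n) ((Ideal.Quotient.mkₐ K (P ^ n)).comp (A n)) (hJ n)
  have gmk : ∀ n q, g n (Ideal.Quotient.mk _ q) = Ideal.Quotient.mk _ (A n q) := fun n q => rfl
  have gsur : ∀ n, Function.Surjective (g n) := fun n => by
    have C : ∀ k, ∀ p ∈ P ^ k, ∃ q, A n q - p ∈ P ^ (k + 1) ∧ A n q ∈ P ^ k := by
      intro k
      induction k with
      | zero =>
        intro p _
        obtain ⟨c, hc⟩ := exists_sub_mem h.1 p
        refine ⟨MvPolynomial.C c, ?_, by simp⟩
        simpa [A] using neg_mem hc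
      | succ k ih =>
        intro p hp
        rw [pow_succ] at hp
        refine Submodule.mul_induction_on hp (fun s hs t ht => ?_) fun s t hs ht => ?_
        · obtain ⟨q₁, hq₁, hq₁'⟩ := ih s hs
          obtain ⟨w, hw, z, hz, rfl⟩ := Submodule.mem_sup.1 ((huv n).2.2.1 ht)
          obtain ⟨α, β, rfl⟩ := Ideal.mem_span_pair.1 hw
          obtain ⟨cα, hcα⟩ := exists_sub_mem h.1 α
          obtain ⟨cβ, hcβ⟩ := exists_sub_mem h.1 β
          let q₂ : MvPolynomial (Fin 2) K := MvPolynomial.C cα * MvPolynomial.X 0 + MvPolynomial.C cβ * MvPolynomial.X 1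
          have hq₂ : A n q₂ ∈ P := by
            rw [map_add, map_mul, map_mul]
            exact add_mem (Ideal.mul_mem_left _ _ (hA n 0)) (Ideal.mul_mem_left _ _ (hA n 1))
          have hd : A n q₂ - (α * u n + β * v n + z) ∈ P ^ 2 := by
            rw [show A n q₂ - (α * u n + β * v n + z) = -((α - algebraMap K R cα) * u n) -
              ((β - algebraMap K R cβ) * v n) - z by simp [A, q₂]; ring, pow_two]
            exact sub_mem (sub_mem (neg_mem (Ideal.mul_mem_mul hcα (huv n).1))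
              (Ideal.mul_mem_mul hcβ (huv n).2.1)) (by rwa [← pow_two])
          refine ⟨q₁ * q₂, ?_, by rw [map_mul, pow_succ]; exact Ideal.mul_mem_mul hq₁' hq₂⟩
          rw [map_mul, show A n q₁ * A n q₂ - s * (α * u n + β * v n + z) = (A n q₁ - s) * A n q₂ +
            s * (A n q₂ - (α * u n + β * v n + z)) by ring]
          refine add_mem (by rw [pow_succ P (k + 1)]; exact Ideal.mul_mem_mul hq₁ hq₂) ?_
          rw [show k + 1 + 1 = k + 2 by rfl, pow_add]
          exact Ideal.mul_mem_mul hs hd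
        · obtain ⟨q, hq, hq'⟩ := hs
          obtain ⟨q', hp1, hp2⟩ := ht
          exact ⟨q + q', by rw [map_add, show A n q + A n q' - (s + t) = A n q - s + (A n q' - t) by ring]
                            exact add_mem hq hp1, by rw [map_add]; exact add_mem hq' hp2⟩
    have D : ∀ k (r : R), ∃ q, A n q - r ∈ P ^ k := by
      intro k
      induction k with
      | zero => exact fun r => ⟨0, by simp⟩
      | succ k ih =>
        intro r
        obtain ⟨q, hq⟩ := ih r
        obtain ⟨q', hq', -⟩ := C k _ hq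
        exact ⟨q - q', by rw [map_sub, show A n q - A n q' - r = -(A n q' - (A n q - r)) by ring]; exact neg_mem hq'⟩
    intro z
    obtain ⟨r, rfl⟩ := Ideal.Quotient.mk_surjective z
    obtain ⟨q, hq⟩ := D n r
    exact ⟨Ideal.Quotient.mk _ q, Ideal.Quotient.eq.2 hq⟩
  have gbij : ∀ n, Function.Bijective (g n) := fun n => by
    haveI : Module.Finite K (R ⧸ P ^ n) := Module.Finite.of_surjective (g n).toLinearMap (gsur n)
    exact ⟨(LinearMap.injective_iff_surjective_of_finrank_eq_finrank (f := (g n).toLinearMap)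
      (by rw [finrank_N, h.1 n])).2 (gsur n), gsur n⟩
  refine ⟨fun n => AlgEquiv.ofBijective (g n) (gbij n), fun a b hab z => ?_⟩
  obtain ⟨q, rfl⟩ := Ideal.Quotient.mk_surjective z
  simp only [AlgEquiv.coe_ofBijective, Ideal.Quotient.factor_mk, gmk]
  suffices (Ideal.Quotient.mkₐ K (P ^ a)).comp (A b) = (Ideal.Quotient.mkₐ K (P ^ a)).comp (A a) from
    DFunLike.congr_fun this q
  refine MvPolynomial.algHom_ext fun i => Ideal.Quotient.eq.2 ?_
  show A b (MvPolynomial.X i) - A a (MvPolynomial.X i) ∈ P ^ a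
  induction b, hab using Nat.le_induction with
  | base => simp
  | succ b hab ih =>
    rw [show A (b + 1) (MvPolynomial.X i) - A a (MvPolynomial.X i) = (A (b + 1) (MvPolynomial.X i) -
      A b (MvPolynomial.X i)) + (A b (MvPolynomial.X i) - A a (MvPolynomial.X i)) by ring]
    refine add_mem (Ideal.pow_le_pow_right (by omega : a ≤ b + 2) ?_) ih
    fin_cases i <;> simp [A, (huv b).2.2.2.2.1, (huv b).2.2.2.2.2]

/-- No element outside the square squares into the cube. -/
theorem mem_sq_of_sq_mem (h : NodeData K P) {w : R} (hw : w ∈ P) (hw2 : w ^ 2 ∈ P ^ 3) : w ∈ P ^ 2 := by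
  classical
  obtain ⟨ψ, hψ⟩ := exists_levels h
  obtain ⟨z, hz⟩ := (ψ 3).surjective (Ideal.Quotient.mk _ w)
  obtain ⟨q, rfl⟩ := Ideal.Quotient.mk_surjective z
  have h1 : q ∈ J K 1 := by
    have := hψ 1 3 (by omega) (Ideal.Quotient.mk _ q)
    rw [hz, Ideal.Quotient.factor_mk, Ideal.Quotient.factor_mk, Ideal.Quotient.eq_zero_iff_mem.2
      (by simpa using hw)] at this
    exact Ideal.Quotient.eq_zero_iff_mem.1 ((map_eq_zero_iff _ (ψ 1).injective).1 this.symm)
  have h3 : q ^ 2 ∈ J K 3 := by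
    refine Ideal.Quotient.eq_zero_iff_mem.1 ((map_eq_zero_iff _ (ψ 3).injective).1 ?_)
    rw [map_pow, map_pow, hz, ← map_pow]
    exact Ideal.Quotient.eq_zero_iff_mem.2 hw2
  have h2 : q ∈ J K 2 := by
    rw [mem_J] at h1 h3 ⊢
    intro m hm hd
    by_cases hd0 : Finsupp.degree m < 1
    · exact h1 m hm hd0
    -- `m` is one of the two variables
    have key : ∀ i, MvPolynomial.coeff (Finsupp.single i 2) (q ^ 2) = MvPolynomial.coeff (Finsupp.single i 1) q ^ 2 := by
      intro i
      have hq0 : MvPolynomial.coeff 0 q = 0 := h1 0 (Or.inl rfl) (by simp)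
      rw [pow_two q, MvPolynomial.coeff_mul, Finsupp.antidiagonal_single]
      rw [Finset.sum_map, Finset.Nat.antidiagonal_eq_map, Finset.sum_map]
      have e : Finsupp.single i 2 - Finsupp.single i 1 = Finsupp.single i 1 := by
        rw [← Finsupp.single_tsub]
      simp [Finset.sum_range_succ, hq0, pow_two, e]
    have hm' : ∃ i, m = Finsupp.single i 1 := by
      have h2 : Finsupp.degree m = m 0 + m 1 := by rw [Finsupp.degree_eq_sum, Fin.sum_univ_two]
      by_cases h0 : m 0 = 0
      · exact ⟨1, Finsupp.ext fun i => by fin_cases i <;> simp [h0] <;> omega⟩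
      · exact ⟨0, Finsupp.ext fun i => by fin_cases i <;> simp <;> omega⟩
    obtain ⟨i, rfl⟩ := hm'
    refine eq_zero_of_pow_eq_zero (n := 2) ((key i).symm.trans (h3 _ ?_ (by simp [Finsupp.degree_single])))
    fin_cases i <;> simp [Pure]
  have := hψ 2 3 (by omega) (Ideal.Quotient.mk _ q)
  rw [hz, Ideal.Quotient.factor_mk, Ideal.Quotient.factor_mk, Ideal.Quotient.eq_zero_iff_mem.2 h2, map_zero] at this
  exact Ideal.Quotient.eq_zero_iff_mem.1 this

end AlgClosed

section OrdDoublePt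

open IsLocalRing

theorem factor_evalₐ {A : Type u} [CommRing A] {I : Ideal A} (z : AdicCompletion I A) {m n : ℕ} (hle : m ≤ n) :
    Ideal.Quotient.factor (Ideal.pow_le_pow_right hle) (AdicCompletion.evalₐ I n z) =
      AdicCompletion.evalₐ I m z := by
  induction z using AdicCompletion.induction_on with
  | h a =>
    rw [AdicCompletion.evalₐ_mk, AdicCompletion.evalₐ_mk, Ideal.Quotient.factor_mk, Ideal.Quotient.eq,
      ← neg_sub]
    refine neg_mem ?_
    have h := SModEq.sub_mem.1 (a.property hle)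
    simpa [smul_eq_mul, Ideal.mul_top] using h

theorem mem_map_pow_iff {A : Type u} [CommRing A] {I : Ideal A} (hI : I.FG) (n : ℕ) (z : AdicCompletion I A) :
    z ∈ (I ^ n).map (algebraMap A (AdicCompletion I A)) ↔ AdicCompletion.evalₐ I n z = 0 := by
  rw [← Submodule.restrictScalars_mem A, ← Ideal.smul_top_eq_map, AdicCompletion.pow_smul_top_eq_ker_eval hI,
    LinearMap.mem_ker]
  have h := show I ^ n • ⊤ = I ^ n by rw [smul_eq_mul, Ideal.mul_top]
  constructor
  · intro h0
    rw [AdicCompletion.evalₐ]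
    simp [h0]
  · intro h0
    have h1 := congrArg (Ideal.Quotient.factor h.ge) h0
    rwa [AdicCompletion.factor_evalₐ_eq_eval, map_zero] at h1

theorem map_varIdeal [IsLocalRing (MvPowerSeries (Fin 2) K ⧸ nodeIdeal K)] :
    (varIdeal K).map (Ideal.Quotient.mk (nodeIdeal K)) =
      maximalIdeal (MvPowerSeries (Fin 2) K ⧸ nodeIdeal K) := by
  let τ : ∀ n, (MvPowerSeries (Fin 2) K ⧸ nodeIdeal K) →ₐ[K] N K n := fun n =>
    Ideal.Quotient.liftₐ (nodeIdeal K) (T K n) fun r hr => nodeIdeal_le_ker n hr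
  haveI hmax : ((varIdeal K).map (Ideal.Quotient.mk (nodeIdeal K))).IsMaximal := by
    refine Ideal.Quotient.maximal_of_isField _ ?_
    have e1 : RingHom.ker (τ 1) = (varIdeal K).map (Ideal.Quotient.mk (nodeIdeal K)) := by
      rw [← Ideal.map_comap_of_surjective _ Ideal.Quotient.mk_surjective (RingHom.ker (τ 1))]
      change Ideal.map _ (RingHom.ker (T K 1)) = _
      rw [ker_T, pow_one, Ideal.map_sup, Ideal.map_quotient_self, sup_bot_eq]
    rw [← e1]
    haveI : Nontrivial (N K 1) := Module.nontrivial_of_finrank_pos (R := K) (by rw [finrank_N]; norm_num)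
    have hsur : Function.Surjective (τ 1) := fun z => by
      obtain ⟨p, hp⟩ := T_surjective 1 z
      exact ⟨Ideal.Quotient.mk _ p, hp⟩
    refine MulEquiv.isField (?_ : IsField K)
      ((Ideal.quotientKerAlgEquivOfSurjective hsur).trans (AlgEquiv.ofBijective (Algebra.ofId K (N K 1)) ?_).symm).toMulEquiv
    · exact Field.toIsField K
    · refine ⟨(algebraMap K (N K 1)).injective, ?_⟩
      intro z
      obtain ⟨c, hc⟩ := (finrank_eq_one_iff_of_nonzero' (1 : N K 1) one_ne_zero).1 (finrank_N 1) z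
      exact ⟨c, by rw [← hc, ← Algebra.algebraMap_eq_smul_one]; rfl⟩
  exact IsLocalRing.eq_maximalIdeal hmax

theorem nodeData_of_isOrdDoublePt {A : Type u} [CommRing A] [Algebra K A] [IsLocalRing A] [IsNoetherianRing A]
    (h : Curv2.IsOrdDoublePt K A) : NodeData K (maximalIdeal A) := by
  obtain ⟨e, he⟩ := h
  have hI : (maximalIdeal A).FG := (maximalIdeal A).fg_of_isNoetherianRing
  haveI : IsLocalRing (MvPowerSeries (Fin 2) K ⧸ nodeIdeal K) := RingEquiv.isLocalRing e
  let Q := MvPowerSeries (Fin 2) K ⧸ nodeIdeal K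
  let τ : ∀ n, Q →ₐ[K] N K n := fun n =>
    Ideal.Quotient.liftₐ (nodeIdeal K) (T K n) fun r hr => nodeIdeal_le_ker n hr
  let φ : ∀ n, A →ₐ[K] N K n := fun n =>
    { ((τ n : Q →+* N K n).comp (e : AdicCompletion (maximalIdeal A) A →+* Q)).comp
        (algebraMap A (AdicCompletion (maximalIdeal A) A)) with
      commutes' := fun c => by
        change τ n (e _) = _
        rw [he c]
        exact (T K n).commutes c }
  have φval : ∀ n a, φ n a = τ n (e (algebraMap A _ a)) := fun n a => rfl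
  have τmk : ∀ n p, τ n (Ideal.Quotient.mk _ p) = T K n p := fun n p => rfl
  have hV : (varIdeal K).map (Ideal.Quotient.mk (nodeIdeal K)) = maximalIdeal Q := map_varIdeal
  have hmapmax : Ideal.map e (maximalIdeal (AdicCompletion (maximalIdeal A) A)) = maximalIdeal Q :=
    Ideal.ext fun y => by
      obtain ⟨x, rfl⟩ := e.surjective y
      rw [Ideal.apply_mem_of_equiv_iff, IsLocalRing.mem_maximalIdeal, IsLocalRing.mem_maximalIdeal,
        mem_nonunits_iff, mem_nonunits_iff, isUnit_map_iff]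
  have hpow : ∀ n z, AdicCompletion.evalₐ (maximalIdeal A) n z = 0 ↔ τ n (e z) = 0 := fun n z => by
    haveI := AdicCompletion.isLocalRing_of_fg hI
    rw [← mem_map_pow_iff hI, Ideal.map_pow, ← AdicCompletion.maximalIdeal_eq_map,
      ← Ideal.apply_mem_of_equiv_iff (f := e), Ideal.map_pow,
      hmapmax, ← hV, ← Ideal.map_pow]
    obtain ⟨p, hp⟩ := Ideal.Quotient.mk_surjective (e z)
    rw [← hp, τmk, ← RingHom.mem_ker, ker_T, ← Ideal.mem_quotient_iff_mem_sup]
  have hker : ∀ n a, φ n a = 0 ↔ a ∈ maximalIdeal A ^ n := fun n a => by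
    rw [φval, ← hpow, AdicCompletion.algebraMap_apply, Algebra.algebraMap_self_apply,
      AdicCompletion.evalₐ_of, Ideal.Quotient.eq_zero_iff_mem]
  have hsur : ∀ n, Function.Surjective (φ n) := fun n z => by
    obtain ⟨p, hp⟩ := T_surjective n z
    obtain ⟨y, hy⟩ := e.surjective (Ideal.Quotient.mk _ p)
    obtain ⟨a, ha⟩ := Ideal.Quotient.mk_surjective (AdicCompletion.evalₐ (maximalIdeal A) n y)
    refine ⟨a, ?_⟩
    have h1 : τ n (e (algebraMap A _ a - y)) = 0 := (hpow n _).1 (by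
      rw [map_sub, AdicCompletion.algebraMap_apply, Algebra.algebraMap_self_apply,
        AdicCompletion.evalₐ_of, ha, sub_self])
    rw [map_sub, map_sub, sub_eq_zero, hy, τmk, hp] at h1
    exact h1
  have hker' : ∀ n, RingHom.ker (φ n) = maximalIdeal A ^ n := fun n => Ideal.ext fun a => hker n a
  refine ⟨fun n => ?_, ?_⟩
  · rw [← finrank_N (K := K) n]
    exact ((Ideal.quotientEquivAlgOfEq K (hker' n).symm).trans
      (Ideal.quotientKerAlgEquivOfSurjective (hsur n))).toLinearEquiv.finrank_eq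
  have hfac : ∀ a, φ 1 a = Ideal.Quotient.factor (factor_le (show 1 ≤ 3 by norm_num)) (φ 3 a) := fun a => by
    rw [φval, φval]
    obtain ⟨p, hp⟩ := Ideal.Quotient.mk_surjective (e (algebraMap A _ a))
    rw [← hp, τmk, τmk, T_compat (a := 1) (b := 3) (show 1 ≤ 3 by norm_num)]
  obtain ⟨x, hx⟩ := hsur 3 (Ideal.Quotient.mk _ (MvPolynomial.X 0))
  obtain ⟨y, hy⟩ := hsur 3 (Ideal.Quotient.mk _ (MvPolynomial.X 1))
  have hJ1 : J K 1 = Ideal.span (Set.range MvPolynomial.X) := by
    rw [J, pow_one]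
    refine sup_of_le_left ?_
    rw [Ideal.span_le, Set.singleton_subset_iff]
    exact Ideal.mul_mem_right _ _ (Ideal.subset_span ⟨0, rfl⟩)
  have hmem : ∀ i a, φ 3 a = Ideal.Quotient.mk _ (MvPolynomial.X i) → a ∈ maximalIdeal A := fun i a ha => by
    rw [← pow_one (maximalIdeal A), ← hker, hfac, ha, Ideal.Quotient.factor_mk, Ideal.Quotient.eq_zero_iff_mem, hJ1]
    exact Ideal.subset_span ⟨i, rfl⟩
  refine ⟨x, y, hmem 0 x hx, hmem 1 y hy, fun r hr => ?_, 0, 1, 0, by norm_num, ?_⟩
  · rw [← pow_one (maximalIdeal A), ← hker, hfac] at hr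
    obtain ⟨q, hq⟩ := Ideal.Quotient.mk_surjective (φ 3 r)
    rw [← hq, Ideal.Quotient.factor_mk, Ideal.Quotient.eq_zero_iff_mem, hJ1,
      show Set.range (MvPolynomial.X : Fin 2 → MvPolynomial (Fin 2) K) = {MvPolynomial.X 0, MvPolynomial.X 1} by
        ext z; simp [Fin.exists_fin_two, eq_comm]] at hr
    obtain ⟨α, β, hαβ⟩ := Ideal.mem_span_pair.1 hr
    obtain ⟨α', hα⟩ := hsur 3 (Ideal.Quotient.mk _ α)
    obtain ⟨β', hβ⟩ := hsur 3 (Ideal.Quotient.mk _ β)
    refine Submodule.mem_sup.2 ⟨α' * x + β' * y, Ideal.mem_span_pair.2 ⟨α', β', rfl⟩, r - (α' * x + β' * y),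
      Ideal.pow_le_pow_right (by norm_num : 2 ≤ 3) ((hker 3 _).1 ?_), by ring⟩
    rw [map_sub, map_add, map_mul, map_mul, hα, hβ, hx, hy, ← map_mul, ← map_mul, ← map_add, hαβ, hq, sub_self]
  · rw [zero_smul, zero_smul, one_smul, zero_add, add_zero, ← hker, map_mul, hx, hy, ← map_mul,
      Ideal.Quotient.eq_zero_iff_mem]
    exact Ideal.mem_sup_right (Ideal.subset_span rfl)

theorem isOrdDoublePt_of_nodeData [IsAlgClosed K] {A : Type u} [CommRing A] [Algebra K A] [IsLocalRing A]
    (h : NodeData K (maximalIdeal A)) : Curv2.IsOrdDoublePt K A := by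
  set P := maximalIdeal A
  obtain ⟨ψ, hψ⟩ := exists_levels h
  let f : ∀ n, MvPowerSeries (Fin 2) K →ₐ[K] A ⧸ P ^ n := fun n => (ψ n).toAlgHom.comp (T K n)
  have hf : ∀ {m n : ℕ} (hle : m ≤ n), (Ideal.Quotient.factorₐ K (Ideal.pow_le_pow_right hle)).comp (f n) = f m :=
    fun hle => AlgHom.ext fun p => (hψ _ _ hle (T K _ p)).trans (congrArg (ψ _) (T_compat hle p))
  let Φ : MvPowerSeries (Fin 2) K →ₐ[K] AdicCompletion P A := AdicCompletion.liftAlgHom P f hf
  have hev : ∀ n p, AdicCompletion.evalₐ P n (Φ p) = ψ n (T K n p) := fun n p =>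
    AdicCompletion.evalₐ_liftAlgHom P f hf n p
  have hker : RingHom.ker Φ = nodeIdeal K := by
    refine le_antisymm (fun p hp => mem_nodeIdeal_of_forall fun n => (ψ n).injective ?_) (fun p hp => ?_)
    · rw [← hev, RingHom.mem_ker.1 hp, map_zero, map_zero]
    · refine AdicCompletion.ext_evalₐ fun n => ?_
      rw [hev, show T K n p = 0 from nodeIdeal_le_ker n hp, map_zero, map_zero]
  have hsurj : Function.Surjective Φ := by
    intro z
    let c : ∀ n, N K n := fun n => (ψ n).symm (AdicCompletion.evalₐ P n z)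
    have hc : ∀ m n (hle : m ≤ n), Ideal.Quotient.factor (factor_le hle) (c n) = c m := fun m n hle => by
      refine (ψ m).injective ?_
      rw [← hψ m n hle, AlgEquiv.apply_symm_apply, AlgEquiv.apply_symm_apply]
      exact factor_evalₐ z hle
    choose q hq using fun n => T_surjective n (c n)
    let p : MvPowerSeries (Fin 2) K := fun m => MvPowerSeries.coeff m (q (Finsupp.degree m + 1))
    refine ⟨p, AdicCompletion.ext_evalₐ fun n => ?_⟩
    rw [hev, ← (ψ n).apply_symm_apply (AdicCompletion.evalₐ P n z)]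
    refine congrArg (ψ n) (?_ : T K n p = c n)
    rw [← hq, ← sub_eq_zero, ← map_sub, T_eq_zero]
    intro m hm hd
    rw [map_sub, sub_eq_zero]
    change MvPowerSeries.coeff m (q (Finsupp.degree m + 1)) = _
    have h2 : T K (Finsupp.degree m + 1) (q n - q (Finsupp.degree m + 1)) = 0 := by
      rw [map_sub, sub_eq_zero, ← T_compat (a := Finsupp.degree m + 1) (b := n) hd, hq, hq, hc _ _ hd]
    have := T_eq_zero.1 h2 m hm (Nat.lt_succ_self _)
    rw [map_sub, sub_eq_zero] at this
    exact this.symm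
  let E := (Ideal.quotientEquivAlgOfEq K hker.symm).trans (Ideal.quotientKerAlgEquivOfSurjective hsurj)
  refine ⟨E.symm.toRingEquiv, fun c => ?_⟩
  rw [← IsScalarTower.algebraMap_apply K A (AdicCompletion P A)]
  exact E.symm.commutes c

theorem isOrdDoublePt_iff [IsAlgClosed K] {A : Type u} [CommRing A] [Algebra K A] [IsLocalRing A]
    [IsNoetherianRing A] : Curv2.IsOrdDoublePt K A ↔ NodeData K (maximalIdeal A) :=
  ⟨nodeData_of_isOrdDoublePt, isOrdDoublePt_of_nodeData⟩

end OrdDoublePt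

section FieldExt

variable (K) (L : Type u) [Field L] [Algebra K L]

/-- The extension of an ideal to the base change. -/
abbrev ext (P : Ideal R) : Ideal (L ⊗[K] R) :=
  P.map (Algebra.TensorProduct.includeRight : R →ₐ[K] L ⊗[K] R)

variable {K L}

theorem mk_mem_ext_iff (I : Ideal R) (r : R) :
    (Algebra.TensorProduct.includeRight : R →ₐ[K] L ⊗[K] R) r ∈ ext K L I ↔ r ∈ I := by
  refine ⟨fun h => ?_, Ideal.mem_map_of_mem _⟩
  have h1 : (Algebra.TensorProduct.tensorQuotientEquiv (R := K) L R L I).symm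
      (Ideal.Quotient.mk _ ((1 : L) ⊗ₜ[K] r)) = 0 := by
    rw [Ideal.Quotient.eq_zero_iff_mem.2 (by simpa using h), map_zero]
  rw [Algebra.TensorProduct.tensorQuotientEquiv_symm_apply_tmul] at h1
  exact Ideal.Quotient.eq_zero_iff_mem.1
    ((map_eq_zero_iff (Algebra.TensorProduct.includeRight : R ⧸ I →ₐ[K] L ⊗[K] (R ⧸ I))
      (Algebra.TensorProduct.includeRight_injective (algebraMap K L).injective)).1 h1)

theorem finrank_ext (I : Ideal R) :
    Module.finrank L ((L ⊗[K] R) ⧸ ext K L I) = Module.finrank K (R ⧸ I) := by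
  rw [← (Algebra.TensorProduct.tensorQuotientEquiv (R := K) L R L I).toLinearEquiv.finrank_eq,
    Module.finrank_baseChange]

theorem nodeData_baseChange (h : NodeData K P) : NodeData L (ext K L P) := by
  obtain ⟨h, x, y, hx, hy, hspan, a, b, c, hd, hq⟩ := h
  let ι : R →ₐ[K] L ⊗[K] R := Algebra.TensorProduct.includeRight
  refine ⟨fun n => ?_, ι x, ι y, Ideal.mem_map_of_mem _ hx, Ideal.mem_map_of_mem _ hy, ?_,
    algebraMap K L a, algebraMap K L b, algebraMap K L c, ?_, ?_⟩
  · rw [ext, ← Ideal.map_pow, finrank_ext]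
    exact h n
  · refine (Ideal.map_mono hspan).trans (le_of_eq ?_)
    rw [Ideal.map_sup, Ideal.map_pow, Ideal.map_span, Set.image_pair]
  · intro h0
    apply hd
    apply (algebraMap K L).injective
    simpa [map_ofNat] using h0
  · rw [algebraMap_smul, algebraMap_smul, algebraMap_smul, ext, ← Ideal.map_pow]
    have := Ideal.mem_map_of_mem ι hq
    simpa [ι, TensorProduct.tmul_add, TensorProduct.tmul_smul] using this

set_option maxHeartbeats 1600000 in
theorem nodeData_of_baseChange [IsAlgClosed K] [IsAlgClosed L] (h : NodeData L (ext K L P)) : NodeData K P := by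
  let ι : R →ₐ[K] L ⊗[K] R := Algebra.TensorProduct.includeRight
  have hrank : ∀ n, Module.finrank K (R ⧸ P ^ n) = 2 * n - 1 := fun n => by
    rw [← finrank_ext (L := L) (P ^ n), ext, Ideal.map_pow]
    exact h.1 n
  have hfin : ∀ n, 0 < n → FiniteDimensional K (R ⧸ P ^ n) := fun n hn =>
    Module.finite_of_finrank_pos (by rw [hrank n]; omega)
  haveI := hfin 2 two_pos
  haveI := hfin 3 three_pos
  let q₂ := Ideal.Quotient.mkₐ K (P ^ 2)
  let π : R ⧸ P ^ 2 →ₐ[K] R ⧸ P ^ 1 := Ideal.Quotient.factorₐ K (Ideal.pow_le_pow_right (show 1 ≤ 2 by norm_num))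
  have hπ : Function.Surjective π :=
    Ideal.Quotient.factor_surjective (Ideal.pow_le_pow_right (show 1 ≤ 2 by norm_num))
  have hdimV : Module.finrank K (LinearMap.ker π.toLinearMap) = 2 := by
    have := π.toLinearMap.finrank_range_add_finrank_ker
    rw [LinearMap.range_eq_top.2 hπ, finrank_top, hrank 1, hrank 2] at this
    omega
  let B := Module.finBasisOfFinrankEq K _ hdimV
  obtain ⟨x, hx⟩ := Ideal.Quotient.mk_surjective (B 0 : R ⧸ P ^ 2)
  obtain ⟨y, hy⟩ := Ideal.Quotient.mk_surjective (B 1 : R ⧸ P ^ 2)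
  have hker : ∀ r, r ∈ P ↔ q₂ r ∈ LinearMap.ker π.toLinearMap := fun r => by
    rw [LinearMap.mem_ker]
    change _ ↔ Ideal.Quotient.factor (Ideal.pow_le_pow_right (show 1 ≤ 2 by norm_num))
      (Ideal.Quotient.mk (P ^ 2) r) = 0
    rw [Ideal.Quotient.factor_mk, Ideal.Quotient.eq_zero_iff_mem, pow_one]
  have hxP : x ∈ P := (hker x).2 (by change Ideal.Quotient.mk _ x ∈ _; rw [hx]; exact (B 0).2)
  have hyP : y ∈ P := (hker y).2 (by change Ideal.Quotient.mk _ y ∈ _; rw [hy]; exact (B 1).2)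
  have hspan : P ≤ Ideal.span {x, y} ⊔ P ^ 2 := fun r hr => by
    let v : LinearMap.ker π.toLinearMap := ⟨q₂ r, (hker r).1 hr⟩
    have hv : B.repr v 0 • (B 0 : R ⧸ P ^ 2) + B.repr v 1 • (B 1 : R ⧸ P ^ 2) = q₂ r := by
      have := congrArg Subtype.val (B.sum_repr v)
      simp only [Fin.sum_univ_two, Submodule.coe_add, Submodule.coe_smul] at this
      exact this
    refine Submodule.mem_sup.2 ⟨B.repr v 0 • x + B.repr v 1 • y, ?_,
      r - (B.repr v 0 • x + B.repr v 1 • y), ?_, by ring⟩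
    · exact add_mem (Submodule.smul_of_tower_mem _ _ (Ideal.subset_span (Set.mem_insert _ _)))
        (Submodule.smul_of_tower_mem _ _ (Ideal.subset_span (Set.mem_insert_of_mem _ rfl)))
    · refine Ideal.Quotient.eq_zero_iff_mem.1 (?_ : q₂ _ = 0)
      rw [map_sub, map_add, map_smul, map_smul]
      change q₂ r - (_ • Ideal.Quotient.mk _ x + _ • Ideal.Quotient.mk _ y) = 0
      rw [hx, hy, hv, sub_self]
  -- a linear relation among the quadratic monomials
  let π₃ : R ⧸ P ^ 3 →ₐ[K] R ⧸ P ^ 2 := Ideal.Quotient.factorₐ K (Ideal.pow_le_pow_right (show 2 ≤ 3 by norm_num))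
  have hdimW : Module.finrank K (LinearMap.ker π₃.toLinearMap) = 2 := by
    have := π₃.toLinearMap.finrank_range_add_finrank_ker
    rw [LinearMap.range_eq_top.2 (show Function.Surjective π₃.toLinearMap from
      Ideal.Quotient.factor_surjective (Ideal.pow_le_pow_right (show 2 ≤ 3 by norm_num))), finrank_top,
      hrank 2, hrank 3] at this
    omega
  let mon : Fin 3 → LinearMap.ker π₃.toLinearMap := ![
    ⟨Ideal.Quotient.mk _ (x ^ 2), Ideal.Quotient.eq_zero_iff_mem.2 (Ideal.pow_mem_pow hxP 2)⟩,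
    ⟨Ideal.Quotient.mk _ (x * y), Ideal.Quotient.eq_zero_iff_mem.2 (by rw [pow_two]; exact Ideal.mul_mem_mul hxP hyP)⟩,
    ⟨Ideal.Quotient.mk _ (y ^ 2), Ideal.Quotient.eq_zero_iff_mem.2 (Ideal.pow_mem_pow hyP 2)⟩]
  have hdep : ¬ LinearIndependent K mon := fun hli => by
    have := hli.fintype_card_le_finrank
    rw [Fintype.card_fin, hdimW] at this
    omega
  obtain ⟨g, hg, hne⟩ := Fintype.not_linearIndependent_iff.1 hdep
  have hq : g 0 • x ^ 2 + g 1 • (x * y) + g 2 • y ^ 2 ∈ P ^ 3 := by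
    refine Ideal.Quotient.eq_zero_iff_mem.1 ?_
    have := congrArg Subtype.val hg
    rw [Fin.sum_univ_three] at this
    change Ideal.Quotient.mkₐ K (P ^ 3) _ = 0
    rw [map_add, map_add, map_smul, map_smul, map_smul]
    simp only [Submodule.coe_add, Submodule.coe_smul, Submodule.coe_zero] at this
    exact this
  refine ⟨hrank, x, y, hxP, hyP, hspan, g 0, g 1, g 2, fun hdisc => ?_, hq⟩
  -- a degenerate relation gives an element outside the square with square in the cube
  have key : ∀ u ∈ P, u ^ 2 ∈ P ^ 3 → q₂ u = 0 := fun u hu hu2 => by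
    change Ideal.Quotient.mk (P ^ 2) u = 0
    refine Ideal.Quotient.eq_zero_iff_mem.2 ((mk_mem_ext_iff (K := K) (L := L) (P ^ 2) u).1 ?_)
    rw [ext, Ideal.map_pow]
    refine mem_sq_of_sq_mem h (Ideal.mem_map_of_mem _ hu) ?_
    rw [← map_pow, ← Ideal.map_pow]
    exact Ideal.mem_map_of_mem _ hu2
  have hind : ∀ s t : K, q₂ (s • x + t • y) = 0 → s = 0 ∧ t = 0 := fun s t h0 => by
    have h1 : s • B 0 + t • B 1 = 0 := Subtype.ext (by
      simp only [Submodule.coe_add, Submodule.coe_smul, Submodule.coe_zero, ← hx, ← hy]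
      rw [map_add, map_smul, map_smul] at h0
      exact h0)
    have := Fintype.linearIndependent_iff.1 B.linearIndependent ![s, t] (by simpa [Fin.sum_univ_two] using h1)
    exact ⟨this 0, this 1⟩
  by_cases ha : g 0 = 0
  · have hb : g 1 = 0 := by
      apply eq_zero_of_pow_eq_zero (n := 2)
      rw [ha] at hdisc
      linear_combination hdisc
    have hc : g 2 ≠ 0 := fun hc => by
      obtain ⟨i, hi⟩ := hne
      match i, hi with
      | 0, hi => exact hi ha
      | 1, hi => exact hi hb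
      | 2, hi => exact hi hc
    have h2 : y ^ 2 ∈ P ^ 3 := by
      have := Submodule.smul_of_tower_mem (P ^ 3) (g 2)⁻¹ hq
      simpa [ha, hb, smul_smul, inv_mul_cancel₀ hc] using this
    exact one_ne_zero (hind 0 1 (by simpa using key y hyP h2)).2
  · obtain ⟨r, hr⟩ := exists_root_quadratic ha (g 1) (g 2)
    have hb2 : 2 * g 0 * r + g 1 = 0 := by
      apply eq_zero_of_pow_eq_zero (n := 2)
      linear_combination hdisc + 4 * g 0 * hr
    have h2 : (x - r • y) ^ 2 ∈ P ^ 3 := by
      have := Submodule.smul_of_tower_mem (P ^ 3) (g 0)⁻¹ hq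
      convert this using 1
      have hb' : g 1 = -(2 * g 0 * r) := by linear_combination hb2
      have hc' : g 2 = g 0 * r ^ 2 := by linear_combination hr - r * hb2
      rw [hb', hc']
      simp only [Algebra.smul_def, map_mul, map_neg, map_pow, map_ofNat]
      have e1 : algebraMap K R (g 0)⁻¹ * algebraMap K R (g 0) = 1 := by
        rw [← map_mul, inv_mul_cancel₀ ha, map_one]
      linear_combination -(x - algebraMap K R r * y) ^ 2 * e1
    exact one_ne_zero (hind 1 (-r) (by
      rw [one_smul, neg_smul, ← sub_eq_add_neg]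
      exact key _ (sub_mem hxP (P.smul_of_tower_mem r hyP)) h2)).1

end FieldExt

section EtaleLevels

open IsLocalRing

/-- Transfer along a flat unramified local map with the same residue field. -/
theorem nodeData_iff_of_flat_unramified {A B : Type u} [CommRing A] [CommRing B] [IsLocalRing A] [IsLocalRing B]
    [Algebra K A] [Algebra K B] (φ : A →ₐ[K] B) (hflat : φ.toRingHom.Flat) [IsLocalHom φ.toRingHom]
    (hmax : (maximalIdeal A).map φ = maximalIdeal B) (hres : ∀ b, ∃ a, φ a - b ∈ maximalIdeal B) :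
    NodeData K (maximalIdeal A) ↔ NodeData K (maximalIdeal B) := by
  letI := φ.toRingHom.toAlgebra
  haveI : Module.Flat A B := hflat
  haveI : IsLocalHom (algebraMap A B) := ‹IsLocalHom φ.toRingHom›
  haveI := Module.FaithfullyFlat.of_flat_of_isLocalHom (A := A) (B := B)
  have hpow : ∀ n, (maximalIdeal A ^ n).map φ = maximalIdeal B ^ n := fun n => by rw [Ideal.map_pow, hmax]
  refine nodeData_iff_of_levels φ (fun n r hr => hpow n ▸ Ideal.mem_map_of_mem _ hr) (fun n r hr => ?_) (fun n => ?_)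
  · rw [← hpow n] at hr
    exact (Ideal.comap_map_eq_self_of_faithfullyFlat (B := B) (maximalIdeal A ^ n)).le hr
  · induction n with
    | zero => exact fun b => ⟨0, by simp⟩
    | succ n ih =>
      intro b
      obtain ⟨a, ha⟩ := ih b
      suffices hs : ∀ s ∈ (maximalIdeal A ^ n).map φ, ∃ a', φ a' - s ∈ maximalIdeal B ^ (n + 1) by
        obtain ⟨a', ha'⟩ := hs (φ a - b) (by rw [hpow]; exact ha)
        exact ⟨a - a', by rw [map_sub, show φ a - φ a' - b = -(φ a' - (φ a - b)) by ring]; exact neg_mem ha'⟩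
      intro s hs
      induction hs using Submodule.span_induction with
      | mem z hz =>
        obtain ⟨p, hp, rfl⟩ := hz
        exact ⟨p, by simp⟩
      | zero => exact ⟨0, by simp⟩
      | add z w _ _ hz hw =>
        obtain ⟨a₁, h₁⟩ := hz
        obtain ⟨a₂, h₂⟩ := hw
        exact ⟨a₁ + a₂, by rw [map_add, show φ a₁ + φ a₂ - (z + w) = φ a₁ - z + (φ a₂ - w) by ring]; exact add_mem h₁ h₂⟩
      | smul c z hz' hz =>
        obtain ⟨a₁, h₁⟩ := hz
        obtain ⟨a₂, h₂⟩ := hres c
        refine ⟨a₂ * a₁, ?_⟩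
        have hz2 : z ∈ maximalIdeal B ^ n := by
          rw [← hpow]
          exact hz'
        rw [smul_eq_mul, map_mul, show φ a₂ * φ a₁ - c * z = (φ a₂ - c) * z + φ a₂ * (φ a₁ - z) by ring]
        exact add_mem (by rw [pow_succ']; exact Ideal.mul_mem_mul h₂ hz2) (Ideal.mul_mem_left _ _ h₁)

end EtaleLevels

end Groth.Agent.Nodal27
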