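import Groth.Agent.Lib.Nodal27.Scheme

/-!
# Nodal families through geometric points
-/

set_option autoImplicit false
set_option linter.style.haveILetI false
set_option backward.isDefEq.respectTransparency.types false

universe u

open CategoryTheory CategoryTheory.Limits AlgebraicGeometry IsLocalRing

noncomputable section

namespace Groth.Agent.Nodal27

variable {X Y S : Scheme.{u}}

/-- Every geometric fibre is a nodal curve. -/
def FamGood (f : X ⟶ S) [LocallyOfFiniteType f] : Prop :=
  ∀ (L : Type u) [Field L] [IsAlgClosed L] (t : Spec (CommRingCat.of L) ⟶ S), Good (pullback.snd f t)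

theorem fibre_iff (f : X ⟶ S) [LocallyOfFiniteType f] (s : S) :
    ((∀ Z ∈ irreducibleComponents (f.fiber s : Type u), topologicalKrullDim Z = 1) ∧
      letI : (f.fiber s).Over (Spec (S.residueField s)) := ⟨f.fiberToSpecResidueField s⟩
      Curv2.AtWorstNodal (S.residueField s) (f.fiber s)) ↔
    Good (pullback.snd f (Spec.map (CommRingCat.ofHom (algebraMap (S.residueField s)
      (AlgebraicClosure (S.residueField s)))) ≫ S.fromSpecResidueField s)) := by
  letI : (f.fiber s).Over (Spec (CommRingCat.of (S.residueField s))) := ⟨f.fiberToSpecResidueField s⟩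
  haveI : LocallyOfFiniteType ((f.fiber s) ↘ Spec (CommRingCat.of (S.residueField s))) :=
    inferInstanceAs (LocallyOfFiniteType (pullback.snd f _))
  rw [← good_bar_iff (f.fiber s) (S.residueField s)]
  exact good_congr (pullbackLeftPullbackSndIso f (S.fromSpecResidueField s) _)
    (pullbackLeftPullbackSndIso_hom_snd _ _ _)

theorem famGood_iff_fibres (f : X ⟶ S) [LocallyOfFiniteType f] :
    FamGood f ↔ ∀ s : S, Good (pullback.snd f (Spec.map (CommRingCat.ofHom (algebraMap (S.residueField s)
      (AlgebraicClosure (S.residueField s)))) ≫ S.fromSpecResidueField s)) := by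
  refine ⟨fun h s => h _ _, fun h L _ _ t => ?_⟩
  obtain ⟨⟨s, φ⟩, rfl⟩ := (Scheme.SpecToEquivOfField L S).symm.surjective t
  letI : Algebra (S.residueField s) L := φ.hom.toAlgebra
  let i : AlgebraicClosure (S.residueField s) →ₐ[S.residueField s] L := IsAlgClosed.lift
  have ht : (Scheme.SpecToEquivOfField L S).symm ⟨s, φ⟩ = Spec.map (CommRingCat.ofHom i.toRingHom) ≫
      Spec.map (CommRingCat.ofHom (algebraMap (S.residueField s) (AlgebraicClosure (S.residueField s)))) ≫
        S.fromSpecResidueField s := by
    rw [← Category.assoc, ← Spec.map_comp, ← CommRingCat.ofHom_comp]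
    show Spec.map φ ≫ _ = _
    congr 2
    exact CommRingCat.hom_ext i.comp_algebraMap.symm
  rw [ht]
  exact (good_pullback_iff f _ _).2 (h s)

theorem famGood_of_isNodalFamily (f : X ⟶ S) [LocallyOfFiniteType f] (hf : Curv2.IsNodalFamily f) : FamGood f :=
  (famGood_iff_fibres f).2 fun s => (fibre_iff f s).1 (hf.2.2 s)

theorem isNodalFamily_of_famGood (f : X ⟶ S) [LocallyOfFinitePresentation f] [Flat f] (h : FamGood f) :
    Curv2.IsNodalFamily f :=
  ⟨inferInstance, inferInstance, fun s => (fibre_iff f s).2 ((famGood_iff_fibres f).1 h s)⟩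

theorem famGood_baseChange {S' : Scheme.{u}} (f : X ⟶ S) [LocallyOfFiniteType f] (h : FamGood f) (g : S' ⟶ S) :
    FamGood (pullback.snd f g) := fun L _ _ t =>
  (good_congr (pullbackLeftPullbackSndIso f g t) (pullbackLeftPullbackSndIso_hom_snd _ _ _)).2 (h L (t ≫ g))

theorem famGood_of_surjective_baseChange {S' : Scheme.{u}} (f : X ⟶ S) [LocallyOfFiniteType f] (g : S' ⟶ S)
    [Surjective g] (h : FamGood (pullback.snd f g)) : FamGood f := fun L _ _ t => by
  haveI : Surjective (pullback.fst t g) := MorphismProperty.pullback_fst _ _ inferInstance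
  obtain ⟨z, -⟩ := (pullback.fst t g).surjective (closedPoint L)
  let M : Type u := AlgebraicClosure ((pullback t g).residueField z)
  let z' : Spec (CommRingCat.of M) ⟶ pullback t g :=
    Spec.map (CommRingCat.ofHom (algebraMap ((pullback t g).residueField z) M)) ≫ (pullback t g).fromSpecResidueField z
  rw [← good_pullback_iff f t (z' ≫ pullback.fst t g), Category.assoc, pullback.condition, ← Category.assoc]
  exact (good_congr (pullbackLeftPullbackSndIso f g (z' ≫ pullback.snd t g))
    (pullbackLeftPullbackSndIso_hom_snd _ _ _)).1 (h M (z' ≫ pullback.snd t g))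

theorem famGood_precomp_etale (f : X ⟶ S) [LocallyOfFiniteType f] (h : FamGood f) (g : Y ⟶ X) [Etale g] :
    FamGood (g ≫ f) := fun L _ _ t => by
  haveI : Etale (pullback.snd g (pullback.fst f t)) := MorphismProperty.pullback_snd _ _ inferInstance
  exact (good_congr (pullbackRightPullbackFstIso f t g) (pullbackRightPullbackFstIso_hom_snd _ _ _)).1
    (good_comp_etale (pullback.snd g (pullback.fst f t)) (pullback.snd f t) (h L t))

theorem famGood_of_etale_cover (f : X ⟶ S) [LocallyOfFiniteType f] {ι : Type*} (U : ι → Scheme.{u})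
    (g : ∀ i, U i ⟶ X) [∀ i, Etale (g i)] (hsurj : ∀ x : X, ∃ i, x ∈ Set.range (g i).base)
    (h : ∀ i, FamGood (g i ≫ f)) : FamGood f := fun L _ _ t => by
  refine good_of_cover _ fun x => ?_
  obtain ⟨i, u, hu⟩ := hsurj (pullback.fst f t x)
  haveI : Etale (pullback.snd (g i) (pullback.fst f t)) := MorphismProperty.pullback_snd _ _ inferInstance
  obtain ⟨z, -, hz⟩ := Scheme.Pullback.exists_preimage_pullback u x hu
  exact ⟨_, pullback.snd (g i) (pullback.fst f t), inferInstance, ⟨z, hz⟩,
    (good_congr (pullbackRightPullbackFstIso f t (g i)) (pullbackRightPullbackFstIso_hom_snd _ _ _)).2 (h i L t)⟩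

end Groth.Agent.Nodal27
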