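import Groth.Agent.Lib.Nodal27.Crit
import Mathlib.Algebra.MvPolynomial.PDeriv
import Mathlib.LinearAlgebra.Matrix.ToLinearEquiv
import Mathlib.RingTheory.Jacobson.Ring

/-!
# The Jacobian ideal at a node

For a presentation `π : K[X] → R` the ideal of `(n - 1)`-minors of the Jacobian matrices of relations
generates the maximal ideal of every node.
-/

set_option autoImplicit false
set_option linter.style.haveILetI false

universe u

open MvPolynomial Matrix

noncomputable section

namespace Groth.Agent.Nodal27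

variable {K : Type u} [Field K] {n : ℕ} {R : Type u} [CommRing R] [Algebra K R]

/-- The ideal of `(n - 1)`-minors of the Jacobian of the relations. -/
def jac (π : MvPolynomial (Fin n) K →ₐ[K] R) : Ideal R :=
  Ideal.span {z | ∃ (g : Fin (n - 1) → MvPolynomial (Fin n) K) (γ : Fin (n - 1) → Fin n),
    (∀ b, π (g b) = 0) ∧ z = π (Matrix.of fun b a => pderiv (γ a) (g b)).det}

theorem det_mem_of_row {A : Type*} [CommRing A] {ι : Type*} [Fintype ι] [DecidableEq ι] (I : Ideal A)
    (M : Matrix ι ι A) (b : ι) (h : ∀ a, M b a ∈ I) : M.det ∈ I := by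
  rw [Matrix.det_apply']
  refine sum_mem fun σ _ => Ideal.mul_mem_left _ _ ?_
  rw [← Finset.mul_prod_erase Finset.univ _ (Finset.mem_univ (σ⁻¹ b))]
  exact Ideal.mul_mem_right _ _ (by simpa using h (σ⁻¹ b))

variable (c : Fin n → K)

/-- The ideal of the point `c`. -/
def ptIdeal : Ideal (MvPolynomial (Fin n) K) := Ideal.span (Set.range fun i => X i - C (c i))

theorem sub_eval_mem (g : MvPolynomial (Fin n) K) : g - C (eval c g) ∈ ptIdeal c := by
  induction g using MvPolynomial.induction_on with
  | C r => simp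
  | add g h hg hh =>
    rw [map_add, map_add, show g + h - (C (eval c g) + C (eval c h)) = (g - C (eval c g)) + (h - C (eval c h)) by ring]
    exact add_mem hg hh
  | mul_X g i hg =>
    rw [map_mul, eval_X, map_mul, show g * X i - C (eval c g) * C (c i) =
      (g - C (eval c g)) * X i + C (eval c g) * (X i - C (c i)) by ring]
    exact add_mem (Ideal.mul_mem_right _ _ hg) (Ideal.mul_mem_left _ _ (Ideal.subset_span ⟨i, rfl⟩))

theorem eval_eq_zero {g : MvPolynomial (Fin n) K} (h : g ∈ ptIdeal c) : eval c g = 0 := by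
  refine (?_ : ptIdeal c ≤ RingHom.ker (eval c)) h
  rw [ptIdeal, Ideal.span_le]
  rintro _ ⟨i, rfl⟩
  simp

theorem taylor_mem (g : MvPolynomial (Fin n) K) :
    g - C (eval c g) - ∑ i, C (eval c (pderiv i g)) * (X i - C (c i)) ∈ ptIdeal c ^ 2 := by
  classical
  induction g using MvPolynomial.induction_on with
  | C r => simp
  | add g h hg hh =>
    simp only [map_add, add_mul, Finset.sum_add_distrib]
    convert add_mem hg hh using 1
    ring
  | mul_X g j hg =>
    have h1 : ∀ i, C (eval c (pderiv i (g * X j))) * (X i - C (c i)) =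
        (C (eval c (pderiv i g)) * (X i - C (c i))) * C (c j) +
          (if i = j then C (eval c g) * (X i - C (c i)) else 0) := fun i => by
      rw [pderiv_mul]
      by_cases hij : i = j
      · subst hij; rw [pderiv_X_self, if_pos rfl]; simp; ring
      · rw [pderiv_X_of_ne (Ne.symm hij), if_neg hij]; simp; ring
    simp only [h1, Finset.sum_add_distrib, Finset.sum_ite_eq', Finset.mem_univ, if_true, ← Finset.sum_mul, map_mul,
      eval_X]
    rw [show g * X j - C (eval c g) * C (c j) -
        ((∑ i, C (eval c (pderiv i g)) * (X i - C (c i))) * C (c j) + C (eval c g) * (X j - C (c j))) =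
      (g - C (eval c g) - ∑ i, C (eval c (pderiv i g)) * (X i - C (c i))) * C (c j) +
        (g - C (eval c g)) * (X j - C (c j)) by ring]
    refine add_mem (Ideal.mul_mem_right _ _ hg) ?_
    rw [pow_two]
    exact Ideal.mul_mem_mul (sub_eval_mem c g) (Ideal.subset_span ⟨j, rfl⟩)

theorem pderiv_pow_mem (i : Fin n) : ∀ (d : ℕ) {g : MvPolynomial (Fin n) K}, g ∈ ptIdeal c ^ (d + 1) →
    pderiv i g ∈ ptIdeal c ^ d
  | 0, _, _ => by rw [pow_zero, Ideal.one_eq_top]; trivial
  | d + 1, g, hg => by
    rw [pow_succ _ (d + 1)] at hg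
    refine Submodule.mul_induction_on hg (fun a ha b hb => ?_) fun a b ha hb => by rw [map_add]; exact add_mem ha hb
    rw [pderiv_mul]
    exact add_mem (by rw [pow_succ]; exact Ideal.mul_mem_mul (pderiv_pow_mem i d ha) hb) (Ideal.mul_mem_right _ _ ha)

variable (π : MvPolynomial (Fin n) K →ₐ[K] R) (hπ : Function.Surjective π) {P : Ideal R} [P.IsPrime]
  (hc : ∀ i, π (X i) - algebraMap K R (c i) ∈ P)

include hc in
theorem map_ptIdeal_le : (ptIdeal c).map π ≤ P := by
  rw [ptIdeal, Ideal.map_span, Ideal.span_le]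
  rintro _ ⟨_, ⟨i, rfl⟩, rfl⟩
  simpa using hc i

include hc in
theorem eval_eq_zero_of_mem {g : MvPolynomial (Fin n) K} (hg : π g ∈ P) : eval c g = 0 := by
  by_contra hne
  have h1 := map_ptIdeal_le c π hc (Ideal.mem_map_of_mem π (sub_eval_mem c g))
  rw [map_sub] at h1
  have h2 := sub_mem hg h1
  rw [sub_sub_cancel, ← MvPolynomial.algebraMap_eq, π.commutes] at h2
  exact Ideal.IsPrime.ne_top' (Ideal.eq_top_of_isUnit_mem _ h2 ((isUnit_iff_ne_zero.2 hne).map _))

include hπ hc in
theorem map_ptIdeal : (ptIdeal c).map π = P := by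
  refine le_antisymm (map_ptIdeal_le c π hc) fun r hr => ?_
  obtain ⟨g, rfl⟩ := hπ r
  have := Ideal.mem_map_of_mem π (sub_eval_mem c g)
  rwa [eval_eq_zero_of_mem c π hc hr, C_0, sub_zero] at this

include hπ hc in
theorem exists_lift {d : ℕ} {r : R} (hr : r ∈ P ^ d) : ∃ g ∈ ptIdeal c ^ d, π g = r := by
  rw [← map_ptIdeal c π hπ hc, ← Ideal.map_pow] at hr
  exact (Ideal.mem_map_iff_of_surjective π hπ).1 hr

omit [P.IsPrime] in
theorem smul_two_independent {x y : R} (h2 : Module.finrank K (R ⧸ P ^ 2) = 3) (h1 : Module.finrank K (R ⧸ P) = 1)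
    (hx : x ∈ P) (hy : y ∈ P) (hspan : P ≤ Ideal.span {x, y} ⊔ P ^ 2) (hres : ∀ r : R, ∃ t : K, r - algebraMap K R t ∈ P)
    {s t : K} (h : s • x + t • y ∈ P ^ 2) : s = 0 ∧ t = 0 := by
  by_contra hne
  -- otherwise one vector spans
  have key : ∀ z w : R, z ∈ P → w ∈ P → P ≤ Ideal.span {z, w} ⊔ P ^ 2 → (∃ m : K, w - m • z ∈ P ^ 2) → False := by
    intro z w hz hw hsp ⟨m, hm⟩
    let q := Ideal.Quotient.mkₐ K (P ^ 2)
    have htop : (⊤ : Submodule K (R ⧸ P ^ 2)) ≤ Submodule.span K ({q 1, q z} : Set (R ⧸ P ^ 2)) := by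
      intro a _
      obtain ⟨r, rfl⟩ := Ideal.Quotient.mkₐ_surjective K (P ^ 2) a
      obtain ⟨r0, hr0⟩ := hres r
      obtain ⟨v, hv, v2, hv2, hvr⟩ := Submodule.mem_sup.1 (hsp hr0)
      obtain ⟨α, β, rfl⟩ := Ideal.mem_span_pair.1 hv
      obtain ⟨α0, hα⟩ := hres α
      obtain ⟨β0, hβ⟩ := hres β
      refine Submodule.mem_span_pair.2 ⟨r0, α0 + β0 * m, ?_⟩
      rw [← map_smul, ← map_smul, ← map_add]
      refine Ideal.Quotient.eq.2 ?_
      rw [show r0 • (1 : R) + (α0 + β0 * m) • z - r = -((α - algebraMap K R α0) * z + (β - algebraMap K R β0) * w +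
        algebraMap K R β0 * (w - m • z) + v2) by simp only [Algebra.smul_def, map_add, map_mul]; linear_combination hvr]
      refine neg_mem (add_mem (add_mem (add_mem ?_ ?_) (Ideal.mul_mem_left _ _ hm)) hv2)
      · rw [pow_two]; exact Ideal.mul_mem_mul hα hz
      · rw [pow_two]; exact Ideal.mul_mem_mul hβ hw
    classical
    have h3 : Module.finrank K (R ⧸ P ^ 2) ≤ 2 := by
      rw [← finrank_top, ← top_le_iff.1 htop]
      have := finrank_span_finset_le_card (R := K) ({q 1, q z} : Finset _)
      rw [Set.finrank, Finset.coe_insert, Finset.coe_singleton] at this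
      exact this.trans Finset.card_le_two
    omega
  by_cases hs : s = 0
  · have ht : t ≠ 0 := fun ht => hne ⟨hs, ht⟩
    refine key x y hx hy hspan ⟨0, ?_⟩
    have := Submodule.smul_of_tower_mem (P ^ 2) t⁻¹ h
    simpa [hs, smul_smul, inv_mul_cancel₀ ht] using this
  · refine key y x hy hx (by rwa [Set.pair_comm] at hspan) ⟨-(s⁻¹ * t), ?_⟩
    have := Submodule.smul_of_tower_mem (P ^ 2) s⁻¹ h
    simpa [smul_add, smul_smul, inv_mul_cancel₀ hs, sub_eq_add_neg, neg_smul] using this

section Node

variable [IsAlgClosed K]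

include hπ hc in
/-- The Jacobian minors at a node lie in its ideal. -/
theorem jac_le (h : NodeData K P) : jac π ≤ P := by
  classical
  obtain ⟨hrank, x, y, hx, hy, hspan, -⟩ := h
  rw [jac, Ideal.span_le]
  rintro _ ⟨g, γ, hg, rfl⟩
  by_contra hdet
  have hd0 : eval c (Matrix.of fun b a => pderiv (γ a) (g b)).det ≠ 0 := fun h0 => hdet (by
    have := map_ptIdeal_le c π hc (Ideal.mem_map_of_mem π
      (sub_eval_mem c (Matrix.of fun b a => pderiv (γ a) (g b)).det))
    rwa [h0, C_0, sub_zero] at this)
  -- linear parts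
  let V : Fin (n - 1) → (Fin n → K) := fun b i => eval c (pderiv i (g b))
  let e : (Fin n → K) →ₗ[K] R ⧸ P ^ 2 := Fintype.linearCombination K fun i => Ideal.Quotient.mk (P ^ 2) (π (X i) - algebraMap K R (c i))
  have hV : ∀ b, e (V b) = 0 := fun b => by
    have h1 : π (g b - C (eval c (g b)) - ∑ i, C (eval c (pderiv i (g b))) * (X i - C (c i))) ∈ P ^ 2 := by
      have := Ideal.mem_map_of_mem π (taylor_mem c (g b))
      rw [Ideal.map_pow, map_ptIdeal c π hπ hc] at this
      exact this
    have h0 : eval c (g b) = 0 := eval_eq_zero_of_mem c π hc (by rw [hg]; exact zero_mem _)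
    rw [h0, C_0, sub_zero, map_sub, hg, zero_sub, neg_mem_iff, map_sum] at h1
    rw [Fintype.linearCombination_apply, ← Ideal.Quotient.eq_zero_iff_mem.2 h1, map_sum]
    refine Finset.sum_congr rfl fun i _ => ?_
    rw [← Ideal.Quotient.mkₐ_eq_mk K, ← map_smul]
    congr 1
    rw [map_mul, map_sub, ← MvPolynomial.algebraMap_eq, π.commutes, π.commutes, Algebra.smul_def]
  have hli : LinearIndependent K V := by
    rw [Fintype.linearIndependent_iff]
    intro a ha b
    let N : Matrix (Fin (n - 1)) (Fin (n - 1)) K := Matrix.of fun b a => eval c (pderiv (γ a) (g b))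
    have hN : N.det ≠ 0 := by
      have : N = (Matrix.of fun b a => pderiv (γ a) (g b)).map (eval c) := rfl
      rw [this, ← RingHom.mapMatrix_apply, ← RingHom.map_det]
      exact hd0
    have hmul : Matrix.vecMul a N = 0 := funext fun j => by
      have := congrFun ha (γ j)
      simpa [Matrix.vecMul, dotProduct, V, N] using this
    exact congrFun (by_contra fun hne => hN (Matrix.exists_vecMul_eq_zero_iff.1 ⟨a, hne, hmul⟩)) b
  have hres := fun r => exists_sub_mem hrank r
  have h1 : Module.finrank K (R ⧸ P) = 1 := by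
    have h2 := hrank 1
    rw [(Ideal.quotientEquivAlgOfEq K (pow_one P)).toLinearEquiv.finrank_eq] at h2
    simpa using h2
  haveI : FiniteDimensional K (R ⧸ P ^ 2) := Module.finite_of_finrank_pos (by rw [hrank 2]; norm_num)
  let q := Ideal.Quotient.mkₐ K (P ^ 2)
  have hxy : LinearIndependent K ![q x, q y] := LinearIndependent.pair_iff.2 fun s t hst => by
    rw [← map_smul, ← map_smul, ← map_add] at hst
    exact smul_two_independent (hrank 2) h1 hx hy hspan hres (Ideal.Quotient.eq_zero_iff_mem.1 hst)
  have hrange : 2 ≤ Module.finrank K (LinearMap.range e) := by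
    have hmem : ∀ r ∈ P, q r ∈ LinearMap.range e := fun r hr => by
      obtain ⟨w, rfl⟩ := hπ r
      refine ⟨fun i => eval c (pderiv i w), ?_⟩
      have h2 := Ideal.mem_map_of_mem π (taylor_mem c w)
      rw [Ideal.map_pow, map_ptIdeal c π hπ hc, eval_eq_zero_of_mem c π hc hr, C_0, sub_zero, map_sub, map_sum] at h2
      rw [Fintype.linearCombination_apply]
      refine Eq.trans ?_ (Ideal.Quotient.eq.2 h2).symm
      rw [map_sum]
      refine Finset.sum_congr rfl fun i _ => ?_
      rw [← Ideal.Quotient.mkₐ_eq_mk K, ← map_smul]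
      congr 1
      rw [map_mul, map_sub, ← MvPolynomial.algebraMap_eq, π.commutes, π.commutes, Algebra.smul_def]
    have hli2 : LinearIndependent K ![(⟨q x, hmem x hx⟩ : LinearMap.range e), ⟨q y, hmem y hy⟩] :=
      LinearIndependent.pair_iff.2 fun s t hst => LinearIndependent.pair_iff.1 hxy s t (congrArg Subtype.val hst)
    simpa using hli2.fintype_card_le_finrank
  have hker : n - 1 ≤ Module.finrank K (LinearMap.ker e) := by
    have hli' : LinearIndependent K fun b => (⟨V b, hV b⟩ : LinearMap.ker e) :=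
      LinearIndependent.of_comp (LinearMap.ker e).subtype hli
    simpa using hli'.fintype_card_le_finrank
  have htot := e.finrank_range_add_finrank_ker
  rw [Module.finrank_fintype_fun_eq_card, Fintype.card_fin] at htot
  omega

include hπ hc in
/-- One gradient entry of the quadratic relation. -/
theorem grad_mem {p q : Fin n} (hpq : p ≠ q) (α β : Fin n → K)
    (hlin : ∀ j, π (X j) - algebraMap K R (c j) -
      (α j • (π (X p) - algebraMap K R (c p)) + β j • (π (X q) - algebraMap K R (c q))) ∈ P ^ 2)
    (a b d : K) (hrel : a • (π (X p) - algebraMap K R (c p)) ^ 2 +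
      b • ((π (X p) - algebraMap K R (c p)) * (π (X q) - algebraMap K R (c q))) +
        d • (π (X q) - algebraMap K R (c q)) ^ 2 ∈ P ^ 3) :
    (2 * a) • (π (X p) - algebraMap K R (c p)) + b • (π (X q) - algebraMap K R (c q)) ∈ jac π ⊔ P ^ 2 := by
  classical
  let u : Fin n → MvPolynomial (Fin n) K := fun i => X i - C (c i)
  have hu : ∀ i, π (u i) = π (X i) - algebraMap K R (c i) := fun i => by
    rw [map_sub, ← MvPolynomial.algebraMap_eq, π.commutes]
  have hupd : ∀ i j, pderiv i (u j) = if i = j then 1 else 0 := fun i j => by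
    simp only [u, map_sub, pderiv_C, sub_zero]
    split_ifs with h
    · rw [h, pderiv_X_self]
    · rw [pderiv_X_of_ne (Ne.symm h)]
  -- the quadratic relation
  obtain ⟨H, hH, hHe⟩ := exists_lift c π hπ hc hrel
  let G := C a * u p ^ 2 + C b * (u p * u q) + C d * u q ^ 2 - H
  have hG : π G = 0 := by
    simp only [G, map_sub, map_add, map_mul, map_pow, hu, hHe, ← MvPolynomial.algebraMap_eq, π.commutes,
      Algebra.smul_def]
    rw [sub_eq_zero]
  -- the linear relations
  have hex : ∀ j, ∃ f, π f = 0 ∧ ∀ i, pderiv i f -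
      (if i = j then 1 else 0) + (if i = p then C (α j) else 0) + (if i = q then C (β j) else 0) ∈ ptIdeal c := by
    intro j
    obtain ⟨h, hh, he⟩ := exists_lift c π hπ hc (hlin j)
    refine ⟨u j - (C (α j) * u p + C (β j) * u q) - h, ?_, fun i => ?_⟩
    · rw [map_sub, map_sub, map_add, map_mul, map_mul, he, hu, hu, hu, ← MvPolynomial.algebraMap_eq, π.commutes,
        π.commutes, Algebra.smul_def, Algebra.smul_def, sub_self]
    · have h1 : pderiv i h ∈ ptIdeal c := by simpa using pderiv_pow_mem c i 1 hh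
      rw [map_sub, map_sub, map_add, pderiv_mul, pderiv_mul, pderiv_C, pderiv_C, hupd, hupd, hupd]
      convert neg_mem h1 using 1
      split_ifs <;> ring
  choose f hf hfd using hex
  let F : Fin n → MvPolynomial (Fin n) K := fun j => if j = p then G else f j
  let ι := {i : Fin n // i ≠ q}
  let ε : Fin (n - 1) ≃ ι := Fintype.equivOfCardEq (by
    rw [Fintype.card_fin, Fintype.card_subtype_compl, Fintype.card_fin, Fintype.card_subtype_eq])
  let M : Matrix ι ι (MvPolynomial (Fin n) K) := Matrix.of fun b a => pderiv a.1 (F b.1)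
  have hmem : π M.det ∈ jac π := by
    refine Ideal.subset_span ⟨fun b => F (ε b).1, fun a => (ε a).1, fun b => ?_, ?_⟩
    · simp only [F]; split_ifs
      · exact hG
      · exact hf _
    · exact congrArg π (Matrix.det_submatrix_equiv_self ε M).symm
  let l : MvPolynomial (Fin n) K := C (2 * a) * u p + C b * u q
  let p' : ι := ⟨p, hpq⟩
  let row : ι → MvPolynomial (Fin n) K := fun a => if a = p' then 1 else 0
  have hrow : ∀ s : ι, M p' s - l * row s ∈ ptIdeal c ^ 2 := fun s => by
    have h1 : pderiv s.1 H ∈ ptIdeal c ^ 2 := pderiv_pow_mem c s.1 2 hH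
    have hsq : s.1 ≠ q := s.2
    by_cases hs : s = p'
    · have hs1 : s.1 = p := congrArg Subtype.val hs
      have hnq : p ≠ q := hpq
      simp only [M, Matrix.of_apply, F, row, G, map_sub, map_add, pderiv_mul, pderiv_pow, pderiv_C, hupd,
        show p'.1 = p from rfl, if_true, hs1, if_pos hs, if_neg hnq]
      rw [hs1] at h1
      convert neg_mem h1 using 1
      simp only [l, map_mul, map_ofNat]; push_cast; ring
    · have hs1 : s.1 ≠ p := fun h => hs (Subtype.ext h)
      simp only [M, Matrix.of_apply, F, row, G, map_sub, map_add, pderiv_mul, pderiv_pow, pderiv_C, hupd,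
        show p'.1 = p from rfl, if_true, if_neg hs, if_neg hs1, if_neg hsq]
      convert neg_mem h1 using 1
      push_cast; ring
  have hdet : M.det - l * (M.updateRow p' row).det ∈ ptIdeal c ^ 2 := by
    have e0 : M = M.updateRow p' ((fun s => M p' s - l * row s) + l • row) := by
      refine Matrix.ext fun i j => ?_
      by_cases hi : i = p'
      · subst hi; simp
      · rw [Matrix.updateRow_ne hi]
    have e1 : M.det = (M.updateRow p' fun s => M p' s - l * row s).det + l * (M.updateRow p' row).det := by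
      rw [← Matrix.det_updateRow_smul, ← Matrix.det_updateRow_add]
      exact congrArg Matrix.det e0
    rw [e1, add_sub_cancel_right]
    exact det_mem_of_row _ _ p' fun s => by rw [Matrix.updateRow_self]; exact hrow s
  have hd0 : eval c (M.updateRow p' row).det ≠ 0 := by
    rw [RingHom.map_det, RingHom.mapMatrix_apply]
    intro h0
    obtain ⟨v, hv, hmul⟩ := Matrix.exists_mulVec_eq_zero_iff.2 h0
    refine hv (funext fun j => ?_)
    have hp0 : v p' = 0 := by
      have := congrFun hmul p'
      simp only [Matrix.mulVec, dotProduct, Matrix.map_apply, Matrix.updateRow_self, row, apply_ite (eval c), map_one,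
        map_zero, ite_mul, one_mul, zero_mul, Pi.zero_apply] at this
      rwa [Finset.sum_eq_single p' (fun b _ hb => if_neg hb) (by simp), if_pos rfl] at this
    by_cases hj : j = p'
    · rw [hj]; exact hp0
    · have hj' : j.1 ≠ p := fun h => hj (Subtype.ext h)
      have hentry : ∀ s : ι, eval c ((M.updateRow p' row) j s) =
          (if s = j then 1 else 0) - (if s = p' then α j.1 else 0) := fun s => by
        rw [Matrix.updateRow_ne hj]
        have := eval_eq_zero c (hfd j.1 s.1)
        simp only [M, Matrix.of_apply, F, if_neg hj', map_add, map_sub, if_neg s.2, map_zero, add_zero,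
          apply_ite (eval c), map_one, eval_C] at this ⊢
        by_cases hsj : s = j
        · have hsj1 : s.1 = j.1 := congrArg Subtype.val hsj
          have hsp : s ≠ p' := fun h => hj (hsj.symm.trans h)
          have hsp1 : s.1 ≠ p := fun h => hsp (Subtype.ext h)
          simp only [if_pos hsj1, if_neg hsp1, if_pos hsj, if_neg hsp] at this ⊢
          linear_combination this
        · have hsj1 : s.1 ≠ j.1 := fun h => hsj (Subtype.ext h)
          by_cases hsp : s = p'
          · have hsp1 : s.1 = p := congrArg Subtype.val hsp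
            simp only [if_neg hsj1, if_pos hsp1, if_neg hsj, if_pos hsp] at this ⊢
            linear_combination this
          · have hsp1 : s.1 ≠ p := fun h => hsp (Subtype.ext h)
            simp only [if_neg hsj1, if_neg hsp1, if_neg hsj, if_neg hsp] at this ⊢
            linear_combination this
      have := congrFun hmul j
      simp only [Matrix.mulVec, dotProduct, Matrix.map_apply, hentry, sub_mul, ite_mul, one_mul, zero_mul,
        Finset.sum_sub_distrib, Pi.zero_apply] at this
      rwa [Finset.sum_eq_single j (fun b _ hb => if_neg hb) (by simp), if_pos rfl,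
        Finset.sum_eq_single p' (fun b _ hb => if_neg hb) (by simp), if_pos rfl, hp0, mul_zero, sub_zero] at this
  -- divide by the unit
  let d0 := π (M.updateRow p' row).det
  have hl : π l = (2 * a) • (π (X p) - algebraMap K R (c p)) + b • (π (X q) - algebraMap K R (c q)) := by
    simp only [l, map_add, map_mul, hu, ← MvPolynomial.algebraMap_eq, π.commutes, Algebra.smul_def]
  rw [← hl]
  have hd : d0 - algebraMap K R (eval c (M.updateRow p' row).det) ∈ P := by
    have := map_ptIdeal_le c π hc (Ideal.mem_map_of_mem π (sub_eval_mem c (M.updateRow p' row).det))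
    rwa [map_sub, ← MvPolynomial.algebraMap_eq, π.commutes] at this
  set e := eval c (M.updateRow p' row).det
  have h1 : π l * d0 ∈ jac π ⊔ P ^ 2 := by
    have h2 := Ideal.mem_map_of_mem π hdet
    rw [Ideal.map_pow, map_ptIdeal c π hπ hc, map_sub, map_mul] at h2
    rw [show π l * d0 = π M.det - (π M.det - π l * d0) by ring]
    exact sub_mem (Ideal.mem_sup_left hmem) (Ideal.mem_sup_right h2)
  have h2 : π l * algebraMap K R e ∈ jac π ⊔ P ^ 2 := by
    rw [show π l * algebraMap K R e = π l * d0 - π l * (d0 - algebraMap K R e) by ring]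
    refine sub_mem h1 (Ideal.mem_sup_right ?_)
    rw [pow_two]
    refine Ideal.mul_mem_mul ?_ hd
    rw [hl]
    exact add_mem (P.smul_of_tower_mem _ (hc p)) (P.smul_of_tower_mem _ (hc q))
  rw [show π l = algebraMap K R e⁻¹ * (π l * algebraMap K R e) by
    rw [mul_comm (π l), ← mul_assoc, ← map_mul, inv_mul_cancel₀ hd0, map_one, one_mul]]
  exact Ideal.mul_mem_left _ _ h2

include hπ hc in
/-- The Jacobian ideal fills the cotangent space of a node. -/
theorem le_jac_sup (h : NodeData K P) : P ≤ jac π ⊔ P ^ 2 := by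
  classical
  obtain ⟨hrank, x, y, hx, hy, hspan, a, b, d, hdisc, hrel⟩ := h
  have h1 : Module.finrank K (R ⧸ P) = 1 := by
    have h2 := hrank 1
    rw [(Ideal.quotientEquivAlgOfEq K (pow_one P)).toLinearEquiv.finrank_eq] at h2
    simpa using h2
  have hres := fun r => exists_sub_mem hrank r
  let e : Fin n → R := fun i => π (X i) - algebraMap K R (c i)
  -- coordinates of elements of `P` modulo `P ^ 2`
  have hcoord : ∀ r ∈ P, ∃ s t : K, r - (s • x + t • y) ∈ P ^ 2 := fun r hr => by
    obtain ⟨v, hv, z, hz, rfl⟩ := Submodule.mem_sup.1 (hspan hr)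
    obtain ⟨α, β, rfl⟩ := Ideal.mem_span_pair.1 hv
    obtain ⟨s, hs⟩ := hres α
    obtain ⟨t, ht⟩ := hres β
    refine ⟨s, t, ?_⟩
    rw [Algebra.smul_def, Algebra.smul_def, show α * x + β * y + z - (algebraMap K R s * x + algebraMap K R t * y) =
      (α - algebraMap K R s) * x + (β - algebraMap K R t) * y + z by ring]
    exact add_mem (add_mem (by rw [pow_two]; exact Ideal.mul_mem_mul hs hx)
      (by rw [pow_two]; exact Ideal.mul_mem_mul ht hy)) hz
  choose s t hst using fun i => hcoord (e i) (hc i)
  obtain ⟨p, q, hpq, hD⟩ : ∃ p q, p ≠ q ∧ s p * t q - s q * t p ≠ 0 := by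
    by_contra! hall
    -- otherwise the cotangent space is a line
    have hgen : ∀ r ∈ P, ∃ v : Fin n → K, r - ∑ i, v i • e i ∈ P ^ 2 := fun r hr => by
      obtain ⟨w, rfl⟩ := hπ r
      refine ⟨fun i => eval c (pderiv i w), ?_⟩
      have h2 := Ideal.mem_map_of_mem π (taylor_mem c w)
      rw [Ideal.map_pow, map_ptIdeal c π hπ hc, eval_eq_zero_of_mem c π hc hr, C_0, sub_zero, map_sub, map_sum] at h2
      convert h2 using 2
      refine Finset.sum_congr rfl fun i _ => ?_
      rw [map_mul, map_sub, ← MvPolynomial.algebraMap_eq, π.commutes, π.commutes, Algebra.smul_def]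
    obtain ⟨vx, hvx⟩ := hgen x hx
    obtain ⟨vy, hvy⟩ := hgen y hy
    have hexp : ∀ v : Fin n → K, (∑ i, v i • e i) - ((∑ i, v i * s i) • x + (∑ i, v i * t i) • y) ∈ P ^ 2 := fun v => by
      rw [Finset.sum_smul, Finset.sum_smul, ← Finset.sum_add_distrib, ← Finset.sum_sub_distrib]
      refine sum_mem fun i _ => ?_
      rw [mul_smul, mul_smul, ← smul_add, ← smul_sub]
      exact Submodule.smul_of_tower_mem _ _ (hst i)
    have hx' := smul_two_independent (hrank 2) h1 hx hy hspan hres
      (s := 1 - ∑ i, vx i * s i) (t := -∑ i, vx i * t i) (by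
        have h0 := add_mem hvx (hexp vx)
        rw [sub_add_sub_cancel] at h0
        convert h0 using 1
        rw [sub_smul, one_smul, neg_smul]; ring)
    have hy' := smul_two_independent (hrank 2) h1 hx hy hspan hres
      (s := -∑ i, vy i * s i) (t := 1 - ∑ i, vy i * t i) (by
        have h0 := add_mem hvy (hexp vy)
        rw [sub_add_sub_cancel] at h0
        convert h0 using 1
        rw [sub_smul, one_smul, neg_smul]; ring)
    have hzero : (∑ i, vx i * s i) * (∑ i, vy i * t i) - (∑ i, vx i * t i) * (∑ i, vy i * s i) = 0 := by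
      rw [Finset.sum_mul_sum, Finset.sum_mul_sum, ← Finset.sum_sub_distrib]
      refine Finset.sum_eq_zero fun i _ => ?_
      rw [← Finset.sum_sub_distrib]
      refine Finset.sum_eq_zero fun j _ => ?_
      rcases eq_or_ne i j with rfl | hij
      · ring
      · linear_combination vx i * vy j * hall i j hij
    have e1 : (∑ i, vx i * s i) = 1 := by linear_combination -hx'.1
    have e2 : (∑ i, vy i * t i) = 1 := by linear_combination -hy'.2
    have e3 : (∑ i, vx i * t i) = 0 := by linear_combination -hx'.2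
    rw [e1, e2, e3] at hzero
    simp at hzero
  set D := s p * t q - s q * t p
  -- `x` and `y` in the new coordinates
  let x1 := t q * D⁻¹
  let x2 := -(t p * D⁻¹)
  let y1 := -(s q * D⁻¹)
  let y2 := s p * D⁻¹
  have hDD : (algebraMap K R (s p) * algebraMap K R (t q) - algebraMap K R (s q) * algebraMap K R (t p)) *
      algebraMap K R D⁻¹ = 1 := by
    rw [← map_mul, ← map_mul, ← map_sub, ← map_mul, mul_inv_cancel₀ hD, map_one]
  have hxn : x - (x1 • e p + x2 • e q) ∈ P ^ 2 := by
    have := add_mem (Submodule.smul_of_tower_mem (P ^ 2) x1 (hst p)) (Submodule.smul_of_tower_mem (P ^ 2) x2 (hst q))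
    convert neg_mem this using 1
    simp only [x1, x2, Algebra.smul_def, map_mul, map_neg]
    linear_combination (-x) * hDD
  have hyn : y - (y1 • e p + y2 • e q) ∈ P ^ 2 := by
    have := add_mem (Submodule.smul_of_tower_mem (P ^ 2) y1 (hst p)) (Submodule.smul_of_tower_mem (P ^ 2) y2 (hst q))
    convert neg_mem this using 1
    simp only [y1, y2, Algebra.smul_def, map_mul, map_neg]
    linear_combination (-y) * hDD
  have hlin : ∀ j, e j - ((s j * x1 + t j * y1) • e p + (s j * x2 + t j * y2) • e q) ∈ P ^ 2 := fun j => by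
    have := add_mem (hst j) (add_mem (Submodule.smul_of_tower_mem (P ^ 2) (s j) hxn)
      (Submodule.smul_of_tower_mem (P ^ 2) (t j) hyn))
    convert this using 1
    simp only [Algebra.smul_def, map_add, map_mul]
    ring
  let a' := a * x1 ^ 2 + b * x1 * y1 + d * y1 ^ 2
  let b' := 2 * a * x1 * x2 + b * (x1 * y2 + x2 * y1) + 2 * d * y1 * y2
  let d' := a * x2 ^ 2 + b * x2 * y2 + d * y2 ^ 2
  have hdisc' : b' ^ 2 - 4 * a' * d' ≠ 0 := by
    have : b' ^ 2 - 4 * a' * d' = (b ^ 2 - 4 * a * d) * (x1 * y2 - x2 * y1) ^ 2 := by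
      simp only [a', b', d']; ring
    rw [this]
    refine mul_ne_zero hdisc (pow_ne_zero 2 ?_)
    have h3 : (x1 * y2 - x2 * y1) = D * (D⁻¹ * D⁻¹) := by simp only [x1, x2, y1, y2, D]; ring
    rw [h3]
    exact mul_ne_zero hD (mul_ne_zero (inv_ne_zero hD) (inv_ne_zero hD))
  have hrel' : a' • e p ^ 2 + b' • (e p * e q) + d' • e q ^ 2 ∈ P ^ 3 := by
    set U := x1 • e p + x2 • e q
    set W := y1 • e p + y2 • e q
    have hU : U ∈ P := add_mem (P.smul_of_tower_mem _ (hc p)) (P.smul_of_tower_mem _ (hc q))
    have hW : W ∈ P := add_mem (P.smul_of_tower_mem _ (hc p)) (P.smul_of_tower_mem _ (hc q))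
    have hsplit : ∀ {z w : R}, z ∈ P → w ∈ P ^ 2 → z * w ∈ P ^ 3 := fun hz hw => by
      rw [pow_succ' P 2]; exact Ideal.mul_mem_mul hz hw
    have := sub_mem hrel (add_mem (add_mem (Submodule.smul_of_tower_mem (P ^ 3) a (hsplit (add_mem hx hU) hxn))
      (Submodule.smul_of_tower_mem (P ^ 3) b (add_mem (hsplit hU hyn) (hsplit hy hxn))))
      (Submodule.smul_of_tower_mem (P ^ 3) d (hsplit (add_mem hy hW) hyn)))
    convert this using 1
    simp only [U, W, a', b', d', Algebra.smul_def, map_add, map_mul, map_pow, map_ofNat]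
    ring
  have g1 := grad_mem c π hπ hc hpq (fun j => s j * x1 + t j * y1) (fun j => s j * x2 + t j * y2) hlin a' b' d' hrel'
  have g2 := grad_mem c π hπ hc hpq.symm (fun j => s j * x2 + t j * y2) (fun j => s j * x1 + t j * y1)
    (fun j => by rw [add_comm]; exact hlin j) d' b' a' (by
      rw [mul_comm (π (X q) - _)]
      convert hrel' using 1
      simp only [e]; ring)
  have hep : e p ∈ jac π ⊔ P ^ 2 := by
    have := Submodule.smul_of_tower_mem (jac π ⊔ P ^ 2) (4 * a' * d' - b' ^ 2)⁻¹
      (sub_mem (Submodule.smul_of_tower_mem (jac π ⊔ P ^ 2) (2 * d') g1) (Submodule.smul_of_tower_mem (jac π ⊔ P ^ 2) b' g2))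
    convert this using 1
    simp only [e, Algebra.smul_def, map_mul, map_ofNat]
    have h4 : algebraMap K R (4 * a' * d' - b' ^ 2)⁻¹ * (4 * algebraMap K R a' * algebraMap K R d' - algebraMap K R b' ^ 2) = 1 := by
      rw [← map_ofNat (algebraMap K R) 4, ← map_mul, ← map_mul, ← map_pow, ← map_sub, ← map_mul,
        inv_mul_cancel₀ (by intro h0; exact hdisc' (by linear_combination -h0)), map_one]
    linear_combination -(π (X p) - algebraMap K R (c p)) * h4
  have heq : e q ∈ jac π ⊔ P ^ 2 := by
    have := Submodule.smul_of_tower_mem (jac π ⊔ P ^ 2) (4 * a' * d' - b' ^ 2)⁻¹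
      (sub_mem (Submodule.smul_of_tower_mem (jac π ⊔ P ^ 2) (2 * a') g2) (Submodule.smul_of_tower_mem (jac π ⊔ P ^ 2) b' g1))
    convert this using 1
    simp only [e, Algebra.smul_def, map_mul, map_ofNat]
    have h4 : algebraMap K R (4 * a' * d' - b' ^ 2)⁻¹ * (4 * algebraMap K R a' * algebraMap K R d' - algebraMap K R b' ^ 2) = 1 := by
      rw [← map_ofNat (algebraMap K R) 4, ← map_mul, ← map_mul, ← map_pow, ← map_sub, ← map_mul,
        inv_mul_cancel₀ (by intro h0; exact hdisc' (by linear_combination -h0)), map_one]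
    linear_combination -(π (X q) - algebraMap K R (c q)) * h4
  intro r hr
  obtain ⟨u, v, huv⟩ := hcoord r hr
  have hall := add_mem (add_mem (Ideal.mem_sup_right (S := jac π) huv)
    (Submodule.smul_of_tower_mem (jac π ⊔ P ^ 2) u (add_mem (Ideal.mem_sup_right (S := jac π) hxn)
      (add_mem (Submodule.smul_of_tower_mem (jac π ⊔ P ^ 2) x1 hep) (Submodule.smul_of_tower_mem (jac π ⊔ P ^ 2) x2 heq)))))
    (Submodule.smul_of_tower_mem (jac π ⊔ P ^ 2) v (add_mem (Ideal.mem_sup_right (S := jac π) hyn)
      (add_mem (Submodule.smul_of_tower_mem (jac π ⊔ P ^ 2) y1 hep) (Submodule.smul_of_tower_mem (jac π ⊔ P ^ 2) y2 heq))))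
  convert hall using 1
  simp only [Algebra.smul_def]
  ring

end Node

end Groth.Agent.Nodal27
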