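import Groth.Agent.Lib.Nodal27.Jac
import Groth.Agent.Lib.Nodal27.Scheme
import Mathlib.RingTheory.TensorProduct.MvPolynomial
import Mathlib.LinearAlgebra.TensorProduct.RightExactness

/-!
# Nodes are cut out by ideals defined over the ground field
-/

set_option autoImplicit false
set_option linter.style.haveILetI false
set_option backward.isDefEq.respectTransparency.types false

universe u

open CategoryTheory CategoryTheory.Limits AlgebraicGeometry IsLocalRing
open scoped TensorProduct

noncomputable section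

namespace Groth.Agent.Nodal27

variable {k : Type u} [Field k] {n : ℕ} {R : Type u} [CommRing R] [Algebra k R]
  (K : Type u) [Field K] [Algebra k K]

/-- The base change of a presentation. -/
def presBC (π : MvPolynomial (Fin n) k →ₐ[k] R) : MvPolynomial (Fin n) K →ₐ[K] K ⊗[k] R :=
  (Algebra.TensorProduct.map (AlgHom.id K K) π).comp (MvPolynomial.algebraTensorAlgEquiv k K).symm.toAlgHom

theorem presBC_map (π : MvPolynomial (Fin n) k →ₐ[k] R) (g : MvPolynomial (Fin n) k) :
    presBC K π (MvPolynomial.map (algebraMap k K) g) =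
      (Algebra.TensorProduct.includeRight : R →ₐ[k] K ⊗[k] R) (π g) := by
  rw [presBC, AlgHom.comp_apply]
  show Algebra.TensorProduct.map (AlgHom.id K K) π ((MvPolynomial.algebraTensorAlgEquiv k K).symm (MvPolynomial.map _ g)) = _
  rw [MvPolynomial.algebraTensorAlgEquiv_symm_map]
  rfl

theorem presBC_surjective (π : MvPolynomial (Fin n) k →ₐ[k] R) (hπ : Function.Surjective π) :
    Function.Surjective (presBC K π) := by
  intro z
  induction z with
  | zero => exact ⟨0, map_zero _⟩
  | add x y hx hy =>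
    obtain ⟨u, hu⟩ := hx
    obtain ⟨v, hv⟩ := hy
    exact ⟨u + v, by rw [map_add, hu, hv]⟩
  | tmul a r =>
    obtain ⟨g, rfl⟩ := hπ r
    refine ⟨MvPolynomial.algebraTensorAlgEquiv k K (a ⊗ₜ g), ?_⟩
    rw [presBC, AlgHom.comp_apply]
    show Algebra.TensorProduct.map (AlgHom.id K K) π ((MvPolynomial.algebraTensorAlgEquiv k K).symm
      (MvPolynomial.algebraTensorAlgEquiv k K (a ⊗ₜ g))) = _
    rw [AlgEquiv.symm_apply_apply]
    rfl

theorem mem_ker_presBC (π : MvPolynomial (Fin n) k →ₐ[k] R) (hπ : Function.Surjective π)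
    {g : MvPolynomial (Fin n) K} (hg : presBC K π g = 0) :
    g ∈ (RingHom.ker π).map (MvPolynomial.map (algebraMap k K) : MvPolynomial (Fin n) k →+* MvPolynomial (Fin n) K) := by
  let e := MvPolynomial.algebraTensorAlgEquiv (σ := Fin n) k K
  have h1 : e.symm g ∈ RingHom.ker (Algebra.TensorProduct.map (AlgHom.id k K) π) := hg
  rw [Algebra.TensorProduct.lTensor_ker (A := K) π hπ] at h1
  have h2 := Ideal.mem_map_of_mem (e : K ⊗[k] MvPolynomial (Fin n) k →+* MvPolynomial (Fin n) K) h1
  change e (e.symm g) ∈ _ at h2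
  rw [AlgEquiv.apply_symm_apply, Ideal.map] at h2
  refine (Ideal.span_le.2 ?_) h2
  rintro _ ⟨z, hz, rfl⟩
  change e z ∈ _
  refine (?_ : Ideal.map (Algebra.TensorProduct.includeRight : MvPolynomial (Fin n) k →ₐ[k] K ⊗[k] MvPolynomial (Fin n) k)
    (RingHom.ker π) ≤ ((RingHom.ker π).map (MvPolynomial.map (algebraMap k K) :
      MvPolynomial (Fin n) k →+* MvPolynomial (Fin n) K)).comap (e : K ⊗[k] MvPolynomial (Fin n) k →+* MvPolynomial (Fin n) K)) hz
  rw [Ideal.map_le_iff_le_comap]
  intro w hw
  rw [Ideal.mem_comap, Ideal.mem_comap]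
  change e ((1 : K) ⊗ₜ[k] w) ∈ _
  rw [MvPolynomial.algebraTensorAlgEquiv_tmul, one_smul]
  exact Ideal.mem_map_of_mem _ hw

/-- Multilinearity of the determinant. -/
theorem det_mem_of_rows {A : Type*} [CommRing A] {m : ℕ} (S : Set (Fin m → A)) (I : Ideal A)
    (hS : ∀ M : Matrix (Fin m) (Fin m) A, (∀ b, M b ∈ S) → M.det ∈ I) (M : Matrix (Fin m) (Fin m) A)
    (h : ∀ b, M b ∈ Submodule.span A S) : M.det ∈ I := by
  classical
  suffices ∀ (t : Finset (Fin m)) (M : Matrix (Fin m) (Fin m) A), (∀ b ∈ t, M b ∈ Submodule.span A S) →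
      (∀ b ∉ t, M b ∈ S) → M.det ∈ I from this Finset.univ M (fun b _ => h b) (fun b hb => absurd (Finset.mem_univ b) hb)
  intro t
  induction t using Finset.induction_on with
  | empty => exact fun M _ h => hS M fun b => h b (Finset.notMem_empty b)
  | insert a t hat ih =>
    intro M h1 h2
    have key : ∀ v ∈ Submodule.span A S, (M.updateRow a v).det ∈ I := fun v hv => by
      induction hv using Submodule.span_induction with
      | mem v hv =>
        refine ih _ (fun b hb => ?_) (fun b hb => ?_)
        · rw [Matrix.updateRow_ne (by rintro rfl; exact hat hb)]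
          exact h1 b (Finset.mem_insert_of_mem hb)
        · rcases eq_or_ne b a with rfl | hne
          · rw [Matrix.updateRow_self]; exact hv
          · rw [Matrix.updateRow_ne hne]; exact h2 b (by simp [hne, hb])
      | zero => exact det_mem_of_row _ _ a fun c => by rw [Matrix.updateRow_self]; exact zero_mem _
      | add v w _ _ hv hw => rw [Matrix.det_updateRow_add]; exact add_mem hv hw
      | smul r v _ hv => rw [Matrix.det_updateRow_smul]; exact Ideal.mul_mem_left _ _ hv
    have := key (M a) (h1 a (Finset.mem_insert_self _ _))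
    rwa [Matrix.updateRow_eq_self] at this

theorem map_jac_le (π : MvPolynomial (Fin n) k →ₐ[k] R) :
    (jac π).map (Algebra.TensorProduct.includeRight : R →ₐ[k] K ⊗[k] R) ≤ jac (presBC K π) := by
  rw [jac, Ideal.map_span, Ideal.span_le]
  rintro _ ⟨_, ⟨g, γ, hg, rfl⟩, rfl⟩
  refine Ideal.subset_span ⟨fun b => MvPolynomial.map (algebraMap k K) (g b), γ,
    fun b => by rw [presBC_map, hg, map_zero], ?_⟩
  rw [← presBC_map, RingHom.map_det, RingHom.mapMatrix_apply]
  congr 2
  ext b a
  simp [MvPolynomial.pderiv_map]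

theorem jac_presBC_le (π : MvPolynomial (Fin n) k →ₐ[k] R) (hπ : Function.Surjective π) :
    jac (presBC K π) ≤ (jac π).map (Algebra.TensorProduct.includeRight : R →ₐ[k] K ⊗[k] R) := by
  classical
  refine Ideal.span_le.2 ?_
  rintro _ ⟨g, γ, hg, rfl⟩
  let ι : R →ₐ[k] K ⊗[k] R := Algebra.TensorProduct.includeRight
  let φ : MvPolynomial (Fin n) k →+* MvPolynomial (Fin n) K := MvPolynomial.map (algebraMap k K)
  let S : Set (Fin (n - 1) → K ⊗[k] R) :=
    {v | ∃ g0, π g0 = 0 ∧ v = fun a => presBC K π (MvPolynomial.pderiv (γ a) (φ g0))}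
  rw [← AlgHom.coe_toRingHom, RingHom.map_det, RingHom.mapMatrix_apply]
  refine det_mem_of_rows S _ (fun M hM => ?_) _ fun b => ?_
  · choose g0 hg0 hM using hM
    have hMeq : M = (Matrix.of fun b a => MvPolynomial.pderiv (γ a) (g0 b)).map ((ι : R →+* K ⊗[k] R).comp (π : _ →+* R)) :=
      Matrix.ext fun b a => by
        rw [hM b]
        show presBC K π (MvPolynomial.pderiv (γ a) (MvPolynomial.map (algebraMap k K) (g0 b))) =
          ι (π (MvPolynomial.pderiv (γ a) (g0 b)))
        rw [MvPolynomial.pderiv_map, presBC_map]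
    rw [hMeq, ← RingHom.mapMatrix_apply, ← RingHom.map_det]
    exact Ideal.mem_map_of_mem ι (Ideal.subset_span ⟨g0, γ, hg0, rfl⟩)
  · suffices ∀ f ∈ (RingHom.ker π).map φ, (fun a => presBC K π (MvPolynomial.pderiv (γ a) f)) ∈ Submodule.span _ S by
      exact this (g b) (mem_ker_presBC K π hπ (hg b))
    intro f hf
    have hker : ∀ f ∈ (RingHom.ker π).map φ, presBC K π f = 0 := fun f hf => by
      refine (Ideal.map_le_iff_le_comap.2 (fun w hw => ?_) : (RingHom.ker π).map φ ≤ RingHom.ker (presBC K π)) hf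
      rw [Ideal.mem_comap, RingHom.mem_ker, presBC_map, RingHom.mem_ker.1 hw, map_zero]
    induction hf using Submodule.span_induction with
    | mem f hf =>
      obtain ⟨g0, hg0, rfl⟩ := hf
      exact Submodule.subset_span ⟨g0, hg0, rfl⟩
    | zero => simp only [map_zero]; exact zero_mem _
    | add f h _ _ hf hh => simp only [map_add]; exact add_mem hf hh
    | smul r f hf0 hf =>
      simp only [smul_eq_mul, MvPolynomial.pderiv_mul, map_add, map_mul, hker f hf0, mul_zero, zero_add]
      exact Submodule.smul_mem _ (presBC K π r) hf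

variable {K}

/-- On an affine chart, the maximal ideal of a node is generated by the point below it. -/
theorem node_le_map_comap [IsAlgClosed K] [Algebra.FiniteType k R] (P : Ideal (K ⊗[k] R)) [P.IsMaximal]
    (h : NodeData K P) :
    P ≤ (P.comap (Algebra.TensorProduct.includeRight : R →ₐ[k] K ⊗[k] R)).map
      (Algebra.TensorProduct.includeRight : R →ₐ[k] K ⊗[k] R) ⊔ P ^ 2 := by
  obtain ⟨m, π, hπ⟩ := (Algebra.FiniteType.iff_quotient_mvPolynomial'' (R := k) (S := R)).1 inferInstance
  have hres : ∀ i, ∃ c : K, presBC K π (MvPolynomial.X i) - algebraMap K (K ⊗[k] R) c ∈ P :=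
    fun i => exists_sub_mem h.1 _
  choose c hc using hres
  have h1 := le_jac_sup c (presBC K π) (presBC_surjective K π hπ) hc h
  have h2 := jac_le c (presBC K π) (presBC_surjective K π hπ) hc h
  refine h1.trans (sup_le_sup_right ((jac_presBC_le K π hπ).trans (Ideal.map_mono ?_)) _)
  exact Ideal.map_le_iff_le_comap.1 ((map_jac_le K π).trans h2)

theorem map_max_congr {X Y : Scheme.{u}} {g g' : Y ⟶ X} (e : g = g') (y : Y) :
    (maximalIdeal (X.presheaf.stalk (g y))).map (g.stalkMap y).hom = maximalIdeal (Y.presheaf.stalk y) ↔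
      (maximalIdeal (X.presheaf.stalk (g' y))).map (g'.stalkMap y).hom = maximalIdeal (Y.presheaf.stalk y) := by
  subst e; rfl

theorem map_maximalIdeal_of_node [IsAlgClosed K] {X : Scheme.{u}} (f : X ⟶ Spec (CommRingCat.of k))
    [LocallyOfFiniteType f] (y : (pullback f (Spec.map (CommRingCat.ofHom (algebraMap k K))) : Scheme.{u}))
    (hy : IsClosed ({y} : Set (pullback f (Spec.map (CommRingCat.ofHom (algebraMap k K))) : Scheme.{u})))
    (h : ODPAt (pullback.snd f (Spec.map (CommRingCat.ofHom (algebraMap k K)))) y) :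
    (maximalIdeal (X.presheaf.stalk (pullback.fst f (Spec.map (CommRingCat.ofHom (algebraMap k K))) y))).map
        ((pullback.fst f (Spec.map (CommRingCat.ofHom (algebraMap k K)))).stalkMap y).hom =
      maximalIdeal ((pullback f (Spec.map (CommRingCat.ofHom (algebraMap k K))) : Scheme.{u}).presheaf.stalk y) := by
  let σ := Spec.map (CommRingCat.ofHom (algebraMap k K))
  obtain ⟨U, hU, hxU, -⟩ := exists_isAffineOpen_mem_and_subset (X := X) (x := pullback.fst f σ y) (U := ⊤) trivial
  let R : Type u := Γ(X, U)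
  let j : Spec (CommRingCat.of R) ⟶ X := hU.fromSpec
  haveI : IsOpenImmersion j := inferInstanceAs (IsOpenImmersion hU.fromSpec)
  letI : Algebra k R := (Spec.preimage (j ≫ f)).hom.toAlgebra
  have hj : Spec.map (CommRingCat.ofHom (algebraMap k R)) = j ≫ f := Spec.map_preimage _
  haveI : Algebra.FiniteType k R := by
    have h1 : LocallyOfFiniteType (Spec.map (CommRingCat.ofHom (algebraMap k R))) := by rw [hj]; infer_instance
    exact RingHom.finiteType_algebraMap.1 ((HasRingHomProperty.Spec_iff (P := @LocallyOfFiniteType)).1 h1)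
  let ι : R →ₐ[k] K ⊗[k] R := Algebra.TensorProduct.includeRight
  let T := K ⊗[k] R
  let pr : Spec (CommRingCat.of T) ⟶ Spec (CommRingCat.of R) := Spec.map (CommRingCat.ofHom ι.toRingHom)
  let q : Spec (CommRingCat.of T) ⟶ Spec (CommRingCat.of K) := Spec.map (CommRingCat.ofHom (algebraMap K T))
  have sq : IsPullback pr q (Spec.map (CommRingCat.ofHom (algebraMap k R))) σ :=
    (AlgebraicGeometry.isPullback_SpecMap_of_isPushout _ _ _ _ (CommRingCat.isPushout_tensorProduct k K R)).flip
  let j' : Spec (CommRingCat.of T) ⟶ pullback f σ :=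
    pullback.lift (pr ≫ j) q (by rw [Category.assoc, ← hj]; exact sq.w)
  have top : IsPullback pr j' j (pullback.fst f σ) := by
    refine IsPullback.of_bot ?_ (pullback.lift_fst _ _ _).symm (IsPullback.of_hasPullback f σ)
    rw [pullback.lift_snd, ← hj]
    exact sq
  haveI : IsOpenImmersion j' := MorphismProperty.of_isPullback top.flip.flip inferInstance
  obtain ⟨w, -, hw2⟩ := Scheme.exists_preimage_of_isPullback top (hU.primeIdealOf ⟨_, hxU⟩) y
    (hU.fromSpec_primeIdealOf ⟨_, hxU⟩)
  subst hw2
  have hwc : IsClosed ({w} : Set (Spec (CommRingCat.of T))) :=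
    isClosed_of_etale_of_isClosed j' (pullback.snd f σ) hy
  haveI : w.asIdeal.IsMaximal := (PrimeSpectrum.isClosed_singleton_iff_isMaximal w).1 hwc
  have e1 := odpAt_etale_iff j' (pullback.snd f σ) hwc
  rw [show j' ≫ pullback.snd f σ = q from pullback.lift_snd _ _ _] at e1
  have hP := node_le_map_comap w.asIdeal ((odpAt_spec_iff w).1 (e1.2 h))
  -- on the chart
  let A := (Spec (CommRingCat.of R)).presheaf.stalk (pr w)
  let B := (Spec (CommRingCat.of T)).presheaf.stalk w
  haveI : LocallyOfFiniteType q :=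
    (HasRingHomProperty.Spec_iff (P := @LocallyOfFiniteType)).2
      (RingHom.finiteType_algebraMap.2 (inferInstanceAs (Algebra.FiniteType K (K ⊗[k] R))))
  haveI : IsLocallyNoetherian (Spec (CommRingCat.of T)) := LocallyOfFiniteType.isLocallyNoetherian q
  letI : Algebra T B := (StructureSheaf.toStalk T w).hom.toAlgebra
  haveI : IsLocalization.AtPrime B w.asIdeal :=
    inferInstanceAs (IsLocalization.AtPrime ((Spec.structureSheaf T).presheaf.stalk w) w.asIdeal)
  haveI : IsLocalHom (pr.stalkMap w).hom := inferInstance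
  have hA : (maximalIdeal A).map (pr.stalkMap w).hom = maximalIdeal B := by
    refine le_antisymm (Ideal.map_le_iff_le_comap.2 fun r hr => (IsLocalRing.mem_maximalIdeal _).2
      (mem_nonunits_iff.2 fun hu => (IsLocalRing.mem_maximalIdeal _).1 hr (isUnit_of_map_unit (pr.stalkMap w).hom r hu))) ?_
    refine Submodule.le_of_le_smul_of_le_jacobson_bot (I := maximalIdeal B) (IsNoetherian.noetherian _)
      (IsLocalRing.jacobson_eq_maximalIdeal ⊥ bot_ne_top).ge ?_
    rw [smul_eq_mul, ← pow_two]
    conv_lhs => rw [← IsLocalization.AtPrime.map_eq_maximalIdeal w.asIdeal B]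
    refine (Ideal.map_mono hP).trans ?_
    rw [Ideal.map_sup, Ideal.map_pow, IsLocalization.AtPrime.map_eq_maximalIdeal w.asIdeal B]
    refine sup_le_sup_right (Ideal.map_le_iff_le_comap.2 (Ideal.map_le_iff_le_comap.2 fun r hr => ?_)) _
    have hnat : (pr.stalkMap w) (StructureSheaf.toStalk R (pr w) r) = algebraMap T B (ι r) :=
      AlgebraicGeometry.stalkMap_toStalk_apply (CommRingCat.ofHom ι.toRingHom) w r
    rw [Ideal.mem_comap, Ideal.mem_comap]
    show algebraMap T B (ι r) ∈ _
    rw [← hnat]
    refine Ideal.mem_map_of_mem _ ((IsLocalRing.mem_maximalIdeal _).2 (mem_nonunits_iff.2 fun hu => ?_))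
    have hu' := hu.map (pr.stalkMap w).hom
    rw [hnat] at hu'
    exact (IsLocalization.AtPrime.isUnit_to_map_iff B w.asIdeal (ι r)).1 hu' hr
  -- transport along the charts
  haveI : IsIso (j.stalkMap (pr w)) := inferInstance
  haveI : IsIso (j'.stalkMap w) := inferInstance
  have hjs := IsLocalRing.map_maximalIdeal_of_surjective (j.stalkMap (pr w)).hom
    (ConcreteCategory.bijective_of_isIso _).2
  have hj's := IsLocalRing.map_maximalIdeal_of_surjective (j'.stalkMap w).hom
    (ConcreteCategory.bijective_of_isIso _).2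
  have hcomp : j' ≫ pullback.fst f σ = pr ≫ j := pullback.lift_fst _ _ _
  have hpj : (maximalIdeal (X.presheaf.stalk ((pr ≫ j) w))).map ((pr ≫ j).stalkMap w).hom = maximalIdeal B := by
    rw [Scheme.Hom.stalkMap_comp pr j w]
    exact (Ideal.map_map (j.stalkMap (pr w)).hom (pr.stalkMap w).hom).symm.trans
      ((congrArg (Ideal.map (pr.stalkMap w).hom) hjs).trans hA)
  have key := (map_max_congr (hcomp.symm) w).1 hpj
  rw [Scheme.Hom.stalkMap_comp j' (pullback.fst f σ) w] at key
  have hb := ConcreteCategory.bijective_of_isIso (j'.stalkMap w)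
  have h1 := (Ideal.map_map _ _).trans (key.trans hj's.symm)
  have h2 := congrArg (Ideal.comap (j'.stalkMap w).hom) h1
  exact ((Ideal.comap_map_of_bijective (j'.stalkMap w).hom hb).symm.trans h2).trans
    (Ideal.comap_map_of_bijective (j'.stalkMap w).hom hb)

end Groth.Agent.Nodal27
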