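import Mathlib.RingTheory.MvPowerSeries.Equiv
import Mathlib.RingTheory.MvPolynomial.Ideal
import Mathlib.RingTheory.AdicCompletion.Completeness
import Mathlib.LinearAlgebra.Dimension.Constructions
import Mathlib.LinearAlgebra.FiniteDimensional.Basic

/-!
# The levels of the formal ordinary double point `K[[X, Y]] / (X Y)`
-/

set_option autoImplicit false
set_option linter.style.haveILetI false

universe u

open MvPolynomial (idealOfVars)

noncomputable section

namespace Groth.Agent.Nodal27

variable (K : Type u) [Field K]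

/-- An exponent is pure when it involves only one variable. -/
def Pure (m : Fin 2 →₀ ℕ) : Prop := m 0 = 0 ∨ m 1 = 0

/-- The `n`-th level ideal `(X, Y)^n + (X Y)`. -/
abbrev J (n : ℕ) : Ideal (MvPolynomial (Fin 2) K) :=
  idealOfVars (Fin 2) K ^ n ⊔ Ideal.span {MvPolynomial.X 0 * MvPolynomial.X 1}

/-- The `n`-th level `K[X, Y] / ((X, Y)^n + (X Y))`. -/
abbrev N (n : ℕ) : Type u := MvPolynomial (Fin 2) K ⧸ J K n

variable {K}

theorem XY_eq : (MvPolynomial.X 0 * MvPolynomial.X 1 : MvPolynomial (Fin 2) K) =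
    MvPolynomial.monomial (Finsupp.single 0 1 + Finsupp.single 1 1) 1 := by
  rw [MvPolynomial.X, MvPolynomial.X, MvPolynomial.monomial_mul, one_mul]

theorem mem_J {n : ℕ} {q : MvPolynomial (Fin 2) K} :
    q ∈ J K n ↔ ∀ m, Pure m → Finsupp.degree m < n → q.coeff m = 0 := by
  classical
  refine ⟨fun h m hm hd => ?_, fun h => ?_⟩
  · obtain ⟨a, ha, b, hb, rfl⟩ := Submodule.mem_sup.1 h
    obtain ⟨c, rfl⟩ := Ideal.mem_span_singleton'.1 hb
    rw [MvPolynomial.coeff_add, (MvPolynomial.mem_pow_idealOfVars_iff' n a).1 ha m hd, zero_add, XY_eq,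
      MvPolynomial.coeff_mul_monomial', if_neg]
    intro hle
    rcases hm with hm | hm
    · have := hle 0; simp [hm] at this
    · have := hle 1; simp [hm] at this
  · rw [q.as_sum]
    refine sum_mem fun m hm => ?_
    by_cases hd : Finsupp.degree m < n
    · have hp : ¬ Pure m := fun hp => (MvPolynomial.mem_support_iff.1 hm) (h m hp hd)
      refine Ideal.mem_sup_right (Ideal.mem_span_singleton'.2
        ⟨MvPolynomial.monomial (m - (Finsupp.single 0 1 + Finsupp.single 1 1)) (q.coeff m), ?_⟩)
      rw [XY_eq, MvPolynomial.monomial_mul, mul_one, tsub_add_cancel_of_le]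
      intro i
      simp only [Pure, not_or] at hp
      fin_cases i <;> simp <;> omega
    · exact Ideal.mem_sup_left ((MvPolynomial.mem_pow_idealOfVars_iff' n _).2 fun x hx => by
        rw [MvPolynomial.coeff_monomial, if_neg]
        rintro rfl
        exact hd hx)

/-- The pure exponents of degree less than `n`. -/
def expo (n : ℕ) : Fin n ⊕ Fin (n - 1) → (Fin 2 →₀ ℕ)
  | Sum.inl i => Finsupp.single 0 i.1
  | Sum.inr j => Finsupp.single 1 (j.1 + 1)

theorem pure_expo {n : ℕ} (s : Fin n ⊕ Fin (n - 1)) : Pure (expo n s) ∧ Finsupp.degree (expo n s) < n := by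
  rcases s with i | j
  · exact ⟨Or.inr (by simp [expo]), by simp [expo, Finsupp.degree_single]⟩
  · exact ⟨Or.inl (by simp [expo]), by simp [expo, Finsupp.degree_single]; omega⟩

theorem exists_expo {n : ℕ} {m : Fin 2 →₀ ℕ} (hm : Pure m) (hd : Finsupp.degree m < n) :
    ∃ s, expo n s = m := by
  have h2 : Finsupp.degree m = m 0 + m 1 := by
    rw [Finsupp.degree_eq_sum, Fin.sum_univ_two]
  by_cases h1 : m 1 = 0
  · refine ⟨Sum.inl ⟨m 0, by omega⟩, Finsupp.ext fun i => ?_⟩
    fin_cases i <;> simp [expo, h1]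
  · have h0 : m 0 = 0 := hm.resolve_right h1
    refine ⟨Sum.inr ⟨m 1 - 1, by omega⟩, Finsupp.ext fun i => ?_⟩
    fin_cases i <;> simp [expo, h0] <;> omega

theorem expo_injective (n : ℕ) : Function.Injective (expo n) := by
  rintro (i | i) (j | j) h
  · have := DFunLike.congr_fun h 0; simp [expo] at this; exact congrArg Sum.inl (Fin.ext this)
  · have := DFunLike.congr_fun h 1; simp [expo] at this
  · have := DFunLike.congr_fun h 1; simp [expo] at this
  · have := DFunLike.congr_fun h 1; simp [expo] at this; exact congrArg Sum.inr (Fin.ext this)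

variable (K) in
/-- The coefficients at the pure exponents. -/
def coeffs (n : ℕ) : MvPolynomial (Fin 2) K →ₗ[K] (Fin n ⊕ Fin (n - 1) → K) :=
  LinearMap.pi fun s => MvPolynomial.lcoeff K (expo n s)

theorem ker_coeffs (n : ℕ) : LinearMap.ker (coeffs K n) = (J K n).restrictScalars K := by
  ext q
  rw [LinearMap.mem_ker, Submodule.restrictScalars_mem, mem_J]
  refine ⟨fun h m hm hd => ?_, fun h => funext fun s => h _ (pure_expo s).1 (pure_expo s).2⟩
  obtain ⟨s, rfl⟩ := exists_expo hm hd
  exact congrFun h s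

theorem coeffs_surjective (n : ℕ) : Function.Surjective (coeffs K n) := by
  classical
  intro v
  refine ⟨∑ s, MvPolynomial.monomial (expo n s) (v s), funext fun t => ?_⟩
  simp only [coeffs, LinearMap.pi_apply, MvPolynomial.lcoeff_apply, MvPolynomial.coeff_sum,
    MvPolynomial.coeff_monomial]
  rw [Finset.sum_eq_single t]
  · simp
  · intro s _ hst; rw [if_neg fun h => hst (expo_injective n h)]
  · simp

variable (K) in
/-- The coefficients of an element of the `n`-th level. -/
def levelMap (n : ℕ) : N K n →ₗ[K] (Fin n ⊕ Fin (n - 1) → K) where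
  toFun := Quotient.lift (fun q => coeffs K n q) fun a b hab => by
    have h1 : a - b ∈ J K n := (Submodule.quotientRel_def _).1 hab
    rw [← sub_eq_zero, ← map_sub, ← LinearMap.mem_ker, ker_coeffs]
    exact h1
  map_add' x y := by
    induction x using Quotient.inductionOn with | h a => induction y using Quotient.inductionOn with | h b => exact map_add (coeffs K n) a b
  map_smul' c x := by
    induction x using Quotient.inductionOn with | h a => exact map_smul (coeffs K n) c a

theorem levelMap_mk (n : ℕ) (q : MvPolynomial (Fin 2) K) : levelMap K n (Ideal.Quotient.mk _ q) = coeffs K n q :=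
  rfl

theorem levelMap_bijective (n : ℕ) : Function.Bijective (levelMap K n) := by
  refine ⟨(injective_iff_map_eq_zero _).2 fun x hx => ?_, fun v => ?_⟩
  · obtain ⟨q, rfl⟩ := Ideal.Quotient.mk_surjective x
    rw [levelMap_mk, ← LinearMap.mem_ker, ker_coeffs] at hx
    exact Ideal.Quotient.eq_zero_iff_mem.2 hx
  · obtain ⟨q, rfl⟩ := coeffs_surjective n v
    exact ⟨_, levelMap_mk n q⟩

theorem finrank_N (n : ℕ) : Module.finrank K (N K n) = 2 * n - 1 := by
  rw [(LinearEquiv.ofBijective _ (levelMap_bijective (K := K) n)).finrank_eq, Module.finrank_fintype_fun_eq_card,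
    Fintype.card_sum, Fintype.card_fin, Fintype.card_fin]
  omega

instance finite_N (n : ℕ) : Module.Finite K (N K n) :=
  Module.Finite.equiv (LinearEquiv.ofBijective _ (levelMap_bijective (K := K) n)).symm

theorem factor_le {a b : ℕ} (h : a ≤ b) : J K b ≤ J K a :=
  sup_le_sup_right (Ideal.pow_le_pow_right h) _

theorem sup_pow_le {R : Type*} [CommRing R] {a b c : Ideal R} (h : c ≤ a ⊔ b) (n : ℕ) : c ^ n ≤ a ^ n ⊔ b := by
  induction n with
  | zero => simp
  | succ n ih =>
    rw [pow_succ, pow_succ]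
    refine (Ideal.mul_mono ih h).trans ?_
    rw [Ideal.sup_mul]
    refine sup_le ?_ ((Ideal.mul_le_left (I := b) (J := a ⊔ b)).trans le_sup_right)
    rw [Ideal.mul_sup]
    exact sup_le_sup_left Ideal.mul_le_right _

/-! ## Power series -/

variable (K)

/-- Truncation of a power series to the `n`-th level. -/
def T (n : ℕ) : MvPowerSeries (Fin 2) K →ₐ[K] N K n :=
  (Ideal.Quotient.factorₐ K (le_sup_left : idealOfVars (Fin 2) K ^ n ≤ J K n)).comp
    ((MvPowerSeries.truncTotalAlgHom (Fin 2) K n).restrictScalars K)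

variable {K}

theorem T_apply (n : ℕ) (p : MvPowerSeries (Fin 2) K) :
    T K n p = Ideal.Quotient.mk _ (MvPowerSeries.truncTotal n p) := rfl

theorem T_eq_zero {n : ℕ} {p : MvPowerSeries (Fin 2) K} :
    T K n p = 0 ↔ ∀ m, Pure m → Finsupp.degree m < n → MvPowerSeries.coeff m p = 0 := by
  rw [T_apply, Ideal.Quotient.eq_zero_iff_mem, mem_J]
  refine forall_congr' fun m => forall_congr' fun _ => forall_congr' fun hd => ?_
  rw [MvPowerSeries.coeff_truncTotal _ hd]

theorem T_surjective (n : ℕ) : Function.Surjective (T K n) := by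
  intro x
  obtain ⟨q, rfl⟩ := Ideal.Quotient.mk_surjective x
  refine ⟨q, ?_⟩
  rw [T_apply, Ideal.Quotient.eq, mem_J]
  intro m _ hd
  rw [MvPolynomial.coeff_sub, MvPowerSeries.coeff_truncTotal _ hd, MvPolynomial.coeff_coe, sub_self]

theorem T_compat {a b : ℕ} (h : a ≤ b) (p : MvPowerSeries (Fin 2) K) :
    Ideal.Quotient.factor (factor_le (K := K) h) (T K b p) = T K a p := by
  rw [T_apply, T_apply, Ideal.Quotient.factor_mk, Ideal.Quotient.eq, mem_J]
  intro m _ hd
  rw [MvPolynomial.coeff_sub, MvPowerSeries.coeff_truncTotal _ hd,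
    MvPowerSeries.coeff_truncTotal _ (lt_of_lt_of_le hd h), sub_self]

variable (K)

/-- The ideal of the variables of the power series ring. -/
abbrev varIdeal : Ideal (MvPowerSeries (Fin 2) K) := Ideal.span (Set.range MvPowerSeries.X)

/-- The equation of the node. -/
abbrev nodeIdeal : Ideal (MvPowerSeries (Fin 2) K) :=
  Ideal.span {(MvPowerSeries.X 0 * MvPowerSeries.X 1 : MvPowerSeries (Fin 2) K)}

variable {K}

theorem mem_varIdeal_pow {n : ℕ} {p : MvPowerSeries (Fin 2) K}
    (h : ∀ m, Finsupp.degree m < n → MvPowerSeries.coeff m p = 0) : p ∈ varIdeal K ^ n := by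
  let e := (MvPowerSeries.toAdicCompletionAlgEquiv (Fin 2) K).toRingEquiv
  have hmap : (varIdeal K).map (e : MvPowerSeries (Fin 2) K →+* _) =
      (idealOfVars (Fin 2) K).map (algebraMap _ (AdicCompletion (idealOfVars (Fin 2) K) (MvPolynomial (Fin 2) K))) := by
    simp_rw [Ideal.map_span, ← Set.range_comp]
    congr 2; ext1 i
    simp [e, AdicCompletion.algebraMap_apply, ← MvPolynomial.coe_X, MvPowerSeries.toAdicCompletion_coe]
  have key : e p ∈ ((varIdeal K) ^ n).map (e : MvPowerSeries (Fin 2) K →+* _) := by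
    rw [Ideal.map_pow, hmap, ← Ideal.map_pow, ← Submodule.restrictScalars_mem (MvPolynomial (Fin 2) K),
      ← Ideal.smul_top_eq_map, AdicCompletion.pow_smul_top_eq_ker_eval (MvPolynomial.idealOfVars_fg _ _),
      LinearMap.mem_ker]
    change (MvPowerSeries.toAdicCompletion (Fin 2) K p).val n = 0
    rw [MvPowerSeries.toAdicCompletion_apply_eq_mk_truncTotal]
    refine Ideal.Quotient.eq_zero_iff_mem.2 ?_
    rw [smul_eq_mul, Ideal.mul_top, MvPolynomial.mem_pow_idealOfVars_iff']
    intro x hx
    rw [MvPowerSeries.coeff_truncTotal _ hx, h x hx]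
  rw [Ideal.map_comap_of_equiv, Ideal.mem_comap] at key
  simpa using key

theorem nodeIdeal_le_ker (n : ℕ) : nodeIdeal K ≤ RingHom.ker (T K n) := by
  rw [Ideal.span_le, Set.singleton_subset_iff, SetLike.mem_coe, RingHom.mem_ker, T_eq_zero]
  intro m hm _
  classical
  rw [MvPowerSeries.X, MvPowerSeries.X, MvPowerSeries.monomial_mul_monomial, MvPowerSeries.coeff_monomial, if_neg]
  rintro rfl
  simp [Pure] at hm

theorem mem_nodeIdeal_of_forall {p : MvPowerSeries (Fin 2) K} (h : ∀ n, T K n p = 0) : p ∈ nodeIdeal K := by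
  classical
  have hp : ∀ m, Pure m → MvPowerSeries.coeff m p = 0 := fun m hm => T_eq_zero.1 (h _) m hm (Nat.lt_succ_self _)
  obtain ⟨q, rfl⟩ : MvPowerSeries.X 0 ∣ p := MvPowerSeries.X_dvd_iff.2 fun m hm => hp m (Or.inl hm)
  obtain ⟨r, rfl⟩ : MvPowerSeries.X 1 ∣ q := MvPowerSeries.X_dvd_iff.2 fun m hm => by
    have h1 := hp (Finsupp.single 0 1 + m) (Or.inr (by simp [hm]))
    rw [MvPowerSeries.X, MvPowerSeries.coeff_add_monomial_mul, one_mul] at h1
    exact h1
  exact Ideal.mem_span_singleton'.2 ⟨r, by ring⟩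

theorem ker_T (n : ℕ) : RingHom.ker (T K n) = varIdeal K ^ n ⊔ nodeIdeal K := by
  classical
  refine le_antisymm (fun p hp => ?_) (sup_le ?_ (nodeIdeal_le_ker n))
  · -- split off the mixed part of low degree
    let q : MvPowerSeries (Fin 2) K := fun m => if Finsupp.degree m < n then MvPowerSeries.coeff m p else 0
    have hq : ∀ m, MvPowerSeries.coeff m q = if Finsupp.degree m < n then MvPowerSeries.coeff m p else 0 :=
      fun m => rfl
    rw [show p = (p - q) + q by ring]
    refine Submodule.add_mem_sup (mem_varIdeal_pow fun m hm => ?_) (mem_nodeIdeal_of_forall fun k => ?_)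
    · rw [map_sub, hq, if_pos hm, sub_self]
    · rw [T_eq_zero]
      intro m hm _
      rw [hq]
      split_ifs with hd
      · exact T_eq_zero.1 hp m hm hd
      · rfl
  · have h1 : varIdeal K ≤ ((J K 1).map (Ideal.Quotient.mk (J K n))).comap (T K n) := by
      rw [Ideal.span_le]
      rintro _ ⟨i, rfl⟩
      rw [SetLike.mem_coe, Ideal.mem_comap, T_apply]
      refine Ideal.mem_map_of_mem _ (mem_J.2 fun m _ hd => ?_)
      have hm0 : m = 0 := (Finsupp.degree_eq_zero_iff m).1 (by omega)
      subst hm0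
      rw [MvPowerSeries.coeff_truncTotal_eq_ite]
      split_ifs
      · simp
      · rfl
    refine (Ideal.pow_right_mono h1 n).trans ((Ideal.le_comap_pow _ n).trans fun p hp => ?_)
    rw [Ideal.mem_comap, ← Ideal.map_pow] at hp
    rw [RingHom.mem_ker]
    have hJ : J K 1 ^ n ≤ J K n := by
      refine sup_pow_le ?_ n
      rw [J, pow_one]
    have hzero : (J K 1 ^ n).map (Ideal.Quotient.mk (J K n)) = ⊥ := Ideal.map_mk_eq_bot_of_le hJ
    rw [hzero] at hp
    exact hp

end Groth.Agent.Nodal27
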