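import Groth.Agent.Lib.Nodal27.Families
import Groth.Prelude.Def_StrictSS
import Groth.Agent.Lib.DimF18.Affine
import Mathlib.RingTheory.TensorProduct.MvPolynomial
import Mathlib.RingTheory.PolynomialAlgebra
import Mathlib.RingTheory.Smooth.Basic
import Mathlib.RingTheory.Polynomial.UniqueFactorization

/-!
# The model curves `A[T]` and `A[u, v] / (u v - a)` are nodal families
-/

set_option autoImplicit false
set_option linter.style.haveILetI false
set_option backward.isDefEq.respectTransparency.types false

universe u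

open CategoryTheory CategoryTheory.Limits AlgebraicGeometry IsLocalRing
open scoped TensorProduct

noncomputable section

namespace Groth.Agent.Nodal27

variable {K : Type u} [Field K]

/-- A nonzero element cuts out a curve in the plane. -/
theorem localDim_plane {f : MvPolynomial (Fin 2) K} (hf : f ≠ 0)
    (x : Spec (CommRingCat.of (MvPolynomial (Fin 2) K ⧸ Ideal.span {f}))) :
    FlatMor.localDim (Spec (CommRingCat.of (MvPolynomial (Fin 2) K ⧸ Ideal.span {f}))) x = 1 := by
  classical
  let R := MvPolynomial (Fin 2) K ⧸ Ideal.span {f}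
  haveI : LocallyOfFiniteType (DimF18.specTo K R) := inferInstance
  revert x
  rw [← components_iff (DimF18.specTo K R)]
  intro Z hZ
  obtain ⟨M, hM, rfl⟩ := GrpHomog20.exists_isMaxPt_of_mem_irreducibleComponents hZ
  rw [VarDim.dim_closure_singleton (DimF18.specTo K R) M]
  have h1 := congrArg (fun t : ℕ∞ => (t : WithBot ℕ∞)) (DimF18.sdim_spec K R M)
  refine h1.trans ?_
  refine (VarDim.ringKrullDim_eq_tdeg K (R ⧸ M.asIdeal)).symm.trans ?_
  let P : Ideal (MvPolynomial (Fin 2) K) := M.asIdeal.comap (Ideal.Quotient.mk _)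
  haveI : P.IsPrime := Ideal.IsPrime.comap _
  have hfP : Ideal.span {f} ≤ P := fun z hz => by
    show Ideal.Quotient.mk _ z ∈ M.asIdeal
    rw [Ideal.Quotient.eq_zero_iff_mem.2 hz]; exact M.asIdeal.zero_mem
  obtain ⟨g, hg, hgP, hgf⟩ : ∃ g, Irreducible g ∧ g ∈ P ∧ g ∣ f := by
    have hunit : ¬ IsUnit f := fun hu => Ideal.IsPrime.ne_top ‹P.IsPrime›
      (Ideal.eq_top_of_isUnit_mem _ (hfP (Ideal.mem_span_singleton_self f)) hu)
    obtain ⟨s, hs, u, hu⟩ := WfDvdMonoid.exists_factors f hf
    have hmem : s.prod ∈ P := ((Ideal.IsPrime.mul_mem_iff_mem_or_mem ‹P.IsPrime›).1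
      (show s.prod * (u : MvPolynomial (Fin 2) K) ∈ P by rw [hu]; exact hfP (Ideal.mem_span_singleton_self f))).resolve_right
        fun h => Ideal.IsPrime.ne_top ‹P.IsPrime› (Ideal.eq_top_of_isUnit_mem _ h u.isUnit)
    obtain ⟨g, hgs, hgP⟩ := (Ideal.IsPrime.multiset_prod_mem_iff_exists_mem ‹P.IsPrime› s).1 hmem
    exact ⟨g, hs g hgs, hgP, (Multiset.dvd_prod hgs).trans (Dvd.intro _ hu)⟩
  haveI hgp : (Ideal.span {g}).IsPrime := (Ideal.span_singleton_prime hg.ne_zero).2 hg.prime
  have hfg : Ideal.span {f} ≤ Ideal.span {g} := Ideal.span_singleton_le_span_singleton.2 hgf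
  have hPg : Ideal.span {g} = P := by
    refine le_antisymm ((Ideal.span_singleton_le_iff_mem _).2 hgP) fun z hz => ?_
    have hq : ((Ideal.span {g}).map (Ideal.Quotient.mk (Ideal.span {f}))).IsPrime :=
      Ideal.map_isPrime_of_surjective Ideal.Quotient.mk_surjective (by rw [Ideal.mk_ker]; exact hfg)
    let N : Spec (CommRingCat.of R) := ⟨_, hq⟩
    have hNM : N ⤳ M := (PrimeSpectrum.le_iff_specializes N M).1 (by
      show (Ideal.span {g}).map (Ideal.Quotient.mk (Ideal.span {f})) ≤ M.asIdeal
      rw [Ideal.map_le_iff_le_comap]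
      exact (Ideal.span_singleton_le_iff_mem _).2 hgP)
    have h := congrArg PrimeSpectrum.asIdeal (hM N hNM)
    have hz' : Ideal.Quotient.mk (Ideal.span {f}) z ∈ N.asIdeal := by rw [h]; exact hz
    have := Ideal.mem_comap.2 hz'
    rw [Ideal.comap_map_of_surjective _ Ideal.Quotient.mk_surjective] at this
    obtain ⟨a, ha, b, hb, rfl⟩ := Submodule.mem_sup.1 this
    exact add_mem ha (hfg (Ideal.Quotient.eq_zero_iff_mem.1 hb))
  have e : (R ⧸ M.asIdeal) ≃+* (MvPolynomial (Fin 2) K ⧸ Ideal.span {g}) := by
    have hmap : (Ideal.span {g}).map (Ideal.Quotient.mk (Ideal.span {f})) = M.asIdeal := by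
      rw [hPg]; exact Ideal.map_comap_of_surjective _ Ideal.Quotient.mk_surjective _
    exact (Ideal.quotEquivOfEq hmap.symm).trans (DoubleQuot.quotQuotEquivQuotOfLE hfg)
  rw [ringKrullDim_eq_of_ringEquiv e, VarDim.ringKrullDim_quotient_span_irreducible K g hg]
  rfl

/-- A point of a curve with a small cotangent space is smooth. -/
theorem mem_smoothLocus_of_cotangent [IsAlgClosed K] {R : Type u} [CommRing R] [Algebra K R] [Algebra.FiniteType K R]
    (p : Spec (CommRingCat.of R)) [p.asIdeal.IsMaximal] (z : R) (hzp : z ∈ p.asIdeal)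
    (hz : p.asIdeal ≤ Ideal.span {z} ⊔ p.asIdeal ^ 2)
    (hd : FlatMor.localDim (Spec (CommRingCat.of R)) p = 1) :
    p ∈ (DimF18.specTo K R).smoothLocus := by
  have hp : IsClosed ({p} : Set (Spec (CommRingCat.of R))) :=
    (PrimeSpectrum.isClosed_singleton_iff_isMaximal p).2 ‹_›
  haveI : IsLocallyNoetherian (Spec (CommRingCat.of R)) := LocallyOfFiniteType.isLocallyNoetherian (DimF18.specTo K R)
  rw [mem_smoothLocus_iff_isRegular _ hp]
  let S := (Spec (CommRingCat.of R)).presheaf.stalk p
  letI : Algebra R S := (StructureSheaf.toStalk R p).hom.toAlgebra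
  haveI : IsLocalization.AtPrime S p.asIdeal :=
    inferInstanceAs (IsLocalization.AtPrime ((Spec.structureSheaf R).presheaf.stalk p) p.asIdeal)
  have hm : maximalIdeal S ≤ Ideal.span {algebraMap R S z} ⊔ maximalIdeal S ^ 2 := by
    rw [← IsLocalization.AtPrime.map_eq_maximalIdeal p.asIdeal S, ← Ideal.map_pow, ← Set.image_singleton,
      ← Ideal.map_span, ← Ideal.map_sup]
    exact Ideal.map_mono hz
  have hspan : maximalIdeal S ≤ Ideal.span {algebraMap R S z} := by
    refine Submodule.le_of_le_smul_of_le_jacobson_bot (I := maximalIdeal S) (IsNoetherian.noetherian _)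
      (IsLocalRing.jacobson_eq_maximalIdeal ⊥ bot_ne_top).ge ?_
    rw [smul_eq_mul, ← pow_two]; exact hm
  refine IsRegularLocalRing.of_spanFinrank_maximalIdeal_le _ ?_
  have hcoh : ringKrullDim S = 1 := by
    obtain ⟨b, hb⟩ := ENat.ne_top_iff_exists.1 (DimF18.coheight_ne_top p)
    have h := DimF18.localDim_eq (DimF18.specTo K R) hb.symm
    rw [(VarDim.sdim_eq_zero_iff_isClosed (DimF18.specTo K R) p).2 hp, zero_add, hd] at h
    refine (ringKrullDim_stalk_eq_coheight p).trans ?_
    rw [← hb]
    exact h.symm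
  have hmem : algebraMap R S z ∈ maximalIdeal S := by
    rw [← IsLocalization.AtPrime.map_eq_maximalIdeal p.asIdeal S]
    exact Ideal.mem_map_of_mem _ hzp
  rw [show maximalIdeal S = Ideal.span {algebraMap R S z} from
    le_antisymm hspan ((Ideal.span_singleton_le_iff_mem _).2 hmem), hcoh]
  exact_mod_cast (Submodule.spanFinrank_span_le_ncard_of_finite (Set.finite_singleton _)).trans (by simp)

/-- The equation of the model node. -/
abbrev nodeEq {A : Type u} [CommRing A] (a : A) : MvPolynomial (Fin 2) A :=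
  MvPolynomial.X 0 * MvPolynomial.X 1 - MvPolynomial.C a

theorem good_nodeAlg [IsAlgClosed K] (a : K) : Good (DimF18.specTo K (StrictSS.NodeAlg K a)) := by
  classical
  have hf : (nodeEq a) ≠ 0 := fun h => by
    simpa [nodeEq] using congrArg (MvPolynomial.eval ![(1 : K), a + 1]) h
  refine ⟨fun x => localDim_plane hf x, fun p hp => ?_⟩
  haveI : p.asIdeal.IsMaximal := (PrimeSpectrum.isClosed_singleton_iff_isMaximal p).1 hp
  let R := StrictSS.NodeAlg K a
  let q : MvPolynomial (Fin 2) K →ₐ[K] R := Ideal.Quotient.mkₐ K _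
  letI := Ideal.Quotient.field p.asIdeal
  haveI : Module.Finite K (R ⧸ p.asIdeal) := finite_of_finite_type_of_isJacobsonRing K (R ⧸ p.asIdeal)
  have hres : ∀ i, ∃ c : K, q (MvPolynomial.X i) - algebraMap K R c ∈ p.asIdeal := fun i => by
    obtain ⟨c, hc⟩ := (IsAlgClosed.algebraMap_bijective_of_isIntegral (k := K) (K := R ⧸ p.asIdeal)).2
      (Ideal.Quotient.mk _ (q (MvPolynomial.X i)))
    exact ⟨c, Ideal.Quotient.eq.1 hc.symm⟩
  choose c hc using hres
  let e : Fin 2 → R := fun i => q (MvPolynomial.X i) - algebraMap K R (c i)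
  have heq : q (MvPolynomial.X 0) * q (MvPolynomial.X 1) = algebraMap K R a := by
    rw [← map_mul, ← sub_eq_zero, ← q.commutes a, ← map_sub]
    exact Ideal.Quotient.eq_zero_iff_mem.2 (Ideal.subset_span rfl)
  -- the ideal of the point
  have hP : p.asIdeal = Ideal.span (Set.range e) := by
    refine le_antisymm (fun r hr => ?_) (Ideal.span_le.2 (by rintro _ ⟨i, rfl⟩; exact hc i))
    obtain ⟨g, rfl⟩ := Ideal.Quotient.mk_surjective r
    have key : ∀ g : MvPolynomial (Fin 2) K, q g - algebraMap K R (MvPolynomial.eval c g) ∈ Ideal.span (Set.range e) := by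
      intro g
      induction g using MvPolynomial.induction_on with
      | C r => rw [MvPolynomial.eval_C, show q (MvPolynomial.C r) = algebraMap K R r from q.commutes r, sub_self]; exact zero_mem _
      | add g h hg hh =>
        rw [map_add, map_add, map_add, show q g + q h - (algebraMap K R (MvPolynomial.eval c g) +
          algebraMap K R (MvPolynomial.eval c h)) = (q g - algebraMap K R (MvPolynomial.eval c g)) +
          (q h - algebraMap K R (MvPolynomial.eval c h)) by ring]
        exact add_mem hg hh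
      | mul_X g i hg =>
        rw [map_mul, map_mul, MvPolynomial.eval_X, map_mul,
          show q g * q (MvPolynomial.X i) - algebraMap K R (MvPolynomial.eval c g) * algebraMap K R (c i) =
            (q g - algebraMap K R (MvPolynomial.eval c g)) * q (MvPolynomial.X i) +
              algebraMap K R (MvPolynomial.eval c g) * e i by simp only [e]; ring]
        exact add_mem (Ideal.mul_mem_right _ _ hg) (Ideal.mul_mem_left _ _ (Ideal.subset_span ⟨i, rfl⟩))
    have hle : Ideal.span (Set.range e) ≤ p.asIdeal := Ideal.span_le.2 (by rintro _ ⟨i, rfl⟩; exact hc i)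
    have h0 : algebraMap K R (MvPolynomial.eval c g) ∈ p.asIdeal := by
      have := sub_mem hr (hle (key g))
      rwa [show Ideal.Quotient.mk _ g = q g from rfl, sub_sub_cancel] at this
    have he0 : MvPolynomial.eval c g = 0 := by
      by_contra hne
      exact Ideal.IsPrime.ne_top' (I := p.asIdeal) (Ideal.eq_top_of_isUnit_mem _ h0 ((isUnit_iff_ne_zero.2 hne).map _))
    have := key g
    rwa [he0, map_zero, sub_zero] at this
  have hPpair : p.asIdeal = Ideal.span {e 0, e 1} := by
    rw [hP, show Set.range e = {e 0, e 1} by ext z; simp [Fin.exists_fin_two, @eq_comm _ z]]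
  have hrel : c 0 * c 1 = a := by
    have h0 : algebraMap K R (c 0 * c 1 - a) ∈ p.asIdeal := by
      rw [map_sub, map_mul, ← heq, show algebraMap K R (c 0) * algebraMap K R (c 1) - q (MvPolynomial.X 0) * q (MvPolynomial.X 1) =
        -(e 0 * q (MvPolynomial.X 1) + algebraMap K R (c 0) * e 1) by simp only [e]; ring]
      exact neg_mem (add_mem (Ideal.mul_mem_right _ _ (hc 0)) (Ideal.mul_mem_left _ _ (hc 1)))
    by_contra hne
    exact Ideal.IsPrime.ne_top' (I := p.asIdeal)
      (Ideal.eq_top_of_isUnit_mem _ h0 ((isUnit_iff_ne_zero.2 (sub_ne_zero.2 hne)).map _))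
  have hlin : algebraMap K R (c 1) * e 0 + algebraMap K R (c 0) * e 1 = -(e 0 * e 1) := by
    have : algebraMap K R (c 0) * algebraMap K R (c 1) = q (MvPolynomial.X 0) * q (MvPolynomial.X 1) := by
      rw [← map_mul, hrel, heq]
    simp only [e]; linear_combination -this
  by_cases h0 : c 0 = 0 ∧ c 1 = 0
  · -- the node
    refine Or.inr ((odpAt_spec_iff p).2 ⟨fun n => ?_, e 0, e 1, hc 0, hc 1, ?_, 0, 1, 0, by norm_num, ?_⟩)
    · have ha : a = 0 := by rw [← hrel, h0.1, zero_mul]
      have he : ∀ i, e i = q (MvPolynomial.X i) := fun i => by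
        fin_cases i <;> simp [e, h0.1, h0.2]
      have hP2 : p.asIdeal = (MvPolynomial.idealOfVars (Fin 2) K).map q := by
        rw [hP, MvPolynomial.idealOfVars, Ideal.map_span, ← Set.range_comp]
        exact congrArg Ideal.span (congrArg Set.range (funext he))
      have hJ : Ideal.span {nodeEq a} ⊔ MvPolynomial.idealOfVars (Fin 2) K ^ n = J K n := by
        rw [J, sup_comm, nodeEq, ha, map_zero, sub_zero]
      rw [← finrank_N (K := K) n, hP2, ← Ideal.map_pow]
      exact ((DoubleQuot.quotQuotEquivQuotSupₐ K _ _).trans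
        (Ideal.quotientEquivAlgOfEq K hJ)).toLinearEquiv.finrank_eq
    · rw [hPpair]; exact le_sup_left
    · have he01 : e 0 * e 1 = 0 := by
        have := hlin; rw [h0.1, h0.2, map_zero] at this; linear_combination this
      rw [zero_smul, zero_smul, one_smul, zero_add, add_zero, he01]
      exact zero_mem _
  · -- a smooth point
    refine Or.inl ?_
    have hsq : e 0 * e 1 ∈ p.asIdeal ^ 2 := by rw [pow_two]; exact Ideal.mul_mem_mul (hc 0) (hc 1)
    by_cases hc0 : c 0 = 0
    · have hc1 : c 1 ≠ 0 := fun h => h0 ⟨hc0, h⟩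
      refine mem_smoothLocus_of_cotangent p (e 1) (hc 1) ?_ (localDim_plane hf p)
      rw [hPpair, Ideal.span_le]
      rintro z (rfl | rfl)
      · refine Submodule.mem_sup.2 ⟨0, zero_mem _, e 0, ?_, zero_add _⟩
        rw [← hPpair]
        have e1 : algebraMap K R (c 1)⁻¹ * algebraMap K R (c 1) = 1 := by rw [← map_mul, inv_mul_cancel₀ hc1, map_one]
        rw [hc0, map_zero, zero_mul, add_zero] at hlin
        rw [show e 0 = algebraMap K R (c 1)⁻¹ * (-(e 0 * e 1)) by rw [← hlin, ← mul_assoc, e1, one_mul]]
        exact Ideal.mul_mem_left _ _ (neg_mem hsq)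
      · exact Ideal.mem_sup_left (Ideal.subset_span rfl)
    · refine mem_smoothLocus_of_cotangent p (e 0) (hc 0) ?_ (localDim_plane hf p)
      rw [hPpair, Ideal.span_le]
      rintro z (rfl | rfl)
      · exact Ideal.mem_sup_left (Ideal.subset_span rfl)
      · have e1 : algebraMap K R (c 0)⁻¹ * algebraMap K R (c 0) = 1 := by rw [← map_mul, inv_mul_cancel₀ hc0, map_one]
        refine Submodule.mem_sup.2 ⟨-(algebraMap K R (c 0)⁻¹ * algebraMap K R (c 1)) * e 0,
          Ideal.mul_mem_left _ _ (Ideal.subset_span rfl), algebraMap K R (c 0)⁻¹ * (-(e 0 * e 1)), ?_, ?_⟩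
        · rw [← hPpair]; exact Ideal.mul_mem_left _ _ (neg_mem hsq)
        · rw [← hlin]; linear_combination e 1 * e1

theorem good_line [IsAlgClosed K] : Good (DimF18.specTo K (Polynomial K)) := by
  refine ⟨?_, fun p _ => Or.inl ?_⟩
  · rw [← components_iff (DimF18.specTo K (Polynomial K))]
    intro Z hZ
    haveI : IrreducibleSpace (Spec (CommRingCat.of (Polynomial K))) := inferInstanceAs (IrreducibleSpace (PrimeSpectrum (Polynomial K)))
    rw [irreducibleComponents_eq_singleton, Set.mem_singleton_iff] at hZ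
    subst hZ
    rw [(Homeomorph.Set.univ _).isHomeomorph.topologicalKrullDim_eq]
    refine (PrimeSpectrum.topologicalKrullDim_eq_ringKrullDim _).trans ?_
    rw [Polynomial.ringKrullDim_of_isNoetherianRing, ringKrullDim_eq_zero_of_field, zero_add]
  · haveI : Smooth (DimF18.specTo K (Polynomial K)) := by
      rw [DimF18.specTo, HasRingHomProperty.Spec_iff (P := @Smooth), CommRingCat.hom_ofHom, RingHom.smooth_algebraMap]
      exact ⟨inferInstanceAs (Algebra.FormallySmooth K (Polynomial K)), inferInstanceAs (Algebra.FinitePresentation K (Polynomial K))⟩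
    rw [Scheme.Hom.smoothLocus_eq_top]; trivial

/-! ## Families -/

variable (A : Type u) [CommRing A]

theorem good_pullback_spec {R : Type u} [CommRing R] [Algebra A R] {L : Type u} [Field L] [IsAlgClosed L] [Algebra A L]
    [LocallyOfFiniteType (Spec.map (CommRingCat.ofHom (algebraMap A R)))] {R' : Type u} [CommRing R'] [Algebra L R']
    [Algebra.FiniteType L R'] (e : L ⊗[A] R ≃ₐ[L] R') (h : Good (DimF18.specTo L R')) :
    Good (pullback.snd (Spec.map (CommRingCat.ofHom (algebraMap A R))) (Spec.map (CommRingCat.ofHom (algebraMap A L)))) := by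
  have sq : IsPullback (Spec.map (CommRingCat.ofHom (Algebra.TensorProduct.includeRight (R := A) (A := L) (B := R)).toRingHom))
      (Spec.map (CommRingCat.ofHom (algebraMap L (L ⊗[A] R)))) (Spec.map (CommRingCat.ofHom (algebraMap A R)))
      (Spec.map (CommRingCat.ofHom (algebraMap A L))) :=
    (AlgebraicGeometry.isPullback_SpecMap_of_isPushout _ _ _ _ (CommRingCat.isPushout_tensorProduct A L R)).flip
  let i : Spec (CommRingCat.of R') ≅ pullback (Spec.map (CommRingCat.ofHom (algebraMap A R)))
      (Spec.map (CommRingCat.ofHom (algebraMap A L))) :=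
    Scheme.Spec.mapIso (e.toRingEquiv.toCommRingCatIso).op ≪≫ sq.isoPullback
  refine (good_congr i ?_).1 h
  rw [Iso.trans_hom, Category.assoc, sq.isoPullback_hom_snd]
  show Spec.map _ ≫ Spec.map _ = _
  rw [← Spec.map_comp]
  exact congrArg Spec.map (CommRingCat.hom_ext (RingHom.ext fun c => e.commutes c))

theorem isNodalFamily_lineToBase : Curv2.IsNodalFamily (StrictSS.lineToBase A) := by
  haveI : Smooth (StrictSS.lineToBase A) := by
    rw [HasRingHomProperty.Spec_iff (P := @Smooth), CommRingCat.hom_ofHom, ← Polynomial.algebraMap_eq,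
      RingHom.smooth_algebraMap]
    exact ⟨inferInstanceAs (Algebra.FormallySmooth A (Polynomial A)), inferInstanceAs (Algebra.FinitePresentation A (Polynomial A))⟩
  refine isNodalFamily_of_famGood _ fun L _ _ t => ?_
  obtain ⟨φ, rfl⟩ := Spec.map_surjective t
  letI : Algebra A L := φ.hom.toAlgebra
  haveI : LocallyOfFiniteType (Spec.map (CommRingCat.ofHom (algebraMap A (Polynomial A)))) := by
    rw [Polynomial.algebraMap_eq]; infer_instance
  have h := good_pullback_spec A (R := Polynomial A) (L := L) (polyEquivTensor' A L).symm good_line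
  simp only [Polynomial.algebraMap_eq] at h
  exact h

theorem locallyOfFinitePresentation_nodeToBase (a : A) : LocallyOfFinitePresentation (StrictSS.nodeToBase A a) := by
  rw [HasRingHomProperty.Spec_iff (P := @LocallyOfFinitePresentation), CommRingCat.hom_ofHom,
    RingHom.finitePresentation_algebraMap]
  exact Algebra.FinitePresentation.quotient (Submodule.fg_span_singleton _)

theorem famGood_nodeToBase (a : A) :
    haveI := locallyOfFinitePresentation_nodeToBase A a
    FamGood (StrictSS.nodeToBase A a) := by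
  haveI := locallyOfFinitePresentation_nodeToBase A a
  intro L _ _ t
  obtain ⟨φ, rfl⟩ := Spec.map_surjective t
  letI : Algebra A L := φ.hom.toAlgebra
  let b : L := algebraMap A L a
  let e₁ : L ⊗[A] StrictSS.NodeAlg A a ≃ₐ[L] (L ⊗[A] MvPolynomial (Fin 2) A) ⧸
      (Ideal.span {nodeEq a}).map (Algebra.TensorProduct.includeRight (R := A) (A := L)) :=
    Algebra.TensorProduct.tensorQuotientEquiv (R := A) L _ L _
  let e₂ : ((L ⊗[A] MvPolynomial (Fin 2) A) ⧸
      (Ideal.span {nodeEq a}).map (Algebra.TensorProduct.includeRight (R := A) (A := L))) ≃ₐ[L] StrictSS.NodeAlg L b :=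
    Ideal.quotientEquivAlg _ _ (MvPolynomial.algebraTensorAlgEquiv A L) (by
      rw [Ideal.map_span, Set.image_singleton, Ideal.map_span, Set.image_singleton]
      congr 2
      simp [nodeEq, b, MvPolynomial.algebraTensorAlgEquiv_tmul])
  exact good_pullback_spec A (R := StrictSS.NodeAlg A a) (L := L) (e₁.trans e₂) (good_nodeAlg b)

/-- Composition with an etale map of the base. -/
theorem famGood_postcomp_etale {X S S' : Scheme.{u}} (e : S' ⟶ S) [Etale e] (f : X ⟶ S') [LocallyOfFiniteType f]
    (h : FamGood f) : FamGood (f ≫ e) := by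
  intro L _ _ t
  refine good_of_cover _ fun x => ?_
  let i := pullbackRightPullbackFstIso e t f
  let b := pullback.snd f (pullback.fst e t)
  let q := pullback.snd e t
  haveI : Etale q := MorphismProperty.pullback_snd _ _ inferInstance
  obtain ⟨z, rfl⟩ := i.hom.surjective x
  have hu : IsClosed ({b z} : Set (pullback e t : Scheme.{u})) :=
    isClosed_of_etale_of_isClosed q (𝟙 _) (by
      rw [show ({q (b z)} : Set (Spec (CommRingCat.of L))) = Set.univ from
        Set.eq_univ_of_forall fun w => Set.mem_singleton_iff.2 (Subsingleton.elim (α := PrimeSpectrum L) _ _)]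
      exact isClosed_univ)
  let P := pointOfClosedPoint q (b z) hu
  haveI : Etale (P ≫ q) := by rw [show P ≫ q = 𝟙 _ from pointOfClosedPoint_comp _ _ _]; infer_instance
  haveI : Etale P := Etale.of_comp P q
  haveI : Etale (pullback.fst b P) := MorphismProperty.pullback_fst _ _ inferInstance
  obtain ⟨w, hw, -⟩ := Scheme.Pullback.exists_preimage_pullback (f := b) (g := P) z (IsLocalRing.closedPoint L)
    (pointOfClosedPoint_apply q (b z) hu _).symm
  refine ⟨_, pullback.fst b P ≫ i.hom, inferInstance, ⟨w, by rw [Scheme.Hom.comp_apply, hw]⟩, ?_⟩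
  have he : (pullback.fst b P ≫ i.hom) ≫ pullback.snd (f ≫ e) t = pullback.snd b P := by
    rw [Category.assoc, pullbackRightPullbackFstIso_hom_snd, ← Category.assoc, pullback.condition, Category.assoc,
      pointOfClosedPoint_comp, Category.comp_id]
  refine (good_congr (Iso.refl _) ?_).1
    ((good_congr (pullbackLeftPullbackSndIso f (pullback.fst e t) P)
      (pullbackLeftPullbackSndIso_hom_snd _ _ _)).2 (h L (P ≫ pullback.fst e t)))
  rw [Iso.refl_hom, Category.id_comp, he]

end Groth.Agent.Nodal27
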