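import Groth.Agent.Lib.Nodal27.Crit
import Groth.Agent.Lib.NodalRed10.Local
import Groth.Agent.Lib.RegSmooth17.Scheme
import Groth.Agent.Lib.GeomIrr18.Res
import Groth.Agent.Lib.GeomRed18.Smooth
import Groth.Agent.Lib.GeomReg18.Descent
import Groth.Agent.Lib.EtaleNhd17.Basic
import Groth.Agent.Lib.Cartier.Smooth
import Groth.Agent.Lib.DimF18.Prod
import Groth.Agent.S2155
import Groth.Agent.S1146

/-!
# Nodes of schemes over algebraically closed fields
-/

set_option autoImplicit false
set_option linter.style.haveILetI false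
set_option backward.isDefEq.respectTransparency.types false

universe u

open CategoryTheory CategoryTheory.Limits AlgebraicGeometry IsLocalRing
open scoped TensorProduct

noncomputable section

namespace Groth.Agent.Nodal27

variable {K : Type u} [Field K] {X Y : Scheme.{u}}

instance lfp_of_lft (f : X ⟶ Spec (CommRingCat.of K)) [LocallyOfFiniteType f] : LocallyOfFinitePresentation f :=
  { finitePresentation_appLE := fun {U} hU {V} hV e =>
      haveI := IsLocallyNoetherian.component_noetherian (X := Spec (CommRingCat.of K)) ⟨U, hU⟩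
      RingHom.FinitePresentation.of_finiteType.mp (f.finiteType_appLE hU hV e) }

/-- The local ring at `x` has the node data. -/
def ODPAt (f : X ⟶ Spec (CommRingCat.of K)) (x : X) : Prop :=
  letI : X.Over (Spec (CommRingCat.of K)) := ⟨f⟩
  letI := Curv2.stalkAlgebra K X x
  NodeData K (maximalIdeal (X.presheaf.stalk x))

/-- A smooth point or an ordinary double point. -/
def GoodAt (f : X ⟶ Spec (CommRingCat.of K)) [LocallyOfFiniteType f] (x : X) : Prop :=
  x ∈ f.smoothLocus ∨ ODPAt f x

theorem stalkMap_toStalk (g : Y ⟶ X) (f : X ⟶ Spec (CommRingCat.of K)) (y : Y) (c : K) :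
    g.stalkMap y (RegSmooth17.toStalk f (g y) c) = RegSmooth17.toStalk (g ≫ f) y c := by
  simp only [RegSmooth17.toStalk, CommRingCat.hom_comp, RingHom.comp_apply]
  rw [Scheme.Hom.germ_stalkMap_apply, Scheme.Hom.comp_appTop]
  rfl

/-- The map of local rings as a map of algebras over the field. -/
theorem odpAt_comp_iff_nodeData (g : Y ⟶ X) (f : X ⟶ Spec (CommRingCat.of K)) (y : Y) :
    ODPAt (g ≫ f) y ↔ (letI := (RegSmooth17.toStalk (g ≫ f) y).toAlgebra
      NodeData K (maximalIdeal (Y.presheaf.stalk y))) := Iff.rfl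

theorem bijective_residue_toStalk [IsAlgClosed K] (f : X ⟶ Spec (CommRingCat.of K)) [LocallyOfFiniteType f] {x : X}
    (hx : IsClosed ({x} : Set X)) : Function.Bijective ((X.residue x).hom.comp (RegSmooth17.toStalk f x)) := by
  letI : X.Over (Spec (CommRingCat.of K)) := ⟨f⟩
  have h : CommRingCat.ofHom (Curv2.resMap K X x) = (residueFieldIsoBase f x hx).inv :=
    Spec.map_injective (by rw [GeomIrr.spec_resMap, SpecMap_residueFieldIsoBase_inv]; rfl)
  have := ConcreteCategory.bijective_of_isIso (residueFieldIsoBase f x hx).inv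
  rw [← h] at this
  exact this

theorem exists_sub_mem_maximal [IsAlgClosed K] (f : X ⟶ Spec (CommRingCat.of K)) [LocallyOfFiniteType f] {x : X}
    (hx : IsClosed ({x} : Set X)) (a : X.presheaf.stalk x) :
    ∃ c : K, RegSmooth17.toStalk f x c - a ∈ maximalIdeal (X.presheaf.stalk x) := by
  obtain ⟨c, hc⟩ := (bijective_residue_toStalk f hx).2 ((X.residue x).hom a)
  exact ⟨c, Ideal.Quotient.eq.1 hc⟩

theorem isClosed_image (g : Y ⟶ X) (f : X ⟶ Spec (CommRingCat.of K)) [LocallyOfFiniteType f] [LocallyOfFiniteType g]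
    {y : Y} (hy : IsClosed ({y} : Set Y)) : IsClosed ({g y} : Set X) :=
  haveI : JacobsonSpace X := LocallyOfFiniteType.jacobsonSpace f
  g.closePoints_subset_preimage_closedPoints hy

/-- Nodes correspond along etale maps. -/
theorem odpAt_etale_iff [IsAlgClosed K] (g : Y ⟶ X) [Etale g] (f : X ⟶ Spec (CommRingCat.of K))
    [LocallyOfFiniteType f] {y : Y} (hy : IsClosed ({y} : Set Y)) : ODPAt (g ≫ f) y ↔ ODPAt f (g y) := by
  letI := (RegSmooth17.toStalk f (g y)).toAlgebra
  letI := (RegSmooth17.toStalk (g ≫ f) y).toAlgebra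
  let φ : X.presheaf.stalk (g y) →ₐ[K] Y.presheaf.stalk y :=
    { (g.stalkMap y).hom with commutes' := stalkMap_toStalk g f y }
  haveI : IsLocalHom φ.toRingHom := inferInstanceAs (IsLocalHom (g.stalkMap y).hom)
  have hunr := ((EtaleNhd17.formallyUnramified_stalkMap_iff_map_eq g y).1 (FormallyUnramified.stalkMap g y)).2
  refine (nodeData_iff_of_flat_unramified φ (Flat.stalkMap g y) hunr fun b => ?_).symm
  obtain ⟨c, hc⟩ := exists_sub_mem_maximal (g ≫ f) hy b
  exact ⟨algebraMap K _ c, by rw [φ.commutes]; exact hc⟩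

theorem mem_smoothLocus_iff_isRegular [IsAlgClosed K] (f : X ⟶ Spec (CommRingCat.of K)) [LocallyOfFiniteType f] {x : X}
    (hx : IsClosed ({x} : Set X)) : x ∈ f.smoothLocus ↔ IsRegularLocalRing (X.presheaf.stalk x) := by
  letI : X.Over (Spec (CommRingCat.of K)) := ⟨f⟩
  haveI : LocallyOfFinitePresentation (X ↘ Spec (CommRingCat.of K)) := inferInstanceAs (LocallyOfFinitePresentation f)
  refine ⟨fun h => GeomRed.isRegularLocalRing_of_mem_smoothLocus (k := K) h, fun h => ?_⟩
  refine RegSmooth17.mem_smoothLocus_of_isRegularLocalRing f x ?_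
  letI := ((X.residue x).hom.comp (RegSmooth17.toStalk f x)).toAlgebra
  exact RingHom.formallySmooth_algebraMap.2
    (Algebra.FormallySmooth.of_equiv (AlgEquiv.ofBijective (Algebra.ofId K (X.residueField x))
      (bijective_residue_toStalk f hx)))

theorem smoothAt_etale_iff [IsAlgClosed K] (g : Y ⟶ X) [Etale g] (f : X ⟶ Spec (CommRingCat.of K))
    [LocallyOfFiniteType f] {y : Y} (hy : IsClosed ({y} : Set Y)) :
    y ∈ (g ≫ f).smoothLocus ↔ g y ∈ f.smoothLocus := by
  refine ⟨fun h => ?_, fun h => ?_⟩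
  · rw [mem_smoothLocus_iff_isRegular _ hy] at h
    rw [mem_smoothLocus_iff_isRegular _ (isClosed_image g f hy)]
    exact GeomReg18.isRegularLocalRing_stalk_of_flat g y h
  · rw [Scheme.Hom.mem_smoothLocus] at h ⊢
    rw [Scheme.Hom.stalkMap_comp]
    change ((g.stalkMap y).hom.comp (f.stalkMap (g y)).hom).FormallySmooth
    have hg : y ∈ g.smoothLocus := by rw [Scheme.Hom.smoothLocus_eq_top]; trivial
    exact RingHom.FormallySmooth.comp h hg

theorem goodAt_etale_iff [IsAlgClosed K] (g : Y ⟶ X) [Etale g] (f : X ⟶ Spec (CommRingCat.of K))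
    [LocallyOfFiniteType f] {y : Y} (hy : IsClosed ({y} : Set Y)) : GoodAt (g ≫ f) y ↔ GoodAt f (g y) :=
  or_congr (smoothAt_etale_iff g f hy) (odpAt_etale_iff g f hy)

theorem isClosed_of_etale_of_isClosed (g : Y ⟶ X) [Etale g] (f : X ⟶ Spec (CommRingCat.of K)) [LocallyOfFiniteType f]
    {y : Y} (hy : IsClosed ({g y} : Set X)) : IsClosed ({y} : Set Y) := by
  haveI := Groth.Agent.AlgSpDecent.locallyQuasiFinite_of_etale g
  refine isClosed_of_closure_subset fun z hz => ?_
  have h1 : g z = g y := ((specializes_iff_mem_closure.2 hz).map g.continuous).mem_closed hy rfl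
  obtain ⟨O, hO, hzO, h⟩ := Groth.Agent.AlgSpDecent.isoIn_of_lqf g z
  have h2 : y ⤳ z := specializes_iff_mem_closure.2 hz
  exact Set.mem_singleton_iff.2 (h y (h2.mem_open hO hzO) h1.symm).symm

/-! ## Local rings of affine schemes -/

theorem nodeData_localization_iff {R : Type u} [CommRing R] [Algebra K R] (P : Ideal R) [P.IsMaximal]
    (S : Type u) [CommRing S] [Algebra R S] [IsLocalization.AtPrime S P] [IsLocalRing S] [Algebra K S]
    [IsScalarTower K R S] : NodeData K P ↔ NodeData K (maximalIdeal S) := by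
  have hmap : ∀ n, maximalIdeal S ^ n = (P ^ n).map (algebraMap R S) := fun n => by
    rw [Ideal.map_pow, IsLocalization.AtPrime.map_eq_maximalIdeal P S]
  have hinv : ∀ n (s : R), s ∉ P → ∃ t, s * t - 1 ∈ P ^ n := fun n s hs => by
    have h1 : Ideal.span {s} ⊔ P = ⊤ :=
      (Ideal.IsMaximal.out (I := P)).2 _ (lt_of_le_of_ne le_sup_right fun e => hs
        (e.symm ▸ Ideal.mem_sup_left (Ideal.mem_span_singleton_self s)))
    have h2 := Ideal.sup_pow_eq_top (n := n) h1
    rw [Ideal.eq_top_iff_one] at h2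
    obtain ⟨a, ha, b, hb, hab⟩ := Submodule.mem_sup.1 h2
    obtain ⟨t, rfl⟩ := Ideal.mem_span_singleton'.1 ha
    exact ⟨t, by rw [show s * t - 1 = -b by linear_combination hab]; exact neg_mem hb⟩
  refine nodeData_iff_of_levels (IsScalarTower.toAlgHom K R S)
    (fun n r hr => by rw [hmap]; exact Ideal.mem_map_of_mem _ hr) (fun n r hr => ?_) fun n r' => ?_
  · rw [hmap, IsScalarTower.coe_toAlgHom', IsLocalization.algebraMap_mem_map_algebraMap_iff P.primeCompl] at hr
    obtain ⟨s, hs, hsr⟩ := hr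
    obtain ⟨t, ht⟩ := hinv n s hs
    rw [show r = t * (s * r) - r * (s * t - 1) by ring]
    exact sub_mem (Ideal.mul_mem_left _ _ hsr) (Ideal.mul_mem_left _ _ ht)
  · obtain ⟨a, s, rfl⟩ := IsLocalization.exists_mk'_eq P.primeCompl r'
    obtain ⟨t, ht⟩ := hinv n s s.2
    refine ⟨a * t, ?_⟩
    rw [hmap, IsScalarTower.coe_toAlgHom',
      show algebraMap R S (a * t) - IsLocalization.mk' S a s =
        IsLocalization.mk' S a s * algebraMap R S (s * t - 1) by
        rw [map_sub, map_mul, map_mul, map_one, mul_sub, ← mul_assoc, IsLocalization.mk'_spec, mul_one]]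
    exact Ideal.mul_mem_left _ _ (Ideal.mem_map_of_mem _ ht)

theorem toStalk_spec {R : Type u} [CommRing R] [Algebra K R] (p : Spec (CommRingCat.of R)) (c : K) :
    RegSmooth17.toStalk (Spec.map (CommRingCat.ofHom (algebraMap K R))) p c =
      StructureSheaf.toStalk R p (algebraMap K R c) := by
  simp only [RegSmooth17.toStalk, CommRingCat.hom_comp, RingHom.comp_apply]
  rw [← CommRingCat.comp_apply (Scheme.ΓSpecIso _).inv, ← Scheme.ΓSpecIso_inv_naturality]
  rfl

theorem odpAt_spec_iff {R : Type u} [CommRing R] [Algebra K R] (p : Spec (CommRingCat.of R)) [p.asIdeal.IsMaximal] :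
    ODPAt (Spec.map (CommRingCat.ofHom (algebraMap K R))) p ↔ NodeData K p.asIdeal := by
  let iK : Algebra K ((Spec (CommRingCat.of R)).presheaf.stalk p) :=
    (RegSmooth17.toStalk (Spec.map (CommRingCat.ofHom (algebraMap K R))) p).toAlgebra
  let iR : Algebra R ((Spec (CommRingCat.of R)).presheaf.stalk p) := (StructureSheaf.toStalk R p).hom.toAlgebra
  have hT : @IsScalarTower K R ((Spec (CommRingCat.of R)).presheaf.stalk p) _ iR.toSMul iK.toSMul :=
    @IsScalarTower.of_algebraMap_eq K R ((Spec (CommRingCat.of R)).presheaf.stalk p) _ _ _ _ iR iK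
      fun c => toStalk_spec p c
  have hL : @IsLocalization R _ p.asIdeal.primeCompl ((Spec (CommRingCat.of R)).presheaf.stalk p) _ iR :=
    inferInstanceAs (IsLocalization.AtPrime ((Spec.structureSheaf R).presheaf.stalk p) p.asIdeal)
  exact (@nodeData_localization_iff K _ R _ _ p.asIdeal _ ((Spec (CommRingCat.of R)).presheaf.stalk p) _ iR hL _
    iK hT).symm

/-! ## Dimension -/

theorem isMaxPt_of_not_isClosed (f : X ⟶ Spec (CommRingCat.of K)) [LocallyOfFiniteType f] {x : X}
    (hd : FlatMor.localDim X x ≤ 1) (hx : ¬IsClosed ({x} : Set X)) {y : X} (hy : y ⤳ x) : y = x := by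
  obtain ⟨z, -, -, hz, hall⟩ := DimF18.exists_localDim_eq_sdim f x
  rw [hz] at hd
  have h1 : VarDim.sdim f z ≤ 1 := by exact_mod_cast hd
  have h2 : VarDim.sdim f x ≠ 0 := fun h => hx ((VarDim.sdim_eq_zero_iff_isClosed f x).1 h)
  by_contra hne
  have := VarDim.sdim_lt_of_specializes f hy hne
  have := hall y hy
  omega

theorem ringKrullDim_stalk_le_one (f : X ⟶ Spec (CommRingCat.of K)) [LocallyOfFiniteType f] {x : X}
    (hd : FlatMor.localDim X x ≤ 1) : ringKrullDim (X.presheaf.stalk x) ≤ 1 := by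
  haveI : IsLocallyNoetherian X := LocallyOfFiniteType.isLocallyNoetherian f
  obtain ⟨b, hb⟩ := ENat.ne_top_iff_exists.1 (DimF18.coheight_ne_top x)
  rw [DimF18.localDim_eq f hb.symm] at hd
  rw [ringKrullDim_stalk_eq_coheight, ← hb]
  have : VarDim.sdim f x + b ≤ 1 := by exact_mod_cast hd
  have : b ≤ 1 := by omega
  exact_mod_cast this

/-- A node is not a regular point of a curve. -/
theorem not_mem_smoothLocus_of_odpAt [IsAlgClosed K] (f : X ⟶ Spec (CommRingCat.of K)) [LocallyOfFiniteType f] {x : X}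
    (hx : IsClosed ({x} : Set X)) (hd : FlatMor.localDim X x ≤ 1) (h : ODPAt f x) : x ∉ f.smoothLocus := by
  intro hs
  rw [mem_smoothLocus_iff_isRegular f hx] at hs
  haveI := hs
  letI := (RegSmooth17.toStalk f x).toAlgebra
  obtain ⟨hrank, -⟩ : NodeData K (maximalIdeal (X.presheaf.stalk x)) := h
  have hsp : ((maximalIdeal (X.presheaf.stalk x)).spanFinrank : WithBot ℕ∞) ≤ 1 := by
    rw [IsRegularLocalRing.spanFinrank_maximalIdeal (R := X.presheaf.stalk x)]
    exact ringKrullDim_stalk_le_one f hd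
  obtain ⟨t, ht⟩ : ∃ t, maximalIdeal (X.presheaf.stalk x) = Ideal.span {t} := by
    have hfg := (maximalIdeal (X.presheaf.stalk x)).fg_of_isNoetherianRing
    have h1 : (maximalIdeal (X.presheaf.stalk x)).spanFinrank ≤ 1 := by exact_mod_cast hsp
    have hs := Submodule.FG.generators_ncard hfg
    haveI := (Submodule.FG.finite_generators hfg).to_subtype
    obtain he | ⟨t, ht⟩ := (Set.ncard_le_one_iff_subsingleton.1 (hs.trans_le h1)).eq_empty_or_singleton
    · exact ⟨0, by rw [← Submodule.span_generators (maximalIdeal (X.presheaf.stalk x)), he]; simp⟩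
    · exact ⟨t, by rw [← Submodule.span_generators (maximalIdeal (X.presheaf.stalk x)), ht]⟩
  let q := Ideal.Quotient.mk (maximalIdeal (X.presheaf.stalk x) ^ 2)
  have hle : (⊤ : Submodule K _) ≤ Submodule.span K ({1, q t} : Set (X.presheaf.stalk x ⧸ maximalIdeal (X.presheaf.stalk x) ^ 2)) := by
    intro z _
    obtain ⟨a, rfl⟩ := Ideal.Quotient.mk_surjective z
    obtain ⟨c, hc⟩ := exists_sub_mem_maximal f hx a
    rw [ht, Ideal.mem_span_singleton'] at hc
    obtain ⟨d, hd'⟩ := hc
    obtain ⟨e, he⟩ := exists_sub_mem_maximal f hx d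
    refine Submodule.mem_span_pair.2 ⟨c, -e, ?_⟩
    rw [Algebra.smul_def, Algebra.smul_def, mul_one]
    change Ideal.Quotient.mk _ (RegSmooth17.toStalk f x c) + Ideal.Quotient.mk _ (RegSmooth17.toStalk f x (-e)) * q t = q a
    simp only [q]
    rw [← map_mul, ← map_add, Ideal.Quotient.eq, map_neg, pow_two,
      show RegSmooth17.toStalk f x c + -RegSmooth17.toStalk f x e * t - a =
        (d - RegSmooth17.toStalk f x e) * t by linear_combination -hd']
    refine Ideal.mul_mem_mul ?_ (ht ▸ Ideal.mem_span_singleton_self t)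
    rw [← neg_sub]; exact neg_mem he
  have h2 := hrank 2
  classical
  have h3 : Module.finrank K (X.presheaf.stalk x ⧸ maximalIdeal (X.presheaf.stalk x) ^ 2) ≤ 2 := by
    rw [← finrank_top, ← top_le_iff.1 hle]
    have := finrank_span_finset_le_card (R := K) ({1, q t} : Finset _)
    rw [Set.finrank, Finset.coe_insert, Finset.coe_singleton] at this
    exact this.trans Finset.card_le_two
  omega

theorem isReduced_of_odpAt [IsAlgClosed K] (f : X ⟶ Spec (CommRingCat.of K)) [LocallyOfFiniteType f] {x : X}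
    (h : ODPAt f x) : _root_.IsReduced (X.presheaf.stalk x) := by
  haveI : IsLocallyNoetherian X := LocallyOfFiniteType.isLocallyNoetherian f
  letI := (RegSmooth17.toStalk f x).toAlgebra
  exact NodalRed10.isReduced_of_isOrdDoublePt (K := K) (isOrdDoublePt_of_nodeData h)

/-- A maximal point dominated by a node is a smooth point. -/
theorem mem_smoothLocus_of_flat_reduced [PerfectField K] (f : X ⟶ Spec (CommRingCat.of K)) [LocallyOfFiniteType f]
    (g : Y ⟶ X) [Flat g] (y : Y) [_root_.IsReduced (Y.presheaf.stalk y)] (hmax : ∀ z, z ⤳ g y → z = g y) :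
    g y ∈ f.smoothLocus := by
  refine Cartier.mem_smoothLocus_of_isField_stalk f _ ?_
  letI := (g.stalkMap y).hom.toAlgebra
  haveI : Module.Flat (X.presheaf.stalk (g y)) (Y.presheaf.stalk y) := Flat.stalkMap g y
  haveI : IsLocalHom (algebraMap (X.presheaf.stalk (g y)) (Y.presheaf.stalk y)) :=
    inferInstanceAs (IsLocalHom (g.stalkMap y).hom)
  haveI := Module.FaithfullyFlat.of_flat_of_isLocalHom (A := X.presheaf.stalk (g y)) (B := Y.presheaf.stalk y)
  haveI : _root_.IsReduced (X.presheaf.stalk (g y)) :=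
    isReduced_of_injective (algebraMap (X.presheaf.stalk (g y)) (Y.presheaf.stalk y))
      (FaithfulSMul.algebraMap_injective _ _)
  have h0 : ringKrullDim (X.presheaf.stalk (g y)) = 0 := by
    rw [ringKrullDim_stalk_eq_coheight,
      show Order.coheight (g y) = 0 from Order.coheight_eq_zero.2 fun z hz =>
        le_of_eq (hmax z (VarDim.le_iff_specializes'.1 hz))]
    rfl
  haveI : Ring.KrullDimLE 0 (X.presheaf.stalk (g y)) := Ring.krullDimLE_iff.2 (by rw [h0]; rfl)
  rw [IsLocalRing.isField_iff_maximalIdeal_eq, ← Ring.KrullDimLE.nilradical_eq_maximalIdeal, nilradical_eq_zero]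
  rfl

end Groth.Agent.Nodal27
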