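import Groth.Agent.Lib.Nodal27.Crit
import Groth.Agent.Lib.ArtFun.Obs
import Groth.Agent.Lib.RegLoc.Basic
import Groth.Agent.Lib.RegLoc.UFD
import Mathlib.RingTheory.AdicCompletion.AsTensorProduct
import Mathlib.RingTheory.AdicCompletion.RingHom
import Mathlib.RingTheory.Etale.Field
import Mathlib.RingTheory.Ideal.Cotangent
import Mathlib.RingTheory.UniqueFactorizationDomain.NormalizedFactors

/-!
# Nodes with arbitrary residue field: completed local ring and algebraic criterion
-/

set_option autoImplicit false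
set_option linter.style.haveILetI false

universe u

open IsLocalRing

noncomputable section

namespace Groth.Agent.Nodal27

variable (κ : Type u) [Field κ]

/-- A quadratic form in two variables as a power series. -/
abbrev quadPS (a b c : κ) : MvPowerSeries (Fin 2) κ :=
  MvPowerSeries.C a * MvPowerSeries.X 0 ^ 2 + MvPowerSeries.C b * MvPowerSeries.X 0 * MvPowerSeries.X 1 +
    MvPowerSeries.C c * MvPowerSeries.X 1 ^ 2

theorem constantCoeff_eq_zero {f : MvPowerSeries (Fin 2) κ} (hf : f ∈ maximalIdeal (MvPowerSeries (Fin 2) κ)) :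
    MvPowerSeries.constantCoeff f = 0 := by
  by_contra h
  exact (IsLocalRing.mem_maximalIdeal _).1 hf (MvPowerSeries.isUnit_iff_constantCoeff.2 (isUnit_iff_ne_zero.2 h))

variable {κ}

theorem maximalIdeal_ps : maximalIdeal (MvPowerSeries (Fin 2) κ) = varIdeal κ := by
  refine le_antisymm (fun f hf => ?_) (Ideal.span_le.2 ?_)
  · have h0 := constantCoeff_eq_zero κ hf
    rw [← pow_one (varIdeal κ)]
    refine mem_varIdeal_pow fun m hm => ?_
    have : m = 0 := (Finsupp.degree_eq_zero_iff m).1 (by omega)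
    subst this
    rwa [MvPowerSeries.coeff_zero_eq_constantCoeff_apply]
  · rintro _ ⟨i, rfl⟩
    refine (IsLocalRing.mem_maximalIdeal _).2 (mem_nonunits_iff.2 fun hu => ?_)
    have := MvPowerSeries.isUnit_iff_constantCoeff.1 hu
    simp at this

theorem coeff_eq_zero_of_mem_pow {n : ℕ} {f : MvPowerSeries (Fin 2) κ} (hf : f ∈ varIdeal κ ^ n)
    {m : Fin 2 →₀ ℕ} (hm : Finsupp.degree m < n) : MvPowerSeries.coeff m f = 0 := by
  classical
  induction n generalizing f m with
  | zero => omega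
  | succ n ih =>
    rw [pow_succ] at hf
    refine Submodule.mul_induction_on hf (fun u hu v hv => ?_) fun u v hu hv => by rw [map_add, hu, hv, add_zero]
    rw [MvPowerSeries.coeff_mul]
    refine Finset.sum_eq_zero fun p hp => ?_
    rw [Finset.HasAntidiagonal.mem_antidiagonal] at hp
    have hd : Finsupp.degree p.1 + Finsupp.degree p.2 = Finsupp.degree m := by rw [← hp, map_add]
    by_cases h1 : Finsupp.degree p.1 < n
    · rw [ih hu h1, zero_mul]
    · have h2 : p.2 = 0 := (Finsupp.degree_eq_zero_iff _).1 (by omega)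
      rw [h2, MvPowerSeries.coeff_zero_eq_constantCoeff_apply,
        constantCoeff_eq_zero κ ((maximalIdeal_ps (κ := κ)).symm ▸ hv), mul_zero]

theorem exists_linear {g : MvPowerSeries (Fin 2) κ} (hg : g ∈ varIdeal κ) :
    g - (MvPowerSeries.C (MvPowerSeries.coeff (Finsupp.single 0 1) g) * MvPowerSeries.X 0 +
      MvPowerSeries.C (MvPowerSeries.coeff (Finsupp.single 1 1) g) * MvPowerSeries.X 1) ∈ varIdeal κ ^ 2 := by
  classical
  refine mem_varIdeal_pow fun m hm => ?_
  have h2 : Finsupp.degree m = m 0 + m 1 := by rw [Finsupp.degree_eq_sum, Fin.sum_univ_two]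
  rcases (show Finsupp.degree m = 0 ∨ Finsupp.degree m = 1 by omega) with h | h
  · have : m = 0 := (Finsupp.degree_eq_zero_iff m).1 h
    subst this
    simp [MvPowerSeries.coeff_zero_eq_constantCoeff_apply, constantCoeff_eq_zero κ ((maximalIdeal_ps (κ := κ)).symm ▸ hg)]
  · obtain rfl | rfl : m = Finsupp.single 0 1 ∨ m = Finsupp.single 1 1 := by
      by_cases h0 : m 0 = 0
      · exact Or.inr (Finsupp.ext fun i => by fin_cases i <;> simp [h0] <;> omega)
      · exact Or.inl (Finsupp.ext fun i => by fin_cases i <;> simp <;> omega)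
    · simp [MvPowerSeries.coeff_X, Finsupp.single_eq_single_iff]
    · simp [MvPowerSeries.coeff_X, Finsupp.single_eq_single_iff]

theorem quad_mem_cube {a b c : κ} (h : quadPS κ a b c ∈ varIdeal κ ^ 3) : a = 0 ∧ b = 0 ∧ c = 0 := by
  classical
  have hX : ∀ i : Fin 2, (MvPowerSeries.X i : MvPowerSeries (Fin 2) κ) = MvPowerSeries.monomial (Finsupp.single i 1) 1 :=
    fun i => rfl
  have hC : ∀ r : κ, (MvPowerSeries.C r : MvPowerSeries (Fin 2) κ) = MvPowerSeries.monomial 0 r := fun r =>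
    (MvPowerSeries.monomial_zero_eq_C_apply r).symm
  have hq : quadPS κ a b c = MvPowerSeries.monomial (Finsupp.single 0 2) a +
      MvPowerSeries.monomial (Finsupp.single 0 1 + Finsupp.single 1 1) b + MvPowerSeries.monomial (Finsupp.single 1 2) c := by
    simp only [quadPS, hC, hX, MvPowerSeries.monomial_mul_monomial, MvPowerSeries.monomial_pow, one_pow, mul_one, zero_add,
      Finsupp.smul_single, smul_eq_mul, add_assoc]
  have e : ∀ i, (Finsupp.single (0 : Fin 2) 2 : Fin 2 →₀ ℕ) i = if i = 0 then 2 else 0 := fun i => by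
    fin_cases i <;> simp
  refine ⟨?_, ?_, ?_⟩
  · have h1 := coeff_eq_zero_of_mem_pow h (m := Finsupp.single 0 2) (by simp [Finsupp.degree_single])
    simpa [hq, MvPowerSeries.coeff_monomial, Finsupp.ext_iff] using h1
  · have h1 := coeff_eq_zero_of_mem_pow h (m := Finsupp.single 0 1 + Finsupp.single 1 1) (by simp [Finsupp.degree_single])
    simpa [hq, MvPowerSeries.coeff_monomial, Finsupp.ext_iff] using h1
  · have h1 := coeff_eq_zero_of_mem_pow h (m := Finsupp.single 1 2) (by simp [Finsupp.degree_single])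
    simpa [hq, MvPowerSeries.coeff_monomial, Finsupp.ext_iff] using h1

theorem quad_mem_sq (a b c : κ) : quadPS κ a b c ∈ varIdeal κ ^ 2 := by
  have hx : ∀ i, (MvPowerSeries.X i : MvPowerSeries (Fin 2) κ) ∈ varIdeal κ := fun i => Ideal.subset_span ⟨i, rfl⟩
  refine add_mem (add_mem (Ideal.mul_mem_left _ _ (Ideal.pow_mem_pow (hx 0) 2)) ?_)
    (Ideal.mul_mem_left _ _ (Ideal.pow_mem_pow (hx 1) 2))
  rw [mul_assoc]
  exact Ideal.mul_mem_left _ _ (by rw [pow_two]; exact Ideal.mul_mem_mul (hx 0) (hx 1))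

theorem squarefree_quad {a b c : κ} (hd : 4 * a * c - b ^ 2 ≠ 0) : Squarefree (quadPS κ a b c) := by
  intro g hg
  obtain ⟨h, hh⟩ := hg
  by_contra hu
  have hgV : g ∈ varIdeal κ := (maximalIdeal_ps (κ := κ)) ▸ (IsLocalRing.mem_maximalIdeal g).2 hu
  set l0 := MvPowerSeries.coeff (Finsupp.single 0 1) g
  set l1 := MvPowerSeries.coeff (Finsupp.single 1 1) g
  have hlin := exists_linear hgV
  set l : MvPowerSeries (Fin 2) κ := MvPowerSeries.C l0 * MvPowerSeries.X 0 + MvPowerSeries.C l1 * MvPowerSeries.X 1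
  have hl : l ∈ varIdeal κ := by
    rw [show l = g - (g - l) by ring]
    exact sub_mem hgV (Ideal.pow_le_self two_ne_zero hlin)
  set h0 := MvPowerSeries.constantCoeff h
  have hh0 : h - MvPowerSeries.C h0 ∈ varIdeal κ := (maximalIdeal_ps (κ := κ)) ▸ (IsLocalRing.mem_maximalIdeal _).2
    (mem_nonunits_iff.2 fun hu => by
      have := MvPowerSeries.isUnit_iff_constantCoeff.1 hu
      simp [h0] at this)
  have h3 : quadPS κ (a - h0 * l0 ^ 2) (b - 2 * h0 * l0 * l1) (c - h0 * l1 ^ 2) ∈ varIdeal κ ^ 3 := by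
    have e : quadPS κ (a - h0 * l0 ^ 2) (b - 2 * h0 * l0 * l1) (c - h0 * l1 ^ 2) =
        quadPS κ a b c - MvPowerSeries.C h0 * (l * l) := by
      simp only [quadPS, l, map_sub, map_mul, map_pow, map_ofNat]; ring
    rw [e, hh, show g * g * h - MvPowerSeries.C h0 * (l * l) =
      ((g - l) * (g + l)) * h + l * l * (h - MvPowerSeries.C h0) by ring, pow_succ]
    exact add_mem (Ideal.mul_mem_right _ _ (Ideal.mul_mem_mul hlin (add_mem hgV hl)))
      (Ideal.mul_mem_mul (by rw [pow_two]; exact Ideal.mul_mem_mul hl hl) hh0)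
  obtain ⟨ha, hb, hc⟩ := quad_mem_cube h3
  exact hd (by linear_combination 4 * c * ha + 4 * (h0 * l0 ^ 2) * hc - (b + 2 * h0 * l0 * l1) * hb)

theorem isReduced_quot_quad {a b c : κ} (hd : 4 * a * c - b ^ 2 ≠ 0) :
    _root_.IsReduced (MvPowerSeries (Fin 2) κ ⧸ Ideal.span {quadPS κ a b c}) := by
  haveI := ArtFunLib.isRegularLocalRing_mvPowerSeries κ 2
  haveI := RegLoc.isDomain (MvPowerSeries (Fin 2) κ)
  haveI : UniqueFactorizationMonoid (MvPowerSeries (Fin 2) κ) := RegLoc.ufd_of_isRegularLocalRing _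
  have hq0 : quadPS κ a b c ≠ 0 := fun h0 => by
    obtain ⟨rfl, rfl, rfl⟩ := quad_mem_cube (a := a) (b := b) (c := c) (by rw [h0]; exact zero_mem _)
    exact hd (by ring)
  have hrad : (Ideal.span {quadPS κ a b c}).IsRadical :=
    (isRadical_iff_span_singleton.1 ((squarefree_quad hd).isRadical))
  exact (Ideal.isRadical_iff_quotient_reduced _).1 hrad

/-- Two monomials span each power modulo the quadric. -/
theorem pow_le_two_aux {P : Type*} [CommRing P] (x y : P) (a b c : P) (hc : IsUnit c) (n : ℕ) :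
    Ideal.span {x, y} ^ (n + 1) ≤
      Ideal.span {x ^ (n + 1), x ^ n * y} ⊔ Ideal.span {a * x ^ 2 + b * x * y + c * y ^ 2} := by
  obtain ⟨c', hc'⟩ := hc.exists_left_inv
  induction n with
  | zero => exact (pow_one _).le.trans (le_sup_of_le_left (by simp))
  | succ n ih =>
    rw [pow_succ (Ideal.span {x, y}) (n + 1)]
    refine (Ideal.mul_mono_left ih).trans ?_
    rw [Ideal.sup_mul]
    refine sup_le ?_ (le_sup_of_le_right Ideal.mul_le_left)
    rw [Ideal.span_pair_mul_span_pair, Ideal.span_le]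
    rintro z (rfl | rfl | rfl | rfl)
    · exact Ideal.mem_sup_left (Ideal.subset_span (Or.inl (by ring)))
    · exact Ideal.mem_sup_left (Ideal.subset_span (Or.inr (by rw [Set.mem_singleton_iff])))
    · exact Ideal.mem_sup_left (Ideal.subset_span (Or.inr (by rw [Set.mem_singleton_iff]; ring)))
    · refine Submodule.mem_sup.2 ⟨-(c' * a) * x ^ (n + 1 + 1) + -(c' * b) * (x ^ (n + 1) * y), ?_,
        c' * x ^ n * (a * x ^ 2 + b * x * y + c * y ^ 2), Ideal.mul_mem_left _ _ (Ideal.subset_span rfl), ?_⟩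
      · exact Ideal.mem_span_pair.2 ⟨_, _, rfl⟩
      · linear_combination (x ^ n * y * y) * hc'

theorem pow_le_two {P : Type*} [CommRing P] (x y : P) {a b c : κ} (φ : κ →+* P) (hd : 4 * a * c - b ^ 2 ≠ 0) (n : ℕ) :
    ∃ μ₁ μ₂ : P, μ₁ ∈ Ideal.span {x, y} ^ (n + 1) ∧ μ₂ ∈ Ideal.span {x, y} ^ (n + 1) ∧
      Ideal.span {x, y} ^ (n + 1) ≤
        Ideal.span {μ₁, μ₂} ⊔ Ideal.span {φ a * x ^ 2 + φ b * x * y + φ c * y ^ 2} := by
  have hx : x ∈ Ideal.span {x, y} := Ideal.subset_span (Set.mem_insert _ _)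
  have hy : y ∈ Ideal.span {x, y} := Ideal.subset_span (Set.mem_insert_of_mem _ rfl)
  have hmix : ∀ {u v : P}, u ∈ Ideal.span {x, y} → v ∈ Ideal.span {x, y} → u ^ n * v ∈ Ideal.span {x, y} ^ (n + 1) :=
    fun hu hv => by rw [pow_succ]; exact Ideal.mul_mem_mul (Ideal.pow_mem_pow hu n) hv
  by_cases hc : c = 0
  · by_cases ha : a = 0
    · have hb : b ≠ 0 := by rintro rfl; simp [ha] at hd
      refine ⟨x ^ (n + 1), y ^ (n + 1), Ideal.pow_mem_pow hx _, Ideal.pow_mem_pow hy _, ?_⟩
      obtain ⟨b', hb'⟩ := ((isUnit_iff_ne_zero.2 hb).map φ).exists_left_inv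
      rw [ha, hc, map_zero, zero_mul, zero_mul, zero_add, add_zero]
      clear hmix hx hy
      induction n with
      | zero => exact (pow_one _).le.trans (le_sup_of_le_left (by simp))
      | succ n ih =>
        rw [pow_succ (Ideal.span {x, y}) (n + 1)]
        refine (Ideal.mul_mono_left ih).trans ?_
        rw [Ideal.sup_mul]
        refine sup_le ?_ (le_sup_of_le_right Ideal.mul_le_left)
        rw [Ideal.span_pair_mul_span_pair, Ideal.span_le]
        rintro z (rfl | rfl | rfl | rfl)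
        · exact Ideal.mem_sup_left (Ideal.subset_span (Or.inl (by ring)))
        · exact Ideal.mem_sup_right (Ideal.mem_span_singleton'.2
            ⟨b' * x ^ n, by linear_combination (x ^ n * x * y) * hb'⟩)
        · exact Ideal.mem_sup_right (Ideal.mem_span_singleton'.2
            ⟨b' * y ^ n, by linear_combination (y ^ n * x * y) * hb'⟩)
        · exact Ideal.mem_sup_left (Ideal.subset_span (Or.inr (by rw [Set.mem_singleton_iff]; ring)))
    · refine ⟨y ^ (n + 1), y ^ n * x, Ideal.pow_mem_pow hy _, hmix hy hx, ?_⟩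
      rw [Set.pair_comm x y, show φ a * x ^ 2 + φ b * x * y + φ c * y ^ 2 = φ c * y ^ 2 + φ b * y * x + φ a * x ^ 2 by ring]
      exact pow_le_two_aux y x _ _ _ ((isUnit_iff_ne_zero.2 ha).map φ) n
  · exact ⟨x ^ (n + 1), x ^ n * y, Ideal.pow_mem_pow hx _, hmix hx hy,
      pow_le_two_aux x y _ _ _ ((isUnit_iff_ne_zero.2 hc).map φ) n⟩

/-- If a power of the maximal ideal is principal on a regular element, so is the maximal ideal. -/
theorem principal_of_pow_principal {B : Type*} [CommRing B] [IsLocalRing B] (n : ℕ) (u : B)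
    (hu : maximalIdeal B ^ (n + 1) = Ideal.span {u}) (hreg : IsSMulRegular B u) :
    ∃ t, maximalIdeal B = Ideal.span {t} := by
  have hmem : u ∈ maximalIdeal B ^ n * maximalIdeal B := by
    rw [← pow_succ, hu]; exact Ideal.mem_span_singleton_self u
  by_cases hall : ∀ w ∈ maximalIdeal B ^ n, ∀ z ∈ maximalIdeal B, w * z ∈ maximalIdeal B * Ideal.span {u}
  · exfalso
    have h1 : u ∈ maximalIdeal B * Ideal.span {u} :=
      Submodule.mul_induction_on (C := fun z => z ∈ maximalIdeal B * Ideal.span {u}) hmem hall fun _ _ => add_mem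
    obtain ⟨e, he, heq⟩ := Ideal.mem_mul_span_singleton.1 h1
    have h0 : u = 0 := by
      have hunit : IsUnit (1 - e) := IsLocalRing.isUnit_one_sub_self_of_mem_nonunits e he
      exact hunit.mul_right_eq_zero.1 (by linear_combination -heq)
    subst h0
    have : Subsingleton B := ⟨fun p q => hreg (by simp)⟩
    exact not_nontrivial_iff_subsingleton.2 this inferInstance
  push_neg at hall
  obtain ⟨w, hw, z, hz, hwz⟩ := hall
  have h2 : w * z ∈ Ideal.span {u} := by rw [← hu, pow_succ]; exact Ideal.mul_mem_mul hw hz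
  obtain ⟨e, he⟩ := Ideal.mem_span_singleton'.1 h2
  have heu : IsUnit e := by
    by_contra hne
    exact hwz (he ▸ Ideal.mul_mem_mul ((IsLocalRing.mem_maximalIdeal e).2 hne) (Ideal.mem_span_singleton_self u))
  refine ⟨z, le_antisymm (fun s hs => ?_) ((Ideal.span_singleton_le_iff_mem _).2 hz)⟩
  have h3 : w * s ∈ Ideal.span {u} := by rw [← hu, pow_succ]; exact Ideal.mul_mem_mul hw hs
  obtain ⟨d, hd⟩ := Ideal.mem_span_singleton'.1 h3
  obtain ⟨e', he'⟩ := heu.exists_left_inv
  refine Ideal.mem_span_singleton'.2 ⟨d * e', ?_⟩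
  refine (hreg ?_).symm
  show u • s = u • (d * e' * z)
  rw [smul_eq_mul, smul_eq_mul]
  linear_combination (-s * u) * he' + (e' * s) * he - (e' * z) * hd

section Complete

variable {B : Type u} [CommRing B] [IsLocalRing B] [IsNoetherianRing B] [IsAdicComplete (maximalIdeal B) B]
  [Algebra κ B] (hres : ∀ r : B, ∃ t : κ, r - algebraMap κ B t ∈ maximalIdeal B)

/-- An approximate zero of a nondegenerate form lifts to a zero. -/
theorem exists_zero {a b c : κ} (hd : 4 * a * c - b ^ 2 ≠ 0) {x₀ y₀ : B}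
    (hgen : maximalIdeal B ≤ Ideal.span {x₀, y₀} ⊔ maximalIdeal B ^ 2)
    (hx : x₀ ∈ maximalIdeal B) (hy : y₀ ∈ maximalIdeal B)
    (hq : algebraMap κ B a * x₀ ^ 2 + algebraMap κ B b * x₀ * y₀ + algebraMap κ B c * y₀ ^ 2 ∈ maximalIdeal B ^ 3) :
    ∃ x y : B, x ∈ maximalIdeal B ∧ y ∈ maximalIdeal B ∧ maximalIdeal B = Ideal.span {x, y} ∧
      algebraMap κ B a * x ^ 2 + algebraMap κ B b * x * y + algebraMap κ B c * y ^ 2 = 0 := by
  set m := maximalIdeal B
  let α := algebraMap κ B
  let q : B × B → B := fun w => α a * w.1 ^ 2 + α b * w.1 * w.2 + α c * w.2 ^ 2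
  have nak : ∀ {x y : B}, x ∈ m → y ∈ m → m ≤ Ideal.span {x, y} ⊔ m ^ 2 → m = Ideal.span {x, y} := by
    intro x y hx hy h
    refine le_antisymm (Submodule.le_of_le_smul_of_le_jacobson_bot (I := m) (IsNoetherian.noetherian _)
      (IsLocalRing.jacobson_eq_maximalIdeal ⊥ bot_ne_top).ge (by rw [smul_eq_mul, ← pow_two]; exact h))
      (Ideal.span_le.2 ?_)
    rintro z (rfl | rfl) <;> assumption
  let G : ℕ → B × B → Prop := fun n w => w.1 ∈ m ∧ w.2 ∈ m ∧ m = Ideal.span {w.1, w.2} ∧ q w ∈ m ^ (n + 3)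
  obtain ⟨D', hD'⟩ := ((isUnit_iff_ne_zero.2 hd).map α).exists_left_inv
  simp only [map_sub, map_mul, map_pow, map_ofNat] at hD'
  have step : ∀ n w, G n w → ∃ w', G (n + 1) w' ∧ w'.1 - w.1 ∈ m ^ (n + 2) ∧ w'.2 - w.2 ∈ m ^ (n + 2) := by
    rintro n ⟨x, y⟩ ⟨hx, hy, hm, hq⟩
    let L1 := 2 * α a * x + α b * y
    let L2 := α b * x + 2 * α c * y
    have hL : m ≤ Ideal.span {L1, L2} := by
      conv_lhs => rw [hm]
      rw [Ideal.span_le]
      rintro z (rfl | rfl)
      · exact Ideal.mem_span_pair.2 ⟨2 * α c * D', -(α b) * D', by simp only [L1, L2]; linear_combination z * hD'⟩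
      · exact Ideal.mem_span_pair.2 ⟨-(α b) * D', 2 * α a * D', by simp only [L1, L2]; linear_combination z * hD'⟩
    have h1 : m ^ (n + 3) ≤ Ideal.span {L1} * m ^ (n + 2) ⊔ Ideal.span {L2} * m ^ (n + 2) := by
      rw [← Ideal.sup_mul, ← Ideal.span_insert, pow_succ' m (n + 2)]
      exact Ideal.mul_mono_left hL
    obtain ⟨_, hu, _, hv, huv⟩ := Submodule.mem_sup.1 (h1 (neg_mem hq))
    obtain ⟨s, hs, rfl⟩ := Ideal.mem_span_singleton_mul.1 hu
    obtain ⟨t, ht, rfl⟩ := Ideal.mem_span_singleton_mul.1 hv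
    have hP2 : m ^ (n + 2) ≤ m ^ 2 := Ideal.pow_le_pow_right (by omega)
    have hxs : x + s ∈ m := add_mem hx (Ideal.pow_le_self (by omega) hs)
    have hyt : y + t ∈ m := add_mem hy (Ideal.pow_le_self (by omega) ht)
    refine ⟨(x + s, y + t), ⟨hxs, hyt, nak hxs hyt ?_, ?_⟩, by simpa using hs, by simpa using ht⟩
    · conv_lhs => rw [hm]
      rw [Ideal.span_le]
      rintro z (rfl | rfl)
      · exact Submodule.mem_sup.2 ⟨z + s, Ideal.subset_span (Set.mem_insert _ _), -s, neg_mem (hP2 hs), by ring⟩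
      · exact Submodule.mem_sup.2 ⟨z + t, Ideal.subset_span (Set.mem_insert_of_mem _ rfl), -t, neg_mem (hP2 ht), by ring⟩
    · rw [show q (x + s, y + t) = α a * (s * s) + α b * (s * t) + α c * (t * t) by
        simp only [q]; simp only [L1, L2, q] at huv; linear_combination huv]
      refine Ideal.pow_le_pow_right (show n + 1 + 3 ≤ (n + 2) + (n + 2) by omega) ?_
      rw [pow_add]
      exact add_mem (add_mem (Ideal.mul_mem_left _ _ (Ideal.mul_mem_mul hs hs))
        (Ideal.mul_mem_left _ _ (Ideal.mul_mem_mul hs ht))) (Ideal.mul_mem_left _ _ (Ideal.mul_mem_mul ht ht))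
  choose f hf using step
  let W : ∀ n, {w // G n w} := fun n => Nat.rec ⟨(x₀, y₀), hx, hy, nak hx hy hgen, by simpa [q] using hq⟩
    (fun i w => ⟨f i w.1 w.2, (hf i w.1 w.2).1⟩) n
  have hlim : ∀ (v : ℕ → B), (∀ n, v (n + 1) - v n ∈ m ^ (n + 2)) → ∃ L, ∀ n, L - v n ∈ m ^ n := by
    intro v hv
    obtain ⟨L, hL⟩ := IsPrecomplete.prec (I := m) (M := B) inferInstance (f := v) (fun {i j} hij => by
      rw [SModEq.sub_mem, smul_eq_mul, Ideal.mul_top]
      induction j, hij using Nat.le_induction with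
      | base => simp
      | succ j hij ih =>
        rw [show v i - v (j + 1) = (v i - v j) - (v (j + 1) - v j) by ring]
        exact sub_mem ih (Ideal.pow_le_pow_right (by omega) (hv j)))
    refine ⟨L, fun n => ?_⟩
    have := hL n
    rw [SModEq.sub_mem, smul_eq_mul, Ideal.mul_top] at this
    rw [← neg_sub]; exact neg_mem this
  obtain ⟨x, hxl⟩ := hlim (fun n => (W n).1.1) fun n => (hf n _ (W n).2).2.1
  obtain ⟨y, hyl⟩ := hlim (fun n => (W n).1.2) fun n => (hf n _ (W n).2).2.2
  have hx' : x ∈ m := by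
    rw [show x = (x - (W 1).1.1) + (W 1).1.1 by ring]
    exact add_mem (by simpa using hxl 1) (W 1).2.1
  have hy' : y ∈ m := by
    rw [show y = (y - (W 1).1.2) + (W 1).1.2 by ring]
    exact add_mem (by simpa using hyl 1) (W 1).2.2.1
  refine ⟨x, y, hx', hy', nak hx' hy' ?_, IsHausdorff.haus (I := m) inferInstance _ fun n => ?_⟩
  · conv_lhs => rw [(W 2).2.2.2.1]
    rw [Ideal.span_le]
    rintro z (rfl | rfl)
    · exact Submodule.mem_sup.2 ⟨x, Ideal.subset_span (Set.mem_insert _ _), -(x - _), neg_mem (hxl 2), by ring⟩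
    · exact Submodule.mem_sup.2 ⟨y, Ideal.subset_span (Set.mem_insert_of_mem _ rfl), -(y - _), neg_mem (hyl 2), by ring⟩
  · rw [SModEq.zero, smul_eq_mul, Ideal.mul_top]
    have h1 : q (W n).1 ∈ m ^ n := Ideal.pow_le_pow_right (by omega) (W n).2.2.2.2
    rw [show α a * x ^ 2 + α b * x * y + α c * y ^ 2 = q (W n).1 +
      ((x - (W n).1.1) * (α a * (x + (W n).1.1) + α b * y) + (y - (W n).1.2) * (α b * (W n).1.1 + α c * (y + (W n).1.2))) by
      simp only [q]; ring]
    exact add_mem h1 (add_mem (Ideal.mul_mem_right _ _ (hxl n)) (Ideal.mul_mem_right _ _ (hyl n)))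

include hres in
/-- Structure of a complete node. -/
theorem exists_equiv_quad {a b c : κ} (hd : 4 * a * c - b ^ 2 ≠ 0)
    (hreg : ∃ t ∈ maximalIdeal B, IsSMulRegular B t) (hcot : 1 < (maximalIdeal B).spanFinrank) {x₀ y₀ : B}
    (hgen : maximalIdeal B ≤ Ideal.span {x₀, y₀} ⊔ maximalIdeal B ^ 2)
    (hx₀ : x₀ ∈ maximalIdeal B) (hy₀ : y₀ ∈ maximalIdeal B)
    (hq : algebraMap κ B a * x₀ ^ 2 + algebraMap κ B b * x₀ * y₀ + algebraMap κ B c * y₀ ^ 2 ∈ maximalIdeal B ^ 3) :
    Nonempty ((MvPowerSeries (Fin 2) κ ⧸ Ideal.span {quadPS κ a b c}) ≃ₐ[κ] B) := by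
  haveI := ArtFunLib.isRegularLocalRing_mvPowerSeries κ 2
  obtain ⟨x, y, hx, hy, hm, hzero⟩ := exists_zero hd hgen hx₀ hy₀ hq
  set m := maximalIdeal B
  let A : MvPolynomial (Fin 2) κ →ₐ[κ] B := MvPolynomial.aeval ![x, y]
  have hA : ∀ n, ∀ q ∈ MvPolynomial.idealOfVars (Fin 2) κ ^ n, A q ∈ m ^ n := fun n => by
    refine fun q hq => ((Ideal.pow_right_mono (?_ : MvPolynomial.idealOfVars (Fin 2) κ ≤ m.comap A) n).trans
      (Ideal.le_comap_pow _ n)) hq
    rw [MvPolynomial.idealOfVars, Ideal.span_le]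
    rintro _ ⟨i, rfl⟩
    fin_cases i <;> simp [A, hx, hy]
  let f : ∀ n, MvPowerSeries (Fin 2) κ →ₐ[κ] B ⧸ m ^ n := fun n =>
    (Ideal.quotientMapₐ (m ^ n) A (hA n)).comp
      ((MvPowerSeries.truncTotalAlgHom (Fin 2) κ n).restrictScalars κ)
  have fval : ∀ n p, f n p = Ideal.Quotient.mk _ (A (MvPowerSeries.truncTotal n p)) := fun n p => rfl
  have hf : ∀ {i j : ℕ} (hij : i ≤ j), (Ideal.Quotient.factorₐ κ (Ideal.pow_le_pow_right hij)).comp (f j) = f i :=
    fun {i j} hij => AlgHom.ext fun p => by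
      show Ideal.Quotient.factor (Ideal.pow_le_pow_right hij) (f j p) = f i p
      rw [fval, fval, Ideal.Quotient.factor_mk, Ideal.Quotient.eq, ← map_sub]
      refine hA i _ ((MvPolynomial.mem_pow_idealOfVars_iff' i _).2 fun s hs => ?_)
      rw [MvPolynomial.coeff_sub, MvPowerSeries.coeff_truncTotal _ (lt_of_lt_of_le hs hij),
        MvPowerSeries.coeff_truncTotal _ hs, sub_self]
  let Φ : MvPowerSeries (Fin 2) κ →ₐ[κ] B := IsAdicComplete.liftAlgHom m f hf
  have hΦ : ∀ n p, Ideal.Quotient.mk (m ^ n) (Φ p) = f n p := fun n p => IsAdicComplete.mk_liftAlgHom _ _ _ n p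
  have hpoly : ∀ g : MvPolynomial (Fin 2) κ, Φ (g : MvPowerSeries (Fin 2) κ) = A g := fun g => by
    refine sub_eq_zero.1 (IsHausdorff.haus (I := m) inferInstance _ fun n => ?_)
    rw [SModEq.zero, smul_eq_mul, Ideal.mul_top, ← Ideal.Quotient.eq, hΦ, fval, Ideal.Quotient.eq, ← map_sub]
    refine hA n _ ((MvPolynomial.mem_pow_idealOfVars_iff' n _).2 fun s hs => ?_)
    rw [MvPolynomial.coeff_sub, MvPowerSeries.coeff_truncTotal _ hs, MvPolynomial.coeff_coe, sub_self]
  have hX0 : Φ (MvPowerSeries.X 0) = x := by rw [← MvPolynomial.coe_X, hpoly]; simp [A]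
  have hX1 : Φ (MvPowerSeries.X 1) = y := by rw [← MvPolynomial.coe_X, hpoly]; simp [A]
  have hC : ∀ t, Φ (MvPowerSeries.C t) = algebraMap κ B t := fun t => Φ.commutes t
  have hqker : Φ (quadPS κ a b c) = 0 := by
    simp only [quadPS, map_add, map_mul, map_pow, hX0, hX1, hC]
    exact hzero
  have hvar : varIdeal κ = Ideal.span {MvPowerSeries.X 0, MvPowerSeries.X 1} := by
    refine congrArg Ideal.span (Set.ext fun z => ?_)
    simp [Fin.exists_fin_two, @eq_comm _ z]
  have hVm : (varIdeal κ).map Φ = m := by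
    rw [hvar, Ideal.map_span, Set.image_pair, hX0, hX1, hm]
  -- surjectivity
  have hsurj : Function.Surjective Φ := by
    have hstep : ∀ n, ∀ r ∈ m ^ n, ∃ p ∈ varIdeal κ ^ n, Φ p - r ∈ m ^ (n + 1) := fun n r hr => by
      rw [← hVm, ← Ideal.map_pow] at hr
      induction hr using Submodule.span_induction with
      | mem z hz =>
        obtain ⟨p, hp, rfl⟩ := hz
        exact ⟨p, hp, by simp⟩
      | zero => exact ⟨0, zero_mem _, by simp⟩
      | add z w _ _ hz hw =>
        obtain ⟨p, hp, hp'⟩ := hz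
        obtain ⟨p', hq, hq'⟩ := hw
        exact ⟨p + p', add_mem hp hq, by
          rw [map_add, show Φ p + Φ p' - (z + w) = Φ p - z + (Φ p' - w) by ring]; exact add_mem hp' hq'⟩
      | smul e z hz0 hz =>
        obtain ⟨p, hp, hp'⟩ := hz
        obtain ⟨t, ht⟩ := hres e
        refine ⟨MvPowerSeries.C t * p, Ideal.mul_mem_left _ _ hp, ?_⟩
        have hzm : z ∈ m ^ n := by rw [← hVm, ← Ideal.map_pow]; exact hz0
        rw [map_mul, hC, smul_eq_mul, show algebraMap κ B t * Φ p - e * z =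
          algebraMap κ B t * (Φ p - z) - (e - algebraMap κ B t) * z by ring]
        exact sub_mem (Ideal.mul_mem_left _ _ hp') (by rw [pow_succ']; exact Ideal.mul_mem_mul ht hzm)
    intro r
    choose g hg hg' using hstep
    let S : ∀ n, {p : MvPowerSeries (Fin 2) κ // r - Φ p ∈ m ^ n} := fun n =>
      Nat.rec ⟨0, by simp⟩ (fun i p => ⟨p.1 + g i _ p.2, by
        rw [map_add, show r - (Φ p.1 + Φ (g i _ p.2)) = -(Φ (g i _ p.2) - (r - Φ p.1)) by ring]
        exact neg_mem (hg' i _ p.2)⟩) n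
    -- the limit of the corrections
    have hcoh : ∀ n, (S (n + 1)).1 - (S n).1 ∈ varIdeal κ ^ n := fun n => by
      show (S n).1 + g n _ (S n).2 - (S n).1 ∈ _
      rw [add_sub_cancel_left]; exact hg n _ _
    let p : MvPowerSeries (Fin 2) κ := fun s => MvPowerSeries.coeff s (S (Finsupp.degree s + 1)).1
    refine ⟨p, sub_eq_zero.1 (IsHausdorff.haus (I := m) inferInstance _ fun n => ?_)⟩
    rw [SModEq.zero, smul_eq_mul, Ideal.mul_top]
    have hp : p - (S n).1 ∈ varIdeal κ ^ n := mem_varIdeal_pow fun s hs => by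
      rw [map_sub, sub_eq_zero]
      change MvPowerSeries.coeff s (S (Finsupp.degree s + 1)).1 = _
      have : ∀ i, Finsupp.degree s + 1 ≤ i →
          MvPowerSeries.coeff s (S i).1 = MvPowerSeries.coeff s (S (Finsupp.degree s + 1)).1 := fun i hi => by
        induction i, hi using Nat.le_induction with
        | base => rfl
        | succ i hi ih =>
          rw [← ih, ← sub_eq_zero, ← map_sub]
          exact coeff_eq_zero_of_mem_pow (hcoh i) (by omega)
      exact (this n hs).symm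
    have h1 : Φ (p - (S n).1) ∈ m ^ n := by
      have := Ideal.mem_map_of_mem Φ hp
      rwa [Ideal.map_pow, hVm] at this
    rw [show Φ p - r = Φ (p - (S n).1) - (r - Φ (S n).1) by rw [map_sub]; ring]
    exact sub_mem h1 (S n).2
  -- the kernel
  have hker : RingHom.ker Φ = Ideal.span {quadPS κ a b c} := by
    refine le_antisymm (fun g hg => ?_) ((Ideal.span_singleton_le_iff_mem _).2 hqker)
    have hprog : ∀ n, g ∈ varIdeal κ ^ n ⊔ Ideal.span {quadPS κ a b c} := fun n => by
      induction n with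
      | zero => simp
      | succ n ih =>
        rcases Nat.eq_zero_or_pos n with rfl | hn
        · refine Ideal.mem_sup_left ?_
          rw [zero_add, pow_one, ← maximalIdeal_ps]
          exact (IsLocalRing.mem_maximalIdeal _).2 (mem_nonunits_iff.2 fun hu => not_isUnit_zero
            ((RingHom.mem_ker.1 hg) ▸ hu.map Φ))
        obtain ⟨i, rfl⟩ : ∃ i, n = i + 1 := ⟨n - 1, by omega⟩
        obtain ⟨μ₁, μ₂, hμ₁, hμ₂, hspan⟩ := pow_le_two (MvPowerSeries.X 0) (MvPowerSeries.X 1)
          (MvPowerSeries.C : κ →+* MvPowerSeries (Fin 2) κ) hd i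
        rw [← hvar] at hμ₁ hμ₂ hspan
        obtain ⟨v, hv, w, hw, rfl⟩ := Submodule.mem_sup.1 ih
        obtain ⟨v', hv', w', hw', hvw⟩ := Submodule.mem_sup.1 (hspan hv)
        obtain ⟨e₁, e₂, rfl⟩ := Ideal.mem_span_pair.1 hv'
        set s := MvPowerSeries.constantCoeff e₁
        set t := MvPowerSeries.constantCoeff e₂
        have hzero' : ∀ e : MvPowerSeries (Fin 2) κ, e - MvPowerSeries.C (MvPowerSeries.constantCoeff e) ∈ varIdeal κ :=
          fun e => maximalIdeal_ps (κ := κ) ▸ (IsLocalRing.mem_maximalIdeal _).2 (mem_nonunits_iff.2 fun hu => by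
            have := MvPowerSeries.isUnit_iff_constantCoeff.1 hu
            simp at this)
        have hrest : (e₁ - MvPowerSeries.C s) * μ₁ + (e₂ - MvPowerSeries.C t) * μ₂ ∈ varIdeal κ ^ (i + 1 + 1) := by
          rw [pow_succ' _ (i + 1)]
          exact add_mem (Ideal.mul_mem_mul (hzero' e₁) hμ₁) (Ideal.mul_mem_mul (hzero' e₂) hμ₂)
        by_cases hst : s = 0 ∧ t = 0
        · refine Submodule.mem_sup.2 ⟨_, hrest, w' + w, add_mem hw' hw, ?_⟩
          rw [hst.1, hst.2, map_zero, sub_zero, sub_zero, ← hvw]; ring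
        exfalso
        -- otherwise a power of `m` is principal
        have hqq : ∀ z ∈ Ideal.span {quadPS κ a b c}, Φ z = 0 := fun z hz => by
          obtain ⟨e, rfl⟩ := Ideal.mem_span_singleton'.1 hz
          rw [map_mul, hqker, mul_zero]
        have hrel : algebraMap κ B s * Φ μ₁ + algebraMap κ B t * Φ μ₂ ∈ m ^ (i + 1 + 1) := by
          have h0 : Φ ((e₁ * μ₁ + e₂ * μ₂) + w' + w) = 0 := by rw [hvw]; exact hg
          rw [map_add, map_add, hqq w' hw', hqq w hw, add_zero, add_zero] at h0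
          have h1 : Φ ((e₁ - MvPowerSeries.C s) * μ₁ + (e₂ - MvPowerSeries.C t) * μ₂) ∈ m ^ (i + 1 + 1) := by
            rw [← hVm, ← Ideal.map_pow]; exact Ideal.mem_map_of_mem _ hrest
          rw [show algebraMap κ B s * Φ μ₁ + algebraMap κ B t * Φ μ₂ = Φ (e₁ * μ₁ + e₂ * μ₂) -
            Φ ((e₁ - MvPowerSeries.C s) * μ₁ + (e₂ - MvPowerSeries.C t) * μ₂) by
            simp only [map_add, map_mul, map_sub, hC]; ring, h0, zero_sub]
          exact neg_mem h1
        have hpow : m ^ (i + 1) ≤ Ideal.span {Φ μ₁, Φ μ₂} := by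
          rw [← hVm, ← Ideal.map_pow]
          refine (Ideal.map_mono hspan).trans ?_
          rw [Ideal.map_sup, Ideal.map_span, Set.image_pair, Ideal.map_span, Set.image_singleton]
          exact sup_le le_rfl ((Ideal.span_singleton_le_iff_mem _).2 (by
            change Φ (quadPS κ a b c) ∈ _; rw [hqker]; exact zero_mem _))
        have hμm : ∀ {μ}, μ ∈ varIdeal κ ^ (i + 1) → Φ μ ∈ m ^ (i + 1) := fun hμ => by
          rw [← hVm, ← Ideal.map_pow]; exact Ideal.mem_map_of_mem _ hμ
        have key : ∀ (s t : κ) (u v : B), s ≠ 0 → u ∈ m ^ (i + 1) → v ∈ m ^ (i + 1) →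
            m ^ (i + 1) ≤ Ideal.span {u, v} → algebraMap κ B s * u + algebraMap κ B t * v ∈ m ^ (i + 1 + 1) →
            m ^ (i + 1) = Ideal.span {v} := by
          intro s t u v hs hu hv hsp hr
          refine le_antisymm (Submodule.le_of_le_smul_of_le_jacobson_bot (I := m) (IsNoetherian.noetherian _)
            (IsLocalRing.jacobson_eq_maximalIdeal ⊥ bot_ne_top).ge ?_) ((Ideal.span_singleton_le_iff_mem _).2 hv)
          rw [smul_eq_mul, ← pow_succ']
          refine hsp.trans (Ideal.span_le.2 ?_)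
          rintro z (rfl | rfl)
          · refine Submodule.mem_sup.2 ⟨-(algebraMap κ B (s⁻¹ * t)) * v, Ideal.mul_mem_left _ _ (Ideal.subset_span rfl),
              algebraMap κ B s⁻¹ * (algebraMap κ B s * z + algebraMap κ B t * v), Ideal.mul_mem_left _ _ hr, ?_⟩
            rw [map_mul]
            have h1 : algebraMap κ B s⁻¹ * algebraMap κ B s = 1 := by
              rw [← map_mul, inv_mul_cancel₀ hs, map_one]
            linear_combination z * h1
          · exact Ideal.mem_sup_left (Ideal.subset_span rfl)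
        obtain ⟨u, hu⟩ : ∃ u, m ^ (i + 1) = Ideal.span {u} := by
          by_cases hs : s = 0
          · exact ⟨_, key t s (Φ μ₂) (Φ μ₁) (fun ht => hst ⟨hs, ht⟩) (hμm hμ₂) (hμm hμ₁)
              (Set.pair_comm (Φ μ₁) (Φ μ₂) ▸ hpow) (by rwa [add_comm (algebraMap κ B t * Φ μ₂)])⟩
          · exact ⟨_, key s t (Φ μ₁) (Φ μ₂) hs (hμm hμ₁) (hμm hμ₂) hpow hrel⟩
        obtain ⟨t₀, ht₀, htreg⟩ := hreg
        have huN : IsSMulRegular B u := by
          have h2 : t₀ ^ (i + 1) ∈ Ideal.span {u} := hu ▸ Ideal.pow_mem_pow ht₀ _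
          obtain ⟨e, he⟩ := Ideal.mem_span_singleton'.1 h2
          intro p q hpq
          refine (htreg.pow (i + 1)) ?_
          show t₀ ^ (i + 1) • p = t₀ ^ (i + 1) • q
          have hpq' : u * p = u * q := hpq
          simp only [smul_eq_mul, ← he]; linear_combination e * hpq'
        obtain ⟨z, hz⟩ := principal_of_pow_principal i u hu huN
        have := (Submodule.spanFinrank_span_le_ncard_of_finite (R := B) (Set.finite_singleton z))
        rw [Set.ncard_singleton] at this
        rw [show m = _ from hz] at hcot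
        exact absurd this (not_le.2 hcot)
    have hI : Ideal.span {quadPS κ a b c} ≠ ⊤ := by
      intro htop
      have h1 : quadPS κ a b c ∈ varIdeal κ := Ideal.pow_le_self two_ne_zero (quad_mem_sq a b c)
      have : (⊤ : Ideal (MvPowerSeries (Fin 2) κ)) ≤ varIdeal κ := htop ▸ (Ideal.span_singleton_le_iff_mem _).2 h1
      rw [← maximalIdeal_ps] at this
      exact (maximalIdeal.isMaximal _).ne_top (top_le_iff.1 this)
    haveI : Nontrivial (MvPowerSeries (Fin 2) κ ⧸ Ideal.span {quadPS κ a b c}) := Ideal.Quotient.nontrivial_iff.2 hI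
    haveI : IsLocalRing (MvPowerSeries (Fin 2) κ ⧸ Ideal.span {quadPS κ a b c}) :=
      IsLocalRing.of_surjective' (Ideal.Quotient.mk _) Ideal.Quotient.mk_surjective
    have h2 : Ideal.Quotient.mk (Ideal.span {quadPS κ a b c}) g = 0 := by
      refine IsHausdorff.haus (IsHausdorff.of_isLocalRing (M := MvPowerSeries (Fin 2) κ ⧸ Ideal.span {quadPS κ a b c})
        (I := (varIdeal κ).map (Ideal.Quotient.mk (Ideal.span {quadPS κ a b c}))) ?_) _ fun n => ?_
      · intro htop
        have h3 := congrArg (Ideal.comap (Ideal.Quotient.mk (Ideal.span {quadPS κ a b c}))) htop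
        rw [Ideal.comap_map_of_surjective _ Ideal.Quotient.mk_surjective, Ideal.comap_top, ← RingHom.ker_eq_comap_bot,
          Ideal.mk_ker, sup_eq_left.2 ((Ideal.span_singleton_le_iff_mem _).2
            (Ideal.pow_le_self two_ne_zero (quad_mem_sq a b c))), ← maximalIdeal_ps] at h3
        exact (maximalIdeal.isMaximal _).ne_top h3
      · rw [SModEq.zero, smul_eq_mul, Ideal.mul_top, ← Ideal.map_pow]
        have := hprog n
        exact (Ideal.mem_quotient_iff_mem_sup).2 this
    exact Ideal.Quotient.eq_zero_iff_mem.1 h2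
  exact ⟨(Ideal.quotientEquivAlgOfEq κ hker.symm).trans (Ideal.quotientKerAlgEquivOfSurjective hsurj)⟩

end Complete

end Groth.Agent.Nodal27
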