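import Groth.Agent.Lib.Nodal27.Quad
import Groth.Agent.Lib.Compl.Noetherian

/-!
# The algebraic criterion for a node, arbitrary residue field
-/

set_option autoImplicit false
set_option linter.style.haveILetI false

universe u

open IsLocalRing

noncomputable section

namespace Groth.Agent.Nodal27

/-- A complete local algebra with separable residue field has a unique coefficient field over the base field. -/
theorem exists_coeff {k κ B : Type u} [Field k] [Field κ] [Algebra k κ] [Algebra.IsSeparable k κ] [CommRing B]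
    [Algebra k B] (m : Ideal B) [IsAdicComplete m B] (π : B →ₐ[k] κ) (hπ : Function.Surjective π)
    (hker : RingHom.ker π = m) : ∃ σ : κ →ₐ[k] B, ∀ x, π (σ x) = x := by
  haveI := Algebra.FormallyEtale.of_isSeparable k κ
  let g : ∀ n, (B ⧸ m ^ (n + 1)) →ₐ[k] κ := fun n => Ideal.Quotient.liftₐ (m ^ (n + 1)) π fun r hr =>
    RingHom.mem_ker.1 (hker.symm ▸ Ideal.pow_le_self (Nat.succ_ne_zero n) hr)
  have gmk : ∀ n r, g n (Ideal.Quotient.mk _ r) = π r := fun n r => rfl
  have hgs : ∀ n, Function.Surjective (g n) := fun n x => by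
    obtain ⟨r, rfl⟩ := hπ x; exact ⟨Ideal.Quotient.mk _ r, gmk n r⟩
  have hgn : ∀ n, IsNilpotent (RingHom.ker (g n : (B ⧸ m ^ (n + 1)) →+* κ)) := fun n => by
    refine ⟨n + 1, ?_⟩
    have h : RingHom.ker (g n : (B ⧸ m ^ (n + 1)) →+* κ) ≤ m.map (Ideal.Quotient.mk _) := fun z hz => by
      obtain ⟨r, rfl⟩ := Ideal.Quotient.mk_surjective z
      refine Ideal.mem_map_of_mem _ ?_
      rw [← hker, RingHom.mem_ker, ← gmk n]; exact hz
    rw [Ideal.zero_eq_bot, eq_bot_iff]
    refine (Ideal.pow_right_mono h _).trans ?_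
    rw [← Ideal.map_pow, Ideal.map_quotient_self]
  let F : ∀ n, κ →ₐ[k] B ⧸ m ^ (n + 1) := fun n =>
    Algebra.FormallySmooth.liftOfSurjective (AlgHom.id k κ) (g n) (hgs n) (hgn n)
  have gF : ∀ n x, g n (F n x) = x := fun n x =>
    Algebra.FormallySmooth.liftOfSurjective_apply (AlgHom.id k κ) (g n) (hgs n) (hgn n) x
  let f : ∀ n, κ →ₐ[k] B ⧸ m ^ n := fun n =>
    (Ideal.Quotient.factorₐ k (Ideal.pow_le_pow_right (Nat.le_succ n))).comp (F n)
  have gfac : ∀ {i j : ℕ} (hle : m ^ (j + 1) ≤ m ^ (i + 1)) (z : B ⧸ m ^ (j + 1)),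
      g i (Ideal.Quotient.factor hle z) = g j z := fun hle z => by
    obtain ⟨r, rfl⟩ := Ideal.Quotient.mk_surjective z; rfl
  have hf : ∀ {i j : ℕ} (hle : i ≤ j), (Ideal.Quotient.factorₐ k (Ideal.pow_le_pow_right hle)).comp (f j) = f i := by
    intro i j hle
    rcases i with _ | i
    · haveI : Subsingleton (B ⧸ m ^ 0) := by rw [pow_zero, Ideal.one_eq_top]; infer_instance
      exact AlgHom.ext fun x => Subsingleton.elim _ _
    refine Algebra.FormallyUnramified.ext' (g i : (B ⧸ m ^ (i + 1)) →+* κ) (hgn i) _ _ fun x => ?_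
    have e1 : Ideal.Quotient.factor (Ideal.pow_le_pow_right hle) (f j x) =
        Ideal.Quotient.factor ((Ideal.pow_le_pow_right (Nat.le_succ j)).trans (Ideal.pow_le_pow_right hle)) (F j x) := by
      obtain ⟨r, hr⟩ := Ideal.Quotient.mk_surjective (F j x)
      show Ideal.Quotient.factor _ (Ideal.Quotient.factor (Ideal.pow_le_pow_right (Nat.le_succ j)) (F j x)) = _
      rw [← hr]; rfl
    show g i (Ideal.Quotient.factor (Ideal.pow_le_pow_right hle) (f j x)) =
      g i (Ideal.Quotient.factor (Ideal.pow_le_pow_right (Nat.le_succ (i + 1))) (F (i + 1) x))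
    rw [e1, gfac, gfac, gF, gF]
  refine ⟨IsAdicComplete.liftAlgHom m f hf, fun x => ?_⟩
  have h1 : Ideal.Quotient.mk (m ^ (0 + 1)) (IsAdicComplete.liftAlgHom m f hf x) = f (0 + 1) x :=
    IsAdicComplete.mk_liftAlgHom m f hf _ x
  rw [← gmk 0, h1]
  show g 0 (Ideal.Quotient.factor (Ideal.pow_le_pow_right (Nat.le_succ 1)) (F 1 x)) = x
  rw [gfac, gF]

/-- The maximal ideal of a power series quotient by a form of degree two is not principal. -/
theorem quad_not_principal {κ : Type u} [Field κ] (a b c : κ) (z : MvPowerSeries (Fin 2) κ)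
    (h : varIdeal κ ≤ Ideal.span {z} ⊔ Ideal.span {quadPS κ a b c}) (hz : z ∈ varIdeal κ) : False := by
  classical
  have key : ∀ i : Fin 2, ∃ s : κ, ∀ j : Fin 2,
      MvPowerSeries.coeff (Finsupp.single j 1) (MvPowerSeries.X i : MvPowerSeries (Fin 2) κ) =
        s * MvPowerSeries.coeff (Finsupp.single j 1) z := by
    intro i
    obtain ⟨u, hu, v, hv, huv⟩ := Submodule.mem_sup.1 (h (Ideal.subset_span ⟨i, rfl⟩))
    obtain ⟨p, rfl⟩ := Ideal.mem_span_singleton'.1 hu
    refine ⟨MvPowerSeries.constantCoeff p, fun j => ?_⟩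
    have hp : p - MvPowerSeries.C (MvPowerSeries.constantCoeff p) ∈ varIdeal κ :=
      (maximalIdeal_ps (κ := κ)) ▸ (IsLocalRing.mem_maximalIdeal _).2 (mem_nonunits_iff.2 fun hu => by
        have := MvPowerSeries.isUnit_iff_constantCoeff.1 hu
        simp at this)
    have h2 : (MvPowerSeries.X i : MvPowerSeries (Fin 2) κ) -
        MvPowerSeries.C (MvPowerSeries.constantCoeff p) * z ∈ varIdeal κ ^ 2 := by
      rw [← huv, show p * z + v - MvPowerSeries.C (MvPowerSeries.constantCoeff p) * z =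
        (p - MvPowerSeries.C (MvPowerSeries.constantCoeff p)) * z + v by ring]
      exact add_mem (by rw [pow_two]; exact Ideal.mul_mem_mul hp hz)
        ((Ideal.span_singleton_le_iff_mem _).2 (quad_mem_sq a b c) hv)
    have h3 := coeff_eq_zero_of_mem_pow h2 (m := Finsupp.single j 1) (by simp [Finsupp.degree_single])
    rw [map_sub, sub_eq_zero, MvPowerSeries.coeff_C_mul] at h3
    exact h3
  obtain ⟨s₀, h0⟩ := key 0
  obtain ⟨s₁, h1⟩ := key 1
  have e00 := h0 0
  have e01 := h0 1
  have e11 := h1 1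
  simp [MvPowerSeries.coeff_X, Finsupp.single_eq_single_iff] at e00 e01 e11
  grind

section Criterion

variable (k : Type u) [Field k] (A : Type u) [CommRing A] [IsLocalRing A] [IsNoetherianRing A] [Algebra k A]

/-- The data of an algebraic node. -/
def AlgNode : Prop :=
  _root_.IsReduced A ∧ Module.finrank (ResidueField A) (CotangentSpace A) = 2 ∧
    ∃ x y a b c : A, x ∈ maximalIdeal A ∧ y ∈ maximalIdeal A ∧
      Ideal.span {x, y} ⊔ maximalIdeal A ^ 2 = maximalIdeal A ∧
      residue A (4 * a * c - b ^ 2) ≠ 0 ∧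
      a * x ^ 2 + b * x * y + c * y ^ 2 ∈ maximalIdeal A ^ 3

/-- The completion is a quadric. -/
def CplQuad : Prop :=
  ∃ a b c : ResidueField A, 4 * a * c - b ^ 2 ≠ 0 ∧
    ∃ e : AdicCompletion (maximalIdeal A) A ≃+*
        (MvPowerSeries (Fin 2) (ResidueField A) ⧸ Ideal.span {quadPS (ResidueField A) a b c}),
      ∀ t : k, e (algebraMap A _ (algebraMap k A t)) =
        Ideal.Quotient.mk _ (MvPowerSeries.C (algebraMap A (ResidueField A) (algebraMap k A t)))

variable {k A}

theorem exists_regular_mem [_root_.IsReduced A] (h : maximalIdeal A ≠ ⊥) :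
    ∃ t ∈ maximalIdeal A, IsSMulRegular A t := by
  by_contra hno
  push Not at hno
  have hsub : (maximalIdeal A : Set A) ⊆ ⋃ p ∈ associatedPrimes A A, (p : Set A) := by
    rw [biUnion_associatedPrimes_eq_compl_nonZeroDivisors]
    intro t ht hn
    exact hno t ht ((isRegular_iff_mem_nonZeroDivisors.2 hn).left.isSMulRegular)
  obtain ⟨p, hp, hle⟩ := (Ideal.subset_union_prime_finite (associatedPrimes.finite A A) ⊥ ⊥
    (fun p hp _ _ => IsAssociatedPrime.isPrime hp)).1 hsub
  obtain ⟨hprime, w, hw⟩ := hp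
  have hpm : p = maximalIdeal A := le_antisymm (le_maximalIdeal hprime.ne_top) hle
  obtain ⟨r, hr, hr0⟩ := (Submodule.ne_bot_iff _).1 h
  have hz : ∀ q ∈ maximalIdeal A, q * w = 0 := fun q hq => by
    rw [← hpm, hw] at hq
    obtain ⟨N, hN⟩ := hq
    rw [Submodule.mem_colon_singleton, Submodule.mem_bot, smul_eq_mul] at hN
    refine IsReduced.eq_zero _ ⟨N + 1, ?_⟩
    rw [mul_pow, pow_succ q, pow_succ w, show q ^ N * q * (w ^ N * w) = q ^ N * w * (q * w ^ N) by ring, hN, zero_mul]
  have hwm : w ∈ maximalIdeal A := (IsLocalRing.mem_maximalIdeal _).2 fun hu =>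
    hr0 (hu.mul_left_eq_zero.1 (hz r hr))
  have hw0 : w = 0 := IsReduced.eq_zero _ ⟨2, by rw [pow_two]; exact hz w hwm⟩
  apply hprime.ne_top
  rw [hw, hw0, Ideal.radical_eq_top, eq_top_iff]
  intro q _
  rw [Submodule.mem_colon_singleton, smul_zero]
  exact zero_mem _

theorem mem_pow_of_of_mem {n : ℕ} {r : A}
    (h : algebraMap A (AdicCompletion (maximalIdeal A) A) r ∈
      maximalIdeal (AdicCompletion (maximalIdeal A) A) ^ n) : r ∈ maximalIdeal A ^ n := by
  rw [AdicCompletion.maximalIdeal_eq_map, ← Ideal.map_pow, mem_map_pow_iff (maximalIdeal A).fg_of_isNoetherianRing,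
    AdicCompletion.algebraMap_apply, Algebra.algebraMap_self_apply, AdicCompletion.evalₐ_of,
    Ideal.Quotient.eq_zero_iff_mem] at h
  exact h

theorem cplQuad_of_algNode [Algebra.IsSeparable k (ResidueField A)] (h : AlgNode A) : CplQuad k A := by
  obtain ⟨hred, hdim, x, y, a, b, c, hx, hy, hxy, hd, hq⟩ := h
  have hmfg : (maximalIdeal A).FG := (maximalIdeal A).fg_of_isNoetherianRing
  haveI : IsNoetherianRing (AdicCompletion (maximalIdeal A) A) := Compl.isNoetherianRing_adicCompletion _ hmfg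
  letI : Algebra k (AdicCompletion (maximalIdeal A) A) :=
    ((algebraMap A (AdicCompletion (maximalIdeal A) A)).comp (algebraMap k A)).toAlgebra
  let π : AdicCompletion (maximalIdeal A) A →ₐ[k] ResidueField A :=
    { (AdicCompletion.evalOneₐ (maximalIdeal A)).toRingHom with
      commutes' := fun t => (AdicCompletion.evalOneₐ (maximalIdeal A)).commutes (algebraMap k A t) }
  have hπof : ∀ r, π (algebraMap A _ r) = residue A r := fun r => (AdicCompletion.evalOneₐ (maximalIdeal A)).commutes r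
  have hπker : RingHom.ker π = maximalIdeal (AdicCompletion (maximalIdeal A) A) := by
    rw [AdicCompletion.maximalIdeal_eq_map, ← AdicCompletion.ker_evalOneₐ_eq_map _ hmfg]
    rfl
  obtain ⟨σ, hσ⟩ := exists_coeff (maximalIdeal (AdicCompletion (maximalIdeal A) A)) π
    (AdicCompletion.evalOneₐ_surjective _) hπker
  letI : Algebra (ResidueField A) (AdicCompletion (maximalIdeal A) A) := σ.toRingHom.toAlgebra
  have hres : ∀ r : AdicCompletion (maximalIdeal A) A, ∃ t : ResidueField A,
      r - algebraMap (ResidueField A) _ t ∈ maximalIdeal _ := fun r => ⟨π r, by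
    rw [← hπker, RingHom.mem_ker, map_sub, RingHom.algebraMap_toAlgebra]
    exact sub_eq_zero.2 (hσ _).symm⟩
  let o := algebraMap A (AdicCompletion (maximalIdeal A) A)
  have ho : ∀ r ∈ maximalIdeal A, o r ∈ maximalIdeal (AdicCompletion (maximalIdeal A) A) := fun r hr => by
    rw [AdicCompletion.maximalIdeal_eq_map]; exact Ideal.mem_map_of_mem _ hr
  have hd' : 4 * residue A a * residue A c - residue A b ^ 2 ≠ 0 := by
    simpa only [map_sub, map_mul, map_pow, map_ofNat] using hd
  have hdiff : ∀ r, σ (residue A r) - o r ∈ maximalIdeal (AdicCompletion (maximalIdeal A) A) := fun r => by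
    rw [← hπker, RingHom.mem_ker, map_sub, hσ, hπof, sub_self]
  have hgen : maximalIdeal (AdicCompletion (maximalIdeal A) A) ≤
      Ideal.span {o x, o y} ⊔ maximalIdeal (AdicCompletion (maximalIdeal A) A) ^ 2 := by
    rw [AdicCompletion.maximalIdeal_eq_map, ← Ideal.map_pow]
    refine (Ideal.map_mono hxy.ge).trans ?_
    rw [Ideal.map_sup, Ideal.map_span, Set.image_pair]
  have hne : maximalIdeal A ≠ ⊥ := fun h0 => by
    have := IsLocalRing.spanFinrank_maximalIdeal_eq_finrank_cotangentSpace_of_fg hmfg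
    rw [hdim] at this
    simp [h0] at this
  have hcot : 1 < (maximalIdeal (AdicCompletion (maximalIdeal A) A)).spanFinrank := by
    rw [AdicCompletion.spanFinrank_maximalIdeal_eq,
      IsLocalRing.spanFinrank_maximalIdeal_eq_finrank_cotangentSpace_of_fg hmfg, hdim]
    norm_num
  obtain ⟨t, ht, htr⟩ := exists_regular_mem hne
  have htr' : IsSMulRegular (AdicCompletion (maximalIdeal A) A) (o t) := IsSMulRegular.of_flat htr
  obtain ⟨E⟩ := exists_equiv_quad hres hd' ⟨o t, ho t ht, htr'⟩ hcot hgen (ho x hx) (ho y hy) (by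
    rw [RingHom.algebraMap_toAlgebra]
    show σ (residue A a) * o x ^ 2 + σ (residue A b) * o x * o y + σ (residue A c) * o y ^ 2 ∈ _
    have hX := ho x hx
    have hY := ho y hy
    rw [show σ (residue A a) * o x ^ 2 + σ (residue A b) * o x * o y + σ (residue A c) * o y ^ 2 =
      o (a * x ^ 2 + b * x * y + c * y ^ 2) + ((σ (residue A a) - o a) * (o x * o x) +
        (σ (residue A b) - o b) * (o x * o y) + (σ (residue A c) - o c) * (o y * o y)) by
      simp only [map_add, map_mul, map_pow]; ring]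
    have h3 : ∀ {p q r : AdicCompletion (maximalIdeal A) A}, p ∈ maximalIdeal _ → q ∈ maximalIdeal _ →
        r ∈ maximalIdeal _ → p * (q * r) ∈ maximalIdeal (AdicCompletion (maximalIdeal A) A) ^ 3 := fun hp hq hr => by
      rw [pow_succ', pow_two]; exact Ideal.mul_mem_mul hp (Ideal.mul_mem_mul hq hr)
    refine add_mem ?_ (add_mem (add_mem (h3 (hdiff a) hX hX) (h3 (hdiff b) hX hY)) (h3 (hdiff c) hY hY))
    rw [AdicCompletion.maximalIdeal_eq_map, ← Ideal.map_pow]
    exact Ideal.mem_map_of_mem _ hq)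
  refine ⟨_, _, _, hd', E.symm.toRingEquiv, fun s => ?_⟩
  change E.symm (o (algebraMap k A s)) = _
  rw [AlgEquiv.symm_apply_eq]
  exact (σ.commutes s).symm.trans (E.commutes (algebraMap k (ResidueField A) s)).symm

theorem algNode_of_approx {κ : Type u} [Field κ] {a' b' c' : κ} (hd : 4 * a' * c' - b' ^ 2 ≠ 0)
    (π : MvPowerSeries (Fin 2) κ →+* MvPowerSeries (Fin 2) κ ⧸ Ideal.span {quadPS κ a' b' c'})
    (hπ : π = Ideal.Quotient.mk _)
    (f : A →+* MvPowerSeries (Fin 2) κ ⧸ Ideal.span {quadPS κ a' b' c'}) (hinj : Function.Injective f)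
    (hmap : (maximalIdeal A).map f = (varIdeal κ).map π)
    (hpow : ∀ {n : ℕ} {r : A}, f r ∈ (varIdeal κ ^ n).map π → r ∈ maximalIdeal A ^ n)
    (happ : ∀ (n : ℕ) (p : MvPowerSeries (Fin 2) κ), ∃ r : A, f r - π p ∈ (varIdeal κ ^ n).map π) : AlgNode A := by
  subst hπ
  have hmfg : (maximalIdeal A).FG := (maximalIdeal A).fg_of_isNoetherianRing
  set π := Ideal.Quotient.mk (Ideal.span {quadPS κ a' b' c'}) with hπdef
  have hqP : Ideal.span {quadPS κ a' b' c'} ≤ varIdeal κ :=
    (Ideal.span_singleton_le_iff_mem _).2 (Ideal.pow_le_self two_ne_zero (quad_mem_sq a' b' c'))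
  obtain ⟨x, hx⟩ := happ 2 (MvPowerSeries.X 0)
  obtain ⟨y, hy⟩ := happ 2 (MvPowerSeries.X 1)
  obtain ⟨a, ha⟩ := happ 1 (MvPowerSeries.C a')
  obtain ⟨b, hb⟩ := happ 1 (MvPowerSeries.C b')
  obtain ⟨c, hc⟩ := happ 1 (MvPowerSeries.C c')
  have hP2 : (varIdeal κ ^ 2).map π ≤ (varIdeal κ).map π := Ideal.map_mono (Ideal.pow_le_self two_ne_zero)
  have hX : ∀ i, π (MvPowerSeries.X i) ∈ (varIdeal κ).map π := fun i => Ideal.mem_map_of_mem _ (Ideal.subset_span ⟨i, rfl⟩)
  have hfx : f x ∈ (varIdeal κ).map π := by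
    rw [show f x = (f x - π (MvPowerSeries.X 0)) + π (MvPowerSeries.X 0) by ring]; exact add_mem (hP2 hx) (hX 0)
  have hfy : f y ∈ (varIdeal κ).map π := by
    rw [show f y = (f y - π (MvPowerSeries.X 1)) + π (MvPowerSeries.X 1) by ring]; exact add_mem (hP2 hy) (hX 1)
  have hxm : x ∈ maximalIdeal A := by simpa using hpow (n := 1) (r := x) (by simpa using hfx)
  have hym : y ∈ maximalIdeal A := by simpa using hpow (n := 1) (r := y) (by simpa using hfy)
  have hmemf : ∀ r ∈ maximalIdeal A, f r ∈ (varIdeal κ).map π := fun r hr => hmap ▸ Ideal.mem_map_of_mem f hr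
  have hP : varIdeal κ = Ideal.span {MvPowerSeries.X 0, MvPowerSeries.X 1} := by
    refine congrArg Ideal.span (Set.ext fun z => ?_)
    simp [Fin.exists_fin_two, @eq_comm _ z]
  have hxy : Ideal.span {x, y} ⊔ maximalIdeal A ^ 2 = maximalIdeal A := by
    refine le_antisymm (sup_le (Ideal.span_le.2 ?_) (Ideal.pow_le_self two_ne_zero)) fun r hr => ?_
    · rintro z (rfl | rfl) <;> assumption
    have hr' := hmemf r hr
    rw [hP, Ideal.map_span, Set.image_pair] at hr'
    obtain ⟨p₀, p₁, hp⟩ := Ideal.mem_span_pair.1 hr'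
    obtain ⟨p₀, rfl⟩ := Ideal.Quotient.mk_surjective p₀
    obtain ⟨p₁, rfl⟩ := Ideal.Quotient.mk_surjective p₁
    obtain ⟨r₀, h0⟩ := happ 1 p₀
    obtain ⟨r₁, h1⟩ := happ 1 p₁
    refine Submodule.mem_sup.2 ⟨r₀ * x + r₁ * y, Ideal.mem_span_pair.2 ⟨_, _, rfl⟩, r - (r₀ * x + r₁ * y),
      hpow ?_, by ring⟩
    rw [map_sub, map_add, map_mul, map_mul, ← hp,
      show π p₀ * π (MvPowerSeries.X 0) + π p₁ * π (MvPowerSeries.X 1) - (f r₀ * f x + f r₁ * f y) =
        -((f r₀ - π p₀) * π (MvPowerSeries.X 0) + (f r₁ - π p₁) * π (MvPowerSeries.X 1) +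
          (f r₀ * (f x - π (MvPowerSeries.X 0)) + f r₁ * (f y - π (MvPowerSeries.X 1)))) by ring]
    refine neg_mem (add_mem (add_mem ?_ ?_) (add_mem (Ideal.mul_mem_left _ _ hx) (Ideal.mul_mem_left _ _ hy)))
    · rw [Ideal.map_pow, pow_two]; exact Ideal.mul_mem_mul (by simpa using h0) (hX 0)
    · rw [Ideal.map_pow, pow_two]; exact Ideal.mul_mem_mul (by simpa using h1) (hX 1)
  have hspan : maximalIdeal A = Ideal.span {x, y} := by
    refine le_antisymm (Submodule.le_of_le_smul_of_le_jacobson_bot (I := maximalIdeal A) hmfg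
      (IsLocalRing.jacobson_eq_maximalIdeal ⊥ bot_ne_top).ge (by rw [smul_eq_mul, ← pow_two, hxy]))
      (Ideal.span_le.2 ?_)
    rintro z (rfl | rfl) <;> assumption
  refine ⟨?_, ?_, x, y, a, b, c, hxm, hym, hxy, ?_, ?_⟩
  · haveI := isReduced_quot_quad hd
    exact isReduced_of_injective f hinj
  · rw [← IsLocalRing.spanFinrank_maximalIdeal_eq_finrank_cotangentSpace_of_fg hmfg]
    refine le_antisymm ?_ ?_
    · rw [hspan]
      refine (Submodule.spanFinrank_span_le_ncard_of_finite (Set.toFinite _)).trans ?_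
      exact (Set.ncard_insert_le _ _).trans (by simp)
    · by_contra hlt
      have h1 : (maximalIdeal A).spanFinrank ≤ 1 := by omega
      rw [← Submodule.FG.generators_ncard hmfg] at h1
      obtain ⟨z, hz⟩ : ∃ z, maximalIdeal A = Ideal.span {z} := by
        rcases (Set.ncard_le_one_iff_eq (Submodule.FG.finite_generators hmfg)).1 h1 with h0 | ⟨z, h0⟩
        · refine ⟨0, ?_⟩
          rw [← Submodule.span_generators (maximalIdeal A), h0]
          simp
        · exact ⟨z, by rw [← Submodule.span_generators (maximalIdeal A), h0]⟩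
      obtain ⟨zq, hzq⟩ := Ideal.Quotient.mk_surjective (f z)
      have hzP : zq ∈ varIdeal κ := by
        have := hmemf z (hz ▸ Ideal.mem_span_singleton_self z)
        rw [← hzq, Ideal.mem_quotient_iff_mem_sup, sup_eq_left.2 hqP] at this
        exact this
      refine quad_not_principal a' b' c' zq (fun p hp => ?_) hzP
      rw [← Ideal.mem_quotient_iff_mem_sup, Ideal.map_span, Set.image_singleton, hzq]
      have : π p ∈ (varIdeal κ).map π := Ideal.mem_map_of_mem _ hp
      rw [← hmap, hz, Ideal.map_span, Set.image_singleton] at this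
      exact this
  · intro h0
    have hm : 4 * a * c - b ^ 2 ∈ maximalIdeal A := (residue_eq_zero_iff _).1 h0
    have hf := hmemf _ hm
    have key : π (MvPowerSeries.C (4 * a' * c' - b' ^ 2)) ∈ (varIdeal κ).map π := by
      have e2 : π (MvPowerSeries.C (4 * a' * c' - b' ^ 2)) = f (4 * a * c - b ^ 2) -
          (4 * (f a - π (MvPowerSeries.C a')) * f c + 4 * π (MvPowerSeries.C a') * (f c - π (MvPowerSeries.C c')) -
            (f b - π (MvPowerSeries.C b')) * (f b + π (MvPowerSeries.C b'))) := by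
        simp only [map_sub, map_mul, map_pow, map_ofNat]; ring
      rw [e2]
      simp only [pow_one] at ha hb hc
      exact sub_mem hf (sub_mem (add_mem (Ideal.mul_mem_right _ _ (Ideal.mul_mem_left _ _ ha))
        (Ideal.mul_mem_left _ _ hc)) (Ideal.mul_mem_right _ _ hb))
    rw [Ideal.mem_quotient_iff_mem_sup, sup_eq_left.2 hqP] at key
    change _ ∈ varIdeal κ at key
    rw [← maximalIdeal_ps] at key
    exact hd (by simpa using constantCoeff_eq_zero κ key)
  · refine hpow ?_
    have h0 : π (quadPS κ a' b' c') = 0 := Ideal.Quotient.eq_zero_iff_mem.2 (Ideal.subset_span rfl)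
    simp only [quadPS, map_add, map_mul, map_pow] at h0
    set X := π (MvPowerSeries.X 0)
    set Y := π (MvPowerSeries.X 1)
    set α := π (MvPowerSeries.C a')
    set β := π (MvPowerSeries.C b')
    set γ := π (MvPowerSeries.C c')
    simp only [map_add, map_mul, map_pow]
    rw [show f a * f x ^ 2 + f b * f x * f y + f c * f y ^ 2 =
      ((f a - α) * (X * X) + (f b - β) * (X * Y) + (f c - γ) * (Y * Y)) +
      ((f x - X) * (f a * (f x + X) + f b * f y) + (f y - Y) * (f b * X + f c * (f y + Y))) by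
      linear_combination h0]
    have hxyP : ∀ {u}, u ∈ (varIdeal κ ^ 2).map π → ∀ {v}, v ∈ (varIdeal κ).map π → u * v ∈ (varIdeal κ ^ 3).map π := fun hu _ hv => by
      rw [pow_succ (varIdeal κ) 2, Ideal.map_mul]; exact Ideal.mul_mem_mul hu hv
    have h3 : ∀ {p q r}, p ∈ (varIdeal κ ^ 1).map π → q ∈ (varIdeal κ).map π → r ∈ (varIdeal κ).map π → p * (q * r) ∈ (varIdeal κ ^ 3).map π :=
      fun {p q r} hp hq hr => by
      rw [pow_one] at hp
      rw [Ideal.map_pow, pow_succ', pow_two]; exact Ideal.mul_mem_mul hp (Ideal.mul_mem_mul hq hr)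
    exact add_mem (add_mem (add_mem (h3 ha (hX 0) (hX 0)) (h3 hb (hX 0) (hX 1))) (h3 hc (hX 1) (hX 1)))
      (add_mem (hxyP hx (add_mem (Ideal.mul_mem_left _ _ (add_mem hfx (hX 0))) (Ideal.mul_mem_left _ _ hfy)))
        (hxyP hy (add_mem (Ideal.mul_mem_left _ _ (hX 0)) (Ideal.mul_mem_left _ _ (add_mem hfy (hX 1))))))

theorem algNode_of_cplQuad (h : CplQuad k A) : AlgNode A := by
  obtain ⟨a', b', c', hd, e, -⟩ := h
  haveI : IsHausdorff (maximalIdeal A) A := IsHausdorff.of_isLocalRing _ A (maximalIdeal.isMaximal A).ne_top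
  haveI : IsLocalRing (MvPowerSeries (Fin 2) (ResidueField A) ⧸ Ideal.span {quadPS (ResidueField A) a' b' c'}) :=
    RingEquiv.isLocalRing e
  have hmfg : (maximalIdeal A).FG := (maximalIdeal A).fg_of_isNoetherianRing
  set π := Ideal.Quotient.mk (Ideal.span {quadPS (ResidueField A) a' b' c'})
  let o := algebraMap A (AdicCompletion (maximalIdeal A) A)
  have hom : (maximalIdeal A).map o = maximalIdeal _ := AdicCompletion.maximalIdeal_eq_map.symm
  have hemax : (maximalIdeal (AdicCompletion (maximalIdeal A) A)).map e.toRingHom = (varIdeal (ResidueField A)).map π := by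
    rw [IsLocalRing.map_maximalIdeal_of_surjective e.toRingHom e.surjective,
      ← IsLocalRing.map_maximalIdeal_of_surjective π Ideal.Quotient.mk_surjective, maximalIdeal_ps]
  refine algNode_of_approx hd π rfl (e.toRingHom.comp o)
    (fun r s hrs => AdicCompletion.of_injective (maximalIdeal A) A (e.injective hrs))
    (by rw [← Ideal.map_map, hom, hemax]) (fun {n r} h => ?_) (fun n p => ?_)
  · refine mem_pow_of_of_mem ?_
    rw [Ideal.map_pow, ← hemax, ← Ideal.map_pow] at h
    obtain ⟨z, hz, hze⟩ := (Ideal.mem_map_iff_of_surjective e.toRingHom e.surjective).1 h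
    rwa [e.injective hze] at hz
  · obtain ⟨z, hz⟩ := e.surjective (π p)
    obtain ⟨r, hr⟩ := Ideal.Quotient.mk_surjective (AdicCompletion.evalₐ (maximalIdeal A) n z)
    refine ⟨r, ?_⟩
    rw [← hz, Ideal.map_pow, ← hemax, ← Ideal.map_pow]
    have h1 : o r - z ∈ maximalIdeal (AdicCompletion (maximalIdeal A) A) ^ n := by
      rw [← hom, ← Ideal.map_pow, mem_map_pow_iff hmfg, map_sub]
      show AdicCompletion.evalₐ (maximalIdeal A) n (algebraMap A _ r) - _ = 0
      rw [AdicCompletion.algebraMap_apply, Algebra.algebraMap_self_apply, AdicCompletion.evalₐ_of, hr, sub_self]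
    have h2 := Ideal.mem_map_of_mem e.toRingHom h1
    rw [map_sub] at h2
    exact h2

end Criterion

end Groth.Agent.Nodal27
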