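import Groth.Agent.Lib.Nodal27.QuadApp
import Groth.Agent.Lib.NodalRed10.Local
import Groth.Agent.Lib.AVQuotH1.PrimaryExt
import Mathlib.RingTheory.Etale.Descent
import Mathlib.RingTheory.Etale.Field

/-!
# Algebraic nodes and ordinary double points after an unramified extension
-/

set_option autoImplicit false
set_option linter.style.haveILetI false

universe u

open IsLocalRing
open scoped TensorProduct

noncomputable section

namespace Groth.Agent.Nodal27

section Ord

variable {K : Type u} [Field K] {B : Type u} [CommRing B] [Algebra K B] [IsLocalRing B] [IsNoetherianRing B]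

/-- Two generators with product in the cube of the maximal ideal give an ordinary double point. -/
theorem ordDoublePt_of_data (hres : ∀ b : B, ∃ c : K, b - algebraMap K B c ∈ maximalIdeal B)
    {t : B} (ht : t ∈ maximalIdeal B) (htr : IsSMulRegular B t) (hcot : 1 < (maximalIdeal B).spanFinrank)
    {X Y : B} (hX : X ∈ maximalIdeal B) (hY : Y ∈ maximalIdeal B)
    (hgen : maximalIdeal B ≤ Ideal.span {X, Y} ⊔ maximalIdeal B ^ 2) (hXY : X * Y ∈ maximalIdeal B ^ 3) :
    Curv2.IsOrdDoublePt K B := by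
  have hmfg : (maximalIdeal B).FG := (maximalIdeal B).fg_of_isNoetherianRing
  haveI : IsNoetherianRing (AdicCompletion (maximalIdeal B) B) := Compl.isNoetherianRing_adicCompletion _ hmfg
  let o := algebraMap B (AdicCompletion (maximalIdeal B) B)
  have hK : ∀ c, algebraMap K (AdicCompletion (maximalIdeal B) B) c = o (algebraMap K B c) :=
    fun c => IsScalarTower.algebraMap_apply K B _ c
  have ho : ∀ r ∈ maximalIdeal B, o r ∈ maximalIdeal (AdicCompletion (maximalIdeal B) B) := fun r hr => by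
    rw [AdicCompletion.maximalIdeal_eq_map]; exact Ideal.mem_map_of_mem _ hr
  have hres' : ∀ z : AdicCompletion (maximalIdeal B) B, ∃ c : K, z - algebraMap K _ c ∈ maximalIdeal _ := fun z => by
    obtain ⟨b, hb⟩ := Ideal.Quotient.mk_surjective (AdicCompletion.evalOneₐ (maximalIdeal B) z)
    obtain ⟨c, hc⟩ := hres b
    refine ⟨c, ?_⟩
    rw [hK, AdicCompletion.maximalIdeal_eq_map, ← AdicCompletion.ker_evalOneₐ_eq_map _ hmfg, RingHom.mem_ker]
    change AdicCompletion.evalOneₐ (maximalIdeal B) (z - o (algebraMap K B c)) = 0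
    rw [map_sub, AlgHom.commutes, ← hb]
    exact Ideal.Quotient.eq_zero_iff_mem.2 hc
  have hd : 4 * (0 : K) * 0 - 1 ^ 2 ≠ 0 := by norm_num
  obtain ⟨E⟩ := exists_equiv_quad hres' hd ⟨o t, ho t ht, IsSMulRegular.of_flat htr⟩
    (by rwa [AdicCompletion.spanFinrank_maximalIdeal_eq]) (x₀ := o X) (y₀ := o Y)
    (by
      rw [AdicCompletion.maximalIdeal_eq_map, ← Ideal.map_pow]
      refine (Ideal.map_mono hgen).trans ?_
      rw [Ideal.map_sup, Ideal.map_span, Set.image_pair])
    (ho X hX) (ho Y hY) (by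
      rw [map_zero, map_one, zero_mul, zero_mul, zero_add, add_zero, one_mul, ← map_mul,
        AdicCompletion.maximalIdeal_eq_map, ← Ideal.map_pow]
      exact Ideal.mem_map_of_mem _ hXY)
  have hq : Ideal.span {quadPS K 0 1 0} = nodeIdeal K := by simp [quadPS]
  refine ⟨((Ideal.quotientEquivAlgOfEq K hq.symm).trans E).symm.toRingEquiv, fun c => ?_⟩
  rw [← hK]
  exact ((Ideal.quotientEquivAlgOfEq K hq.symm).trans E).symm.commutes c

/-- Replace a nondegenerate relation over an algebraically closed field by a product. -/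
theorem exists_product [IsAlgClosed K] {X Y : B} (hX : X ∈ maximalIdeal B) (hY : Y ∈ maximalIdeal B)
    (hgen : maximalIdeal B ≤ Ideal.span {X, Y} ⊔ maximalIdeal B ^ 2) {a b c : K} (hd : 4 * a * c - b ^ 2 ≠ 0)
    (h : algebraMap K B a * X ^ 2 + algebraMap K B b * X * Y + algebraMap K B c * Y ^ 2 ∈ maximalIdeal B ^ 3) :
    ∃ X' Y' : B, X' ∈ maximalIdeal B ∧ Y' ∈ maximalIdeal B ∧
      maximalIdeal B ≤ Ideal.span {X', Y'} ⊔ maximalIdeal B ^ 2 ∧ X' * Y' ∈ maximalIdeal B ^ 3 := by
  set α := algebraMap K B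
  have close : ∀ {X' Y' : B}, X' ∈ maximalIdeal B → Y' ∈ maximalIdeal B → X ∈ Ideal.span {X', Y'} →
      Y ∈ Ideal.span {X', Y'} → X' * Y' ∈ maximalIdeal B ^ 3 → ∃ X' Y' : B, X' ∈ maximalIdeal B ∧
        Y' ∈ maximalIdeal B ∧ maximalIdeal B ≤ Ideal.span {X', Y'} ⊔ maximalIdeal B ^ 2 ∧
        X' * Y' ∈ maximalIdeal B ^ 3 := by
    intro X' Y' h1 h2 h3 h4 h5
    refine ⟨X', Y', h1, h2, hgen.trans (sup_le_sup_right (Ideal.span_le.2 ?_) _), h5⟩
    rintro z (rfl | rfl) <;> assumption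
  by_cases ha : a = 0
  · subst ha
    have hb : b ≠ 0 := by rintro rfl; simp at hd
    refine close hY (add_mem (Ideal.mul_mem_left _ (α b) hX) (Ideal.mul_mem_left _ (α c) hY)) ?_
      (Ideal.subset_span (Set.mem_insert _ _)) ?_
    · refine Ideal.mem_span_pair.2 ⟨-(α (b⁻¹ * c)), α b⁻¹, ?_⟩
      have h1 : α b⁻¹ * α b = 1 := by rw [← map_mul, inv_mul_cancel₀ hb, map_one]
      rw [map_mul]
      linear_combination X * h1
    · rw [map_zero, zero_mul, zero_add] at h
      rwa [show Y * (α b * X + α c * Y) = α b * X * Y + α c * Y ^ 2 by ring]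
  · obtain ⟨r, hr⟩ := exists_root_quadratic ha b c
    let s := -(b / a) - r
    have hsum : b = -a * (r + s) := by simp only [s]; field_simp; ring
    have hprod : c = a * r * s := by
      rw [hsum] at hr
      linear_combination hr
    have hne : r - s ≠ 0 := fun h0 => hd (by
      rw [hsum, hprod]; linear_combination (-(a ^ 2) * (r - s)) * h0)
    have h1 : α (r - s)⁻¹ * (α r - α s) = 1 := by rw [← map_sub, ← map_mul, inv_mul_cancel₀ hne, map_one]
    refine close (sub_mem hX (Ideal.mul_mem_left _ (α r) hY)) (sub_mem hX (Ideal.mul_mem_left _ (α s) hY))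
      (Ideal.mem_span_pair.2 ⟨-(α s) * α (r - s)⁻¹, α r * α (r - s)⁻¹, by linear_combination X * h1⟩)
      (Ideal.mem_span_pair.2 ⟨-α (r - s)⁻¹, α (r - s)⁻¹, by linear_combination Y * h1⟩) ?_
    have h2 := Ideal.mul_mem_left (maximalIdeal B ^ 3) (α a⁻¹) h
    have h3 : α a⁻¹ * α a = 1 := by rw [← map_mul, inv_mul_cancel₀ ha, map_one]
    rw [hsum, hprod] at h2
    simp only [map_mul, map_neg, map_add] at h2
    convert h2 using 1
    linear_combination (-(X ^ 2 - (α r + α s) * X * Y + α r * α s * Y ^ 2)) * h3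

end Ord

section Compare

variable {K : Type u} [Field K] [IsAlgClosed K] {A : Type u} [CommRing A] [IsLocalRing A] [IsNoetherianRing A]
  {B : Type u} [CommRing B] [Algebra K B] [IsLocalRing B] [IsNoetherianRing B]
  (φ : A →+* B) [IsLocalHom φ] (hflat : φ.Flat) (hmax : (maximalIdeal A).map φ = maximalIdeal B)
  (hres : ∀ b : B, ∃ c : K, b - algebraMap K B c ∈ maximalIdeal B)

include hflat in
omit [IsNoetherianRing A] [IsNoetherianRing B] in
theorem comap_map_eq (I : Ideal A) : (I.map φ).comap φ = I := by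
  letI := φ.toAlgebra
  haveI : Module.Flat A B := hflat
  haveI : IsLocalHom (algebraMap A B) := ‹IsLocalHom φ›
  haveI := Module.FaithfullyFlat.of_flat_of_isLocalHom (A := A) (B := B)
  exact Ideal.comap_map_eq_self_of_faithfullyFlat (B := B) I

include hflat hmax in
omit [IsNoetherianRing A] [IsNoetherianRing B] in
theorem mem_pow_iff (n : ℕ) (r : A) : φ r ∈ maximalIdeal B ^ n ↔ r ∈ maximalIdeal A ^ n := by
  rw [← hmax, ← Ideal.map_pow, ← Ideal.mem_comap, comap_map_eq φ hflat]

include hres in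
omit [IsAlgClosed K] [IsNoetherianRing B] in
theorem finrank_le_two_of_principal {z : B} (hz : maximalIdeal B ≤ Ideal.span {z} ⊔ maximalIdeal B ^ 2)
    (hzm : z ∈ maximalIdeal B) : Module.finrank K (B ⧸ maximalIdeal B ^ 2) ≤ 2 := by
  let q := Ideal.Quotient.mk (maximalIdeal B ^ 2)
  have hspan : ⊤ ≤ Submodule.span K ({1, q z} : Set (B ⧸ maximalIdeal B ^ 2)) := by
    rintro e -
    obtain ⟨b, rfl⟩ := Ideal.Quotient.mk_surjective e
    obtain ⟨c, hc⟩ := hres b
    obtain ⟨u, hu, v, hv, huv⟩ := Submodule.mem_sup.1 (hz hc)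
    obtain ⟨d, rfl⟩ := Ideal.mem_span_singleton'.1 hu
    obtain ⟨c', hc'⟩ := hres d
    refine Submodule.mem_span_pair.2 ⟨c, c', ?_⟩
    rw [Algebra.smul_def, Algebra.smul_def, mul_one]
    show q (algebraMap K B c) + q (algebraMap K B c') * q z = q b
    rw [← map_mul, ← map_add, Ideal.Quotient.eq]
    rw [show algebraMap K B c + algebraMap K B c' * z - b = -(v + (d - algebraMap K B c') * z) by linear_combination huv]
    exact neg_mem (add_mem hv (by rw [pow_two]; exact Ideal.mul_mem_mul hc' hzm))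
  classical
  rw [← finrank_top, ← top_le_iff.1 hspan]
  refine (finrank_span_le_card _).trans ?_
  simpa using Finset.card_le_two

include hflat hmax hres in
theorem algNode_of_nodeData (h : NodeData K (maximalIdeal B)) : AlgNode A := by
  obtain ⟨hrank, -⟩ := id h
  have hnp : ∀ z ∈ maximalIdeal B, ¬maximalIdeal B ≤ Ideal.span {z} ⊔ maximalIdeal B ^ 2 := fun z hz h0 => by
    have h1 := finrank_le_two_of_principal hres h0 hz
    rw [hrank 2] at h1
    omega
  obtain ⟨X₀, Y₀, hX₀, hY₀, hgen₀, a₀, b₀, c₀, hd₀, hq₀⟩ := h.2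
  -- lifts of two generators
  have hout : ∀ J : Ideal B, ¬maximalIdeal B ≤ J → ∃ g ∈ maximalIdeal A, φ g ∉ J := fun J hJ => by
    by_contra hno
    push Not at hno
    exact hJ (hmax ▸ Ideal.map_le_iff_le_comap.2 hno)
  obtain ⟨g, hg, hg2⟩ := hout (maximalIdeal B ^ 2) fun h0 =>
    hnp 0 (zero_mem _) (h0.trans le_sup_right)
  have hgB : φ g ∈ maximalIdeal B := hmax ▸ Ideal.mem_map_of_mem φ hg
  obtain ⟨h₁, hh, hh2⟩ := hout (Ideal.span {φ g} ⊔ maximalIdeal B ^ 2) (hnp _ hgB)
  have hhB : φ h₁ ∈ maximalIdeal B := hmax ▸ Ideal.mem_map_of_mem φ hh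
  let α := algebraMap K B
  have hlin : ∀ w ∈ maximalIdeal B, ∃ p q : K, w - (α p * X₀ + α q * Y₀) ∈ maximalIdeal B ^ 2 := fun w hw => by
    obtain ⟨u, hu, v, hv, rfl⟩ := Submodule.mem_sup.1 (hgen₀ hw)
    obtain ⟨p, q, rfl⟩ := Ideal.mem_span_pair.1 hu
    obtain ⟨p', hp⟩ := hres p
    obtain ⟨q', hq⟩ := hres q
    refine ⟨p', q', ?_⟩
    rw [show p * X₀ + q * Y₀ + v - (α p' * X₀ + α q' * Y₀) = v + ((p - α p') * X₀ + (q - α q') * Y₀) by ring]
    exact add_mem hv (by rw [pow_two]; exact add_mem (Ideal.mul_mem_mul hp hX₀) (Ideal.mul_mem_mul hq hY₀))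
  obtain ⟨p, q, hpq⟩ := hlin _ hgB
  obtain ⟨r, s, hrs⟩ := hlin _ hhB
  have hdet : p * s - q * r ≠ 0 := by
    intro h0
    have hne : p ≠ 0 ∨ q ≠ 0 := by
      by_contra hno
      push Not at hno
      rw [hno.1, hno.2, map_zero, zero_mul, zero_mul, add_zero, sub_zero] at hpq
      exact hg2 hpq
    obtain ⟨l, hl1, hl2⟩ : ∃ l : K, r = l * p ∧ s = l * q := by
      rcases hne with hp | hq
      · exact ⟨r / p, by field_simp, by field_simp; linear_combination h0⟩
      · exact ⟨s / q, by field_simp; linear_combination -h0, by field_simp⟩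
    refine hh2 (Submodule.mem_sup.2 ⟨α l * φ g, Ideal.mul_mem_left _ _ (Ideal.subset_span rfl),
      φ h₁ - α l * φ g, ?_, by ring⟩)
    rw [show φ h₁ - α l * φ g = (φ h₁ - (α r * X₀ + α s * Y₀)) - α l * (φ g - (α p * X₀ + α q * Y₀)) by
      rw [hl1, hl2, map_mul, map_mul]; ring]
    exact sub_mem hrs (Ideal.mul_mem_left _ _ hpq)
  have hgen : maximalIdeal B ≤ Ideal.span {φ g, φ h₁} ⊔ maximalIdeal B ^ 2 := by
    refine hgen₀.trans (sup_le (Ideal.span_le.2 ?_) le_sup_right)
    have hi : α (p * s - q * r)⁻¹ * (α p * α s - α q * α r) = 1 := by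
      rw [← map_mul, ← map_mul, ← map_sub, ← map_mul, inv_mul_cancel₀ hdet, map_one]
    set e := α (p * s - q * r)⁻¹
    rintro z (rfl | rfl)
    · refine Submodule.mem_sup.2 ⟨e * α s * φ g + -(e * α q) * φ h₁, Ideal.mem_span_pair.2 ⟨_, _, rfl⟩,
        -(e * α s) * (φ g - (α p * z + α q * Y₀)) + e * α q * (φ h₁ - (α r * z + α s * Y₀)),
        add_mem (Ideal.mul_mem_left _ _ hpq) (Ideal.mul_mem_left _ _ hrs), ?_⟩
      linear_combination z * hi
    · refine Submodule.mem_sup.2 ⟨-(e * α r) * φ g + e * α p * φ h₁, Ideal.mem_span_pair.2 ⟨_, _, rfl⟩,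
        e * α r * (φ g - (α p * X₀ + α q * z)) + -(e * α p) * (φ h₁ - (α r * X₀ + α s * z)),
        add_mem (Ideal.mul_mem_left _ _ hpq) (Ideal.mul_mem_left _ _ hrs), ?_⟩
      linear_combination z * hi
  have hmA : maximalIdeal A = Ideal.span {g, h₁} := by
    have hB : maximalIdeal B = (Ideal.span {g, h₁}).map φ := by
      rw [Ideal.map_span, Set.image_pair]
      refine le_antisymm (Submodule.le_of_le_smul_of_le_jacobson_bot (I := maximalIdeal B) (IsNoetherian.noetherian _)
        (IsLocalRing.jacobson_eq_maximalIdeal ⊥ bot_ne_top).ge (by rw [smul_eq_mul, ← pow_two]; exact hgen))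
        (Ideal.span_le.2 ?_)
      rintro z (rfl | rfl) <;> assumption
    rw [← comap_map_eq φ hflat (maximalIdeal A), hmax, hB, comap_map_eq φ hflat]
  -- the relation
  have hnd : NodeData K (maximalIdeal B) := h
  have hrelB : ∃ a b c : K, (a ≠ 0 ∨ b ≠ 0 ∨ c ≠ 0) ∧
      α a * φ g ^ 2 + α b * (φ g * φ h₁) + α c * φ h₁ ^ 2 ∈ maximalIdeal B ^ 3 := by
    have hX₀' := hgen hX₀
    have hY₀' := hgen hY₀
    have lin : ∀ w ∈ Ideal.span {φ g, φ h₁} ⊔ maximalIdeal B ^ 2, ∃ u v : K,
        w - (α u * φ g + α v * φ h₁) ∈ maximalIdeal B ^ 2 := fun w hw => by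
      obtain ⟨u, hu, v, hv, rfl⟩ := Submodule.mem_sup.1 hw
      obtain ⟨u₁, u₂, rfl⟩ := Ideal.mem_span_pair.1 hu
      obtain ⟨c₁, hc₁⟩ := hres u₁
      obtain ⟨c₂, hc₂⟩ := hres u₂
      refine ⟨c₁, c₂, ?_⟩
      rw [show u₁ * φ g + u₂ * φ h₁ + v - (α c₁ * φ g + α c₂ * φ h₁) =
        v + ((u₁ - α c₁) * φ g + (u₂ - α c₂) * φ h₁) by ring]
      exact add_mem hv (by rw [pow_two]; exact add_mem (Ideal.mul_mem_mul hc₁ hgB) (Ideal.mul_mem_mul hc₂ hhB))
    obtain ⟨P, Q, hPQ⟩ := lin _ hX₀'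
    obtain ⟨R, S, hRS⟩ := lin _ hY₀'
    refine ⟨a₀ * P ^ 2 + b₀ * P * R + c₀ * R ^ 2, 2 * a₀ * P * Q + b₀ * (P * S + Q * R) + 2 * c₀ * R * S,
      a₀ * Q ^ 2 + b₀ * Q * S + c₀ * S ^ 2, ?_, ?_⟩
    · by_contra hno
      push Not at hno
      obtain ⟨e1, e2, e3⟩ := hno
      have hdisc : (b₀ ^ 2 - 4 * a₀ * c₀) * (P * S - Q * R) ^ 2 = 0 := by
        linear_combination (2 * a₀ * P * Q + b₀ * (P * S + Q * R) + 2 * c₀ * R * S) * e2 -
          4 * (a₀ * Q ^ 2 + b₀ * Q * S + c₀ * S ^ 2) * e1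
      rcases mul_eq_zero.1 hdisc with h0 | h0
      · exact hd₀ h0
      have hPS : P * S - Q * R = 0 := eq_zero_of_pow_eq_zero h0
      -- then the generators would be dependent
      obtain ⟨z, hz, hzz⟩ : ∃ z ∈ maximalIdeal B, X₀ ∈ Ideal.span {z} ⊔ maximalIdeal B ^ 2 ∧
          Y₀ ∈ Ideal.span {z} ⊔ maximalIdeal B ^ 2 := by
        by_cases hP : P = 0 ∧ Q = 0
        · rw [hP.1, hP.2, map_zero, zero_mul, zero_mul, add_zero, sub_zero] at hPQ
          exact ⟨Y₀, hY₀, Ideal.mem_sup_right hPQ, Ideal.mem_sup_left (Ideal.subset_span rfl)⟩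
        obtain ⟨l, hl1, hl2⟩ : ∃ l : K, R = l * P ∧ S = l * Q := by
          by_cases hP0 : P = 0
          · have hQ : Q ≠ 0 := fun hQ => hP ⟨hP0, hQ⟩
            exact ⟨S / Q, by field_simp; linear_combination -hPS, by field_simp⟩
          · exact ⟨R / P, by field_simp, by field_simp; linear_combination hPS⟩
        refine ⟨X₀, hX₀, Ideal.mem_sup_left (Ideal.subset_span rfl),
          Submodule.mem_sup.2 ⟨α l * X₀, Ideal.mul_mem_left _ _ (Ideal.subset_span rfl), Y₀ - α l * X₀, ?_, by ring⟩⟩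
        rw [show Y₀ - α l * X₀ = (Y₀ - (α R * φ g + α S * φ h₁)) - α l * (X₀ - (α P * φ g + α Q * φ h₁)) by
          rw [hl1, hl2, map_mul, map_mul]; ring]
        exact sub_mem hRS (Ideal.mul_mem_left _ _ hPQ)
      refine hnp z hz (hgen₀.trans (sup_le (Ideal.span_le.2 ?_) le_sup_right))
      rintro w (rfl | rfl)
      exacts [hzz.1, hzz.2]
    · rw [Algebra.smul_def, Algebra.smul_def, Algebra.smul_def] at hq₀
      simp only [map_add, map_mul, map_pow, map_ofNat]
      have hm3 : ∀ {u v}, u ∈ maximalIdeal B ^ 2 → v ∈ maximalIdeal B → u * v ∈ maximalIdeal B ^ 3 := fun hu hv => by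
        rw [pow_succ]; exact Ideal.mul_mem_mul hu hv
      set G := φ g
      set H := φ h₁
      set X' := α P * G + α Q * H
      set Y' := α R * G + α S * H
      have hX' : X' ∈ maximalIdeal B := add_mem (Ideal.mul_mem_left _ _ hgB) (Ideal.mul_mem_left _ _ hhB)
      have hY' : Y' ∈ maximalIdeal B := add_mem (Ideal.mul_mem_left _ _ hgB) (Ideal.mul_mem_left _ _ hhB)
      rw [show (α a₀ * α P ^ 2 + α b₀ * α P * α R + α c₀ * α R ^ 2) * G ^ 2 +
          (2 * α a₀ * α P * α Q + α b₀ * (α P * α S + α Q * α R) + 2 * α c₀ * α R * α S) * (G * H) +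
          (α a₀ * α Q ^ 2 + α b₀ * α Q * α S + α c₀ * α S ^ 2) * H ^ 2 =
        (α a₀ * X₀ ^ 2 + α b₀ * (X₀ * Y₀) + α c₀ * Y₀ ^ 2) -
          ((X₀ - X') * (α a₀ * (X₀ + X') + α b₀ * Y₀) + (Y₀ - Y') * (α b₀ * X' + α c₀ * (Y₀ + Y'))) by
        simp only [X', Y']; ring]
      exact sub_mem hq₀ (add_mem (hm3 hPQ (add_mem (Ideal.mul_mem_left _ _ (add_mem hX₀ hX'))
        (Ideal.mul_mem_left _ _ hY₀))) (hm3 hRS (add_mem (Ideal.mul_mem_left _ _ hX')
        (Ideal.mul_mem_left _ _ (add_mem hY₀ hY')))))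
  obtain ⟨a, b, c, habc, hrel⟩ := hrelB
  have hmem3 : ∀ r : A, φ r ∈ maximalIdeal B ^ 3 → r ∈ maximalIdeal A ^ 3 := fun r => (mem_pow_iff φ hflat hmax 3 r).1
  -- descend a monic relation
  have descend : ∀ (u v : A) (p q : K), u ∈ maximalIdeal A → v ∈ maximalIdeal A →
      α p * φ u ^ 2 + α q * (φ u * φ v) + φ v ^ 2 ∈ maximalIdeal B ^ 3 →
      maximalIdeal A = Ideal.span {u, v} →
      ∃ a' b' : A, residue A (4 * a' - b' ^ 2) ≠ 0 ∧ a' * u ^ 2 + b' * u * v + v ^ 2 ∈ maximalIdeal A ^ 3 := by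
    intro u v p q hu hv hrel hspan
    let I : Ideal A := Ideal.span {u ^ 2, u * v} ⊔ maximalIdeal A ^ 3
    have hI : φ (v ^ 2) ∈ I.map φ := by
      rw [Ideal.map_sup, Ideal.map_span, Set.image_pair, Ideal.map_pow, hmax, map_pow, map_pow, map_mul]
      exact Submodule.mem_sup.2 ⟨-(α p) * φ u ^ 2 + -(α q) * (φ u * φ v), Ideal.mem_span_pair.2 ⟨_, _, rfl⟩,
        α p * φ u ^ 2 + α q * (φ u * φ v) + φ v ^ 2, hrel, by ring⟩
    rw [← Ideal.mem_comap, comap_map_eq φ hflat] at hI
    obtain ⟨w, hw, w', hw', hww⟩ := Submodule.mem_sup.1 hI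
    obtain ⟨a', b', rfl⟩ := Ideal.mem_span_pair.1 hw
    have hr : (-a') * u ^ 2 + (-b') * u * v + v ^ 2 ∈ maximalIdeal A ^ 3 := by
      rw [show (-a') * u ^ 2 + (-b') * u * v + v ^ 2 = w' by linear_combination -hww]; exact hw'
    refine ⟨-a', -b', fun h0 => ?_, hr⟩
    have hm : φ (4 * (-a') - (-b') ^ 2) ∈ maximalIdeal B :=
      hmax ▸ Ideal.mem_map_of_mem φ ((residue_eq_zero_iff _).1 h0)
    obtain ⟨p', hp'⟩ := hres (φ (-a'))
    obtain ⟨q', hq'⟩ := hres (φ (-b'))
    have hz : 4 * p' - q' ^ 2 = (0 : K) := by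
      by_contra hne
      have : algebraMap K B (4 * p' - q' ^ 2) ∈ maximalIdeal B := by
        rw [show algebraMap K B (4 * p' - q' ^ 2) = φ (4 * (-a') - (-b') ^ 2) -
          (4 * (φ (-a') - α p') - (φ (-b') - α q') * (φ (-b') + α q')) by
          simp only [map_sub, map_mul, map_pow, map_ofNat, α]; ring]
        exact sub_mem hm (sub_mem (Ideal.mul_mem_left _ _ hp') (Ideal.mul_mem_right _ _ hq'))
      exact (IsLocalRing.mem_maximalIdeal _).1 this ((isUnit_iff_ne_zero.2 hne).map _)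
    obtain ⟨l, hl⟩ := exists_root_quadratic (one_ne_zero (α := K)) q' p'
    have hq2 : q' = -(2 * l) := by
      have : (2 * l + q') ^ 2 = 0 := by linear_combination 4 * hl - hz
      linear_combination (eq_zero_of_pow_eq_zero this)
    have hp2 : p' = l ^ 2 := by rw [hq2] at hl; linear_combination hl
    have hu' : φ u ∈ maximalIdeal B := hmax ▸ Ideal.mem_map_of_mem φ hu
    have hv' : φ v ∈ maximalIdeal B := hmax ▸ Ideal.mem_map_of_mem φ hv
    have hsq : (φ v - α l * φ u) ^ 2 ∈ maximalIdeal B ^ 3 := by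
      rw [show (φ v - α l * φ u) ^ 2 = φ ((-a') * u ^ 2 + (-b') * u * v + v ^ 2) -
        ((φ (-a') - α p') * (φ u * φ u) + (φ (-b') - α q') * (φ u * φ v)) by
        simp only [hq2, hp2, map_add, map_mul, map_pow, map_neg, map_ofNat, α]; ring]
      refine sub_mem ((mem_pow_iff φ hflat hmax 3 _).2 hr) ?_
      rw [pow_succ', pow_two]
      exact add_mem (Ideal.mul_mem_mul hp' (Ideal.mul_mem_mul hu' hu')) (Ideal.mul_mem_mul hq' (Ideal.mul_mem_mul hu' hv'))
    have hw2 := mem_sq_of_sq_mem hnd (sub_mem hv' (Ideal.mul_mem_left _ _ hu')) hsq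
    refine hnp (φ u) hu' ?_
    rw [← hmax]
    conv_lhs => rw [hspan, Ideal.map_span, Set.image_pair]
    rw [hmax, Ideal.span_le]
    rintro z (rfl | rfl)
    · exact Ideal.mem_sup_left (Ideal.subset_span rfl)
    · exact Submodule.mem_sup.2 ⟨α l * φ u, Ideal.mul_mem_left _ _ (Ideal.subset_span rfl),
        φ v - α l * φ u, hw2, by ring⟩
  haveI : _root_.IsReduced B := NodalRed10.isReduced_of_isOrdDoublePt (K := K) (isOrdDoublePt_of_nodeData h)
  have hinj : Function.Injective φ := by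
    rw [injective_iff_map_eq_zero]
    intro r hr
    have : r ∈ ((⊥ : Ideal A).map φ).comap φ := by rw [Ideal.map_bot]; exact hr
    rwa [comap_map_eq φ hflat] at this
  have hfin : Module.finrank (ResidueField A) (CotangentSpace A) = 2 := by
    rw [← IsLocalRing.spanFinrank_maximalIdeal_eq_finrank_cotangentSpace_of_fg (maximalIdeal A).fg_of_isNoetherianRing]
    refine le_antisymm ?_ ?_
    · rw [hmA]
      exact (Submodule.spanFinrank_span_le_ncard_of_finite (Set.toFinite _)).trans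
        ((Set.ncard_insert_le _ _).trans (by simp))
    · by_contra hlt
      have h1 : (maximalIdeal A).spanFinrank ≤ 1 := by omega
      have hmfg := (maximalIdeal A).fg_of_isNoetherianRing
      rw [← Submodule.FG.generators_ncard hmfg] at h1
      obtain ⟨z, hz⟩ : ∃ z, maximalIdeal A = Ideal.span {z} := by
        rcases (Set.ncard_le_one_iff_eq (Submodule.FG.finite_generators hmfg)).1 h1 with h0 | ⟨z, h0⟩
        · refine ⟨0, ?_⟩
          rw [← Submodule.span_generators (maximalIdeal A), h0]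
          simp
        · exact ⟨z, by rw [← Submodule.span_generators (maximalIdeal A), h0]⟩
      refine hnp (φ z) (hmax ▸ Ideal.mem_map_of_mem φ (hz ▸ Ideal.mem_span_singleton_self z)) ?_
      rw [← hmax, hz, Ideal.map_span, Set.image_singleton]
      exact le_sup_left
  have hxy : ∀ {u v : A}, maximalIdeal A = Ideal.span {u, v} →
      Ideal.span {u, v} ⊔ maximalIdeal A ^ 2 = maximalIdeal A := fun e => by
    rw [← e]; exact sup_eq_left.2 (Ideal.pow_le_self two_ne_zero)
  refine ⟨isReduced_of_injective φ hinj, hfin, ?_⟩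
  have scale : ∀ (r : K) (z : B), r ≠ 0 → z ∈ maximalIdeal B ^ 3 → α r⁻¹ * z ∈ maximalIdeal B ^ 3 :=
    fun r z _ hz => Ideal.mul_mem_left _ _ hz
  have hinv : ∀ r : K, r ≠ 0 → α r⁻¹ * α r = 1 := fun r hr => by rw [← map_mul, inv_mul_cancel₀ hr, map_one]
  by_cases hc : c ≠ 0
  · obtain ⟨a', b', hd', hr'⟩ := descend g h₁ (c⁻¹ * a) (c⁻¹ * b) hg hh (by
      convert scale c _ hc hrel using 1
      rw [map_mul, map_mul]; linear_combination (-φ h₁ ^ 2) * hinv c hc) hmA
    exact ⟨g, h₁, a', b', 1, hg, hh, hxy hmA, by rwa [mul_one], by rwa [one_mul]⟩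
  push Not at hc
  subst hc
  rw [map_zero, zero_mul, add_zero] at hrel
  by_cases ha : a ≠ 0
  · have hmA' : maximalIdeal A = Ideal.span {h₁, g} := by rw [hmA, Set.pair_comm]
    obtain ⟨a', b', hd', hr'⟩ := descend h₁ g 0 (a⁻¹ * b) hh hg (by
      convert scale a _ ha hrel using 1
      rw [map_zero, map_mul]; linear_combination (-φ g ^ 2) * hinv a ha) hmA'
    exact ⟨h₁, g, a', b', 1, hh, hg, hxy hmA', by rwa [mul_one], by rwa [one_mul]⟩
  push Not at ha
  subst ha
  have hb : b ≠ 0 := by simpa using habc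
  rw [map_zero, zero_mul, zero_add] at hrel
  refine ⟨g, h₁, 0, 1, 0, hg, hh, hxy hmA, by simp, hmem3 _ ?_⟩
  rw [zero_mul, zero_mul, one_mul, zero_add, add_zero, map_mul]
  have h2 := scale b _ hb hrel
  rwa [← mul_assoc, hinv b hb, one_mul] at h2

include hflat hmax hres in
theorem nodeData_of_algNode (h : AlgNode A) : NodeData K (maximalIdeal B) := by
  obtain ⟨hred, hdim, x, y, a, b, c, hx, hy, hxy, hd, hq⟩ := h
  have hmfg := (maximalIdeal A).fg_of_isNoetherianRing
  have hfr : (maximalIdeal A).spanFinrank = 2 := by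
    rw [IsLocalRing.spanFinrank_maximalIdeal_eq_finrank_cotangentSpace_of_fg hmfg, hdim]
  have hne : maximalIdeal A ≠ ⊥ := fun h0 => by simp [h0] at hfr
  obtain ⟨t, ht, htr⟩ := exists_regular_mem hne
  have htr' : IsSMulRegular B (φ t) := by
    letI := φ.toAlgebra
    haveI : Module.Flat A B := hflat
    exact IsSMulRegular.of_flat htr
  have hm : ∀ {r}, r ∈ maximalIdeal A → φ r ∈ maximalIdeal B := fun hr => hmax ▸ Ideal.mem_map_of_mem φ hr
  have hgen : maximalIdeal B ≤ Ideal.span {φ x, φ y} ⊔ maximalIdeal B ^ 2 := by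
    conv_lhs => rw [← hmax, ← hxy]
    rw [Ideal.map_sup, Ideal.map_span, Set.image_pair, Ideal.map_pow, hmax]
  have hspanA : maximalIdeal A = Ideal.span {x, y} := by
    refine le_antisymm (Submodule.le_of_le_smul_of_le_jacobson_bot (I := maximalIdeal A) hmfg
      (IsLocalRing.jacobson_eq_maximalIdeal ⊥ bot_ne_top).ge (by rw [smul_eq_mul, ← pow_two, hxy]))
      (Ideal.span_le.2 ?_)
    rintro z (rfl | rfl) <;> assumption
  have hcot : 1 < (maximalIdeal B).spanFinrank := by
    by_contra hlt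
    -- a principal maximal ideal descends
    have hpr : ∃ z, maximalIdeal B = Ideal.span {z} := by
      have hBfg := (maximalIdeal B).fg_of_isNoetherianRing
      have h1 : (maximalIdeal B).spanFinrank ≤ 1 := by omega
      rw [← Submodule.FG.generators_ncard hBfg] at h1
      rcases (Set.ncard_le_one_iff_eq (Submodule.FG.finite_generators hBfg)).1 h1 with h0 | ⟨z, h0⟩
      · refine ⟨0, ?_⟩
        rw [← Submodule.span_generators (maximalIdeal B), h0]
        simp
      · exact ⟨z, by rw [← Submodule.span_generators (maximalIdeal B), h0]⟩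
    obtain ⟨z, hz⟩ := hpr
    have key : ∃ w ∈ ({x, y} : Set A), maximalIdeal B = Ideal.span {φ w} := by
      by_contra hno
      push Not at hno
      have hw : ∀ w ∈ ({x, y} : Set A), φ w ∈ maximalIdeal B * maximalIdeal B := fun w hw => by
        have hwm : φ w ∈ maximalIdeal B := hm (by rcases hw with rfl | rfl <;> assumption)
        rw [hz] at hwm
        obtain ⟨e, he⟩ := Ideal.mem_span_singleton'.1 hwm
        have hen : ¬IsUnit e := fun hu => hno w hw (by
          rw [hz, ← he]; exact (Ideal.span_singleton_mul_left_unit hu z).symm)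
        rw [← he]
        exact Ideal.mul_mem_mul ((IsLocalRing.mem_maximalIdeal e).2 hen) (hz ▸ Ideal.mem_span_singleton_self z)
      have hle : maximalIdeal B ≤ maximalIdeal B • maximalIdeal B := by
        refine hgen.trans (sup_le (Ideal.span_le.2 ?_) (by rw [pow_two, smul_eq_mul]))
        rintro u (rfl | rfl)
        exacts [hw x (Set.mem_insert _ _), hw y (Set.mem_insert_of_mem _ rfl)]
      have hbot := Submodule.eq_bot_of_le_smul_of_le_jacobson_bot (maximalIdeal B) _ (IsNoetherian.noetherian _) hle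
        (IsLocalRing.jacobson_eq_maximalIdeal ⊥ bot_ne_top).ge
      have h00 : φ t = 0 := by have := hm ht; rwa [hbot, Ideal.mem_bot] at this
      rw [h00] at htr'
      haveI : Subsingleton B := ⟨fun p q => htr' (by simp)⟩
      exact not_nontrivial B inferInstance
    obtain ⟨w, -, hw⟩ := key
    have : maximalIdeal A = Ideal.span {w} := by
      rw [← comap_map_eq φ hflat (maximalIdeal A), hmax, hw, ← Set.image_singleton, ← Ideal.map_span,
        comap_map_eq φ hflat]
    have h1 := Submodule.spanFinrank_span_le_ncard_of_finite (R := A) (Set.finite_singleton w)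
    rw [Set.ncard_singleton] at h1
    rw [this] at hfr
    exact absurd (hfr.symm.le.trans h1) (by norm_num)
  obtain ⟨a', ha⟩ := hres (φ a)
  obtain ⟨b', hb⟩ := hres (φ b)
  obtain ⟨c', hc⟩ := hres (φ c)
  have hd' : 4 * a' * c' - b' ^ 2 ≠ 0 := fun h0 => hd ((residue_eq_zero_iff _).2 (by
    rw [← comap_map_eq φ hflat (maximalIdeal A), hmax, Ideal.mem_comap]
    have h1 : algebraMap K B (4 * a' * c' - b' ^ 2) = 0 := by rw [h0, map_zero]
    simp only [map_sub, map_mul, map_pow, map_ofNat] at h1 ⊢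
    rw [show 4 * φ a * φ c - φ b ^ 2 = 4 * (φ a - algebraMap K B a') * φ c +
      4 * algebraMap K B a' * (φ c - algebraMap K B c') - (φ b - algebraMap K B b') * (φ b + algebraMap K B b') by
      linear_combination h1]
    exact sub_mem (add_mem (Ideal.mul_mem_right _ _ (Ideal.mul_mem_left _ _ ha)) (Ideal.mul_mem_left _ _ hc))
      (Ideal.mul_mem_right _ _ hb)))
  have hrel : algebraMap K B a' * φ x ^ 2 + algebraMap K B b' * φ x * φ y + algebraMap K B c' * φ y ^ 2 ∈
      maximalIdeal B ^ 3 := by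
    have h1 := (mem_pow_iff φ hflat hmax 3 _).2 hq
    simp only [map_add, map_mul, map_pow] at h1
    rw [show algebraMap K B a' * φ x ^ 2 + algebraMap K B b' * φ x * φ y + algebraMap K B c' * φ y ^ 2 =
      (φ a * φ x ^ 2 + φ b * φ x * φ y + φ c * φ y ^ 2) - ((φ a - algebraMap K B a') * (φ x * φ x) +
        (φ b - algebraMap K B b') * (φ x * φ y) + (φ c - algebraMap K B c') * (φ y * φ y)) by ring]
    refine sub_mem h1 ?_
    rw [pow_succ', pow_two]
    exact add_mem (add_mem (Ideal.mul_mem_mul ha (Ideal.mul_mem_mul (hm hx) (hm hx)))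
      (Ideal.mul_mem_mul hb (Ideal.mul_mem_mul (hm hx) (hm hy)))) (Ideal.mul_mem_mul hc (Ideal.mul_mem_mul (hm hy) (hm hy)))
  obtain ⟨X, Y, hX, hY, hg, hXY⟩ := exists_product (hm hx) (hm hy) hgen hd' hrel
  exact nodeData_of_isOrdDoublePt (ordDoublePt_of_data hres (hm ht) htr' hcot hX hY hg hXY)

end Compare

section Residue

variable {k K κ : Type u} [Field k] [Field K] [IsAlgClosed K] [Algebra k K] [Field κ] [Algebra k κ]
variable {R : Type u} [CommRing R] [Algebra k R] (ψ : R →ₐ[k] κ) (hψ : Function.Surjective ψ)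

omit [IsAlgClosed K] in
/-- The reduction of the base change modulo the prime. -/
theorem ker_map_ψ : (Function.Surjective ψ) →
    RingHom.ker (Algebra.TensorProduct.map (AlgHom.id K K) ψ) =
      (RingHom.ker ψ).map (Algebra.TensorProduct.includeRight : R →ₐ[k] K ⊗[k] R) :=
  fun h => Algebra.TensorProduct.lTensor_ker (A := K) ψ h

omit [IsAlgClosed K] in
theorem map_ψ_surjective (h : Function.Surjective ψ) :
    Function.Surjective (Algebra.TensorProduct.map (AlgHom.id K K) ψ) := by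
  intro z
  induction z with
  | zero => exact ⟨0, map_zero _⟩
  | add x y hx hy =>
    obtain ⟨u, rfl⟩ := hx
    obtain ⟨v, rfl⟩ := hy
    exact ⟨u + v, map_add _ _ _⟩
  | tmul a r =>
    obtain ⟨g, rfl⟩ := h r
    exact ⟨a ⊗ₜ g, rfl⟩

include hψ in
omit [IsAlgClosed K] in
theorem isReduced_of_idempotent [FiniteDimensional k κ]
    (h : ∀ P : Ideal (K ⊗[k] R), P.IsMaximal →
      P.comap (Algebra.TensorProduct.includeRight : R →ₐ[k] K ⊗[k] R) = RingHom.ker ψ →
      P ≤ (RingHom.ker ψ).map (Algebra.TensorProduct.includeRight : R →ₐ[k] K ⊗[k] R) ⊔ P ^ 2) :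
    _root_.IsReduced (K ⊗[k] κ) := by
  let g := Algebra.TensorProduct.map (AlgHom.id K K) ψ
  haveI : IsNoetherianRing (K ⊗[k] κ) := IsNoetherianRing.of_finite K _
  refine ⟨fun z hz => ?_⟩
  by_contra hne
  obtain ⟨M, hM, hle⟩ := Ideal.exists_le_maximal ((⊥ : Ideal (K ⊗[k] κ)).colon ({z} : Set (K ⊗[k] κ)))
    (fun htop => hne (by
      have : (1 : K ⊗[k] κ) ∈ (⊥ : Ideal (K ⊗[k] κ)).colon ({z} : Set (K ⊗[k] κ)) := htop ▸ trivial
      simpa [Submodule.mem_colon_singleton] using this))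
  haveI := hM.isPrime
  have hzM : z ∈ M := by
    obtain ⟨n, hn⟩ := hz
    exact hM.isPrime.mem_of_pow_mem n (hn ▸ zero_mem _)
  have hMM : M ≤ M ^ 2 := by
    let P := M.comap g
    haveI : P.IsMaximal := Ideal.comap_isMaximal_of_surjective g (map_ψ_surjective ψ hψ)
    have hker : (RingHom.ker ψ).map (Algebra.TensorProduct.includeRight : R →ₐ[k] K ⊗[k] R) = RingHom.ker g :=
      (ker_map_ψ ψ hψ).symm
    have hPp : P.comap (Algebra.TensorProduct.includeRight : R →ₐ[k] K ⊗[k] R) = RingHom.ker ψ := by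
      haveI : (RingHom.ker ψ).IsMaximal := RingHom.ker_isMaximal_of_surjective ψ hψ
      refine (Ideal.IsMaximal.eq_of_le inferInstance
        (Ideal.IsPrime.comap _).ne_top (Ideal.map_le_iff_le_comap.1 (hker.le.trans (fun r hr => ?_)))).symm
      show g r ∈ M
      rw [RingHom.mem_ker.1 hr]; exact zero_mem _
    have h1 := Ideal.map_mono (f := g) (h P inferInstance hPp)
    rw [Ideal.map_comap_of_surjective g (map_ψ_surjective ψ hψ), Ideal.map_sup, Ideal.map_pow,
      Ideal.map_comap_of_surjective g (map_ψ_surjective ψ hψ), hker] at h1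
    exact h1.trans (sup_le (Ideal.map_le_iff_le_comap.2 fun r hr => by
      rw [Ideal.mem_comap, RingHom.mem_ker.1 hr]; exact zero_mem _) le_rfl)
  have hall : ∀ n : ℕ, z ∈ M ^ n := fun n => by
    induction n with
    | zero => simp
    | succ n ih =>
      rcases n with _ | n
      · simpa using hzM
      · have h1 : M ^ (n + 1) ≤ M ^ (n + 1 + 1) := by
          conv_lhs => rw [pow_succ]
          rw [pow_succ (M) (n + 1), pow_succ M n, mul_assoc]
          exact Ideal.mul_mono_right (by rw [← pow_two]; exact hMM)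
        exact h1 ih
  have h2 : z ∈ (⨅ i : ℕ, M ^ i • (⊤ : Submodule (K ⊗[k] κ) (K ⊗[k] κ))) := by
    simp only [Submodule.mem_iInf, smul_eq_mul, Ideal.mul_top]; exact hall
  obtain ⟨⟨r, hr⟩, hrz⟩ := (Ideal.mem_iInf_smul_pow_eq_bot_iff M z).1 h2
  refine hM.ne_top ((Ideal.eq_top_iff_one _).2 ?_)
  have h3 : (1 - r) ∈ M := hle (by
    rw [Submodule.mem_colon_singleton, Submodule.mem_bot, smul_eq_mul, sub_mul, one_mul]
    exact sub_eq_zero.2 hrz.symm)
  simpa using add_mem h3 hr

/-- A finite field extension with reduced base change to an algebraically closed field is separable. -/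
theorem isSeparable_of_isReduced [FiniteDimensional k κ] [_root_.IsReduced (K ⊗[k] κ)] :
    Algebra.IsSeparable k κ := by
  haveI : IsArtinianRing (K ⊗[k] κ) := IsArtinianRing.of_finite K _
  haveI : Algebra.FormallyEtale K (K ⊗[k] κ) := by
    letI : ∀ m : MaximalSpectrum (K ⊗[k] κ), Field ((K ⊗[k] κ) ⧸ m.asIdeal) := fun m => Ideal.Quotient.field _
    haveI : ∀ m : MaximalSpectrum (K ⊗[k] κ), Algebra.IsSeparable K ((K ⊗[k] κ) ⧸ m.asIdeal) := fun m => inferInstance
    haveI : ∀ m : MaximalSpectrum (K ⊗[k] κ), Algebra.FormallyEtale K ((K ⊗[k] κ) ⧸ m.asIdeal) :=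
      fun m => Algebra.FormallyEtale.of_isSeparable _ _
    haveI : Algebra.FormallyEtale K (Π m : MaximalSpectrum (K ⊗[k] κ), (K ⊗[k] κ) ⧸ m.asIdeal) :=
      (Algebra.FormallyEtale.pi_iff _).2 fun m => inferInstance
    exact Algebra.FormallyEtale.of_equiv ((IsArtinianRing.equivPi _).restrictScalars K).symm
  haveI : Algebra.FormallyUnramified k κ :=
    Algebra.FormallyUnramified.of_formallyUnramified_tensorProduct_of_faithfullyFlat K
  exact Algebra.FormallyUnramified.isSeparable k κ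

include hψ in
omit [IsAlgClosed K] in
theorem le_map_ker_sup_sq [FiniteDimensional k κ] [_root_.IsReduced (K ⊗[k] κ)] (P : Ideal (K ⊗[k] R)) [P.IsMaximal]
    (hP : P.comap (Algebra.TensorProduct.includeRight : R →ₐ[k] K ⊗[k] R) = RingHom.ker ψ) :
    P ≤ (RingHom.ker ψ).map (Algebra.TensorProduct.includeRight : R →ₐ[k] K ⊗[k] R) ⊔ P ^ 2 := by
  let g := Algebra.TensorProduct.map (AlgHom.id K K) ψ
  haveI : IsArtinianRing (K ⊗[k] κ) := IsArtinianRing.of_finite K _
  have hgs := map_ψ_surjective (K := K) ψ hψ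
  have hker : RingHom.ker g = (RingHom.ker ψ).map (Algebra.TensorProduct.includeRight : R →ₐ[k] K ⊗[k] R) :=
    ker_map_ψ ψ hψ
  have hkP : RingHom.ker g ≤ P := hker ▸ Ideal.map_le_iff_le_comap.2 hP.ge
  let M := P.map g
  haveI : M.IsMaximal := Ideal.IsMaximal.map_of_surjective_of_ker_le hgs hkP
  intro t ht
  have hF : IsField (Localization.AtPrime M) := IsArtinianRing.isField_of_isReduced_of_isLocalRing _
  have h0 : algebraMap (K ⊗[k] κ) (Localization.AtPrime M) (g t) = 0 := by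
    have h1 : algebraMap (K ⊗[k] κ) (Localization.AtPrime M) (g t) ∈ maximalIdeal (Localization.AtPrime M) := by
      rw [← IsLocalization.AtPrime.map_eq_maximalIdeal M (Localization.AtPrime M)]
      exact Ideal.mem_map_of_mem _ (Ideal.mem_map_of_mem g ht)
    rwa [(IsLocalRing.isField_iff_maximalIdeal_eq).1 hF, Ideal.mem_bot] at h1
  obtain ⟨⟨s, hs⟩, hst⟩ := (IsLocalization.map_eq_zero_iff M.primeCompl _ _).1 h0
  obtain ⟨s, rfl⟩ := hgs s
  have hsP : s ∉ P := fun h => hs (Ideal.mem_map_of_mem g h)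
  have hmem : s * t ∈ RingHom.ker g := by rw [RingHom.mem_ker, map_mul]; exact hst
  obtain ⟨u, p, hp, hup⟩ := (‹P.IsMaximal›).exists_inv hsP
  refine Submodule.mem_sup.2 ⟨u * (s * t), Ideal.mul_mem_left _ _ (hker ▸ hmem), p * t,
    by rw [pow_two]; exact Ideal.mul_mem_mul hp ht, by linear_combination t * hup⟩

end Residue

end Groth.Agent.Nodal27
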