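import Groth.Agent.Lib.Nodal27.QuadNode
import Groth.Agent.Lib.Nodal27.JacApp
import Groth.Agent.Lib.GeomIrr18.Res
import Mathlib.RingTheory.Jacobson.Ring

/-!
# Nodes of a scheme over a field through the completed local ring
-/

set_option autoImplicit false
set_option linter.style.haveILetI false
set_option backward.isDefEq.respectTransparency.types false

universe u

open CategoryTheory CategoryTheory.Limits AlgebraicGeometry IsLocalRing
open scoped TensorProduct

noncomputable section

attribute [local instance] Curv2.resAlgebra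

namespace Groth.Agent.Nodal27

variable (k : Type u) [Field k] (X : Scheme.{u}) [X.Over (Spec (CommRingCat.of k))]
  [LocallyOfFiniteType (X ↘ Spec (CommRingCat.of k))]

local notation "kbar" => AlgebraicClosure k

/-- An affine chart at a closed point and its base change. -/
theorem exists_chart {x : X} (hx : IsClosed ({x} : Set X)) :
    ∃ (R : Type u) (_ : CommRing R) (_ : Algebra k R) (_ : Algebra.FiniteType k R) (ψ : R →ₐ[k] X.residueField x),
      Function.Surjective ψ ∧ ∀ P : Ideal (kbar ⊗[k] R), P.IsMaximal →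
        P.comap (Algebra.TensorProduct.includeRight : R →ₐ[k] kbar ⊗[k] R) = RingHom.ker ψ →
        ∃ y : Curv2.bc k X kbar, Curv2.bcFst k X kbar y = x ∧ IsClosed ({y} : Set (Curv2.bc k X kbar)) ∧
          (ODPAt (Curv2.bcSnd k X kbar) y ↔ NodeData kbar P) ∧
          (P ≤ (RingHom.ker ψ).map (Algebra.TensorProduct.includeRight : R →ₐ[k] kbar ⊗[k] R) ⊔ P ^ 2 →
            (maximalIdeal (X.presheaf.stalk (Curv2.bcFst k X kbar y))).map ((Curv2.bcFst k X kbar).stalkMap y).hom =
              maximalIdeal ((Curv2.bc k X kbar).presheaf.stalk y)) := by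
  let f := X ↘ Spec (CommRingCat.of k)
  let σ := Spec.map (CommRingCat.ofHom (algebraMap k kbar))
  obtain ⟨U, hU, hxU, -⟩ := exists_isAffineOpen_mem_and_subset (X := X) (x := x) (U := ⊤) trivial
  let R : Type u := Γ(X, U)
  let j : Spec (CommRingCat.of R) ⟶ X := hU.fromSpec
  haveI : IsOpenImmersion j := inferInstanceAs (IsOpenImmersion hU.fromSpec)
  letI : Algebra k R := (Spec.preimage (j ≫ f)).hom.toAlgebra
  have hj : Spec.map (CommRingCat.ofHom (algebraMap k R)) = j ≫ f := Spec.map_preimage _
  haveI : Algebra.FiniteType k R := by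
    have h1 : LocallyOfFiniteType (Spec.map (CommRingCat.ofHom (algebraMap k R))) := by rw [hj]; infer_instance
    exact RingHom.finiteType_algebraMap.1 ((HasRingHomProperty.Spec_iff (P := @LocallyOfFiniteType)).1 h1)
  let p : Spec (CommRingCat.of R) := hU.primeIdealOf ⟨x, hxU⟩
  have hp : j p = x := hU.fromSpec_primeIdealOf ⟨x, hxU⟩
  let ev : CommRingCat.of R ⟶ X.residueField x := X.presheaf.germ U x hxU ≫ X.residue x
  have hev : CommRingCat.ofHom (algebraMap k R) ≫ ev = CommRingCat.ofHom (Curv2.resMap k X x) := by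
    refine Spec.map_injective ?_
    rw [Spec.map_comp, GeomIrr.spec_resMap, Scheme.fromSpecResidueField, ← hU.fromSpecStalk_eq_fromSpecStalk hxU,
      IsAffineOpen.fromSpecStalk, hj, show Spec.map ev = _ from Spec.map_comp _ _]
    simp only [Category.assoc]
    rfl
  let ψ : R →ₐ[k] X.residueField x :=
    { ev.hom with commutes' := fun c => RingHom.congr_fun (congrArg CommRingCat.Hom.hom hev) c }
  have hkerp : RingHom.ker ψ = p.asIdeal := by
    have h1 : p = Spec.map (X.presheaf.germ U x hxU) (closedPoint (X.presheaf.stalk x)) :=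
      hU.primeIdealOf_eq_map_closedPoint ⟨x, hxU⟩
    rw [h1]
    ext r
    show (X.residue x).hom ((X.presheaf.germ U x hxU).hom r) = 0 ↔ (X.presheaf.germ U x hxU).hom r ∈ maximalIdeal _
    exact Ideal.Quotient.eq_zero_iff_mem
  have hpc : IsClosed ({p} : Set (Spec (CommRingCat.of R))) := by
    rw [← Set.preimage_image_eq ({p} : Set (Spec (CommRingCat.of R))) j.isOpenEmbedding.injective, Set.image_singleton, hp]
    exact hx.preimage j.continuous
  haveI hpmax : p.asIdeal.IsMaximal := (PrimeSpectrum.isClosed_singleton_iff_isMaximal p).1 hpc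
  have hψ : Function.Surjective ψ := by
    intro z
    obtain ⟨s, rfl⟩ := IsLocalRing.residue_surjective z
    letI : Algebra R (X.presheaf.stalk x) := (X.presheaf.germ U x hxU).hom.toAlgebra
    haveI : IsLocalization.AtPrime (X.presheaf.stalk x) p.asIdeal := hU.isLocalization_stalk ⟨x, hxU⟩
    obtain ⟨⟨a, ⟨d, hd⟩⟩, hs⟩ := IsLocalization.surj p.asIdeal.primeCompl s
    obtain ⟨u, q, hq, huq⟩ := hpmax.exists_inv hd
    refine ⟨a * u, ?_⟩
    have hq0 : ψ q = 0 := RingHom.mem_ker.1 (hkerp ▸ hq)
    have h1 : ψ u * ψ d = 1 := by rw [← map_mul, ← sub_eq_zero, ← map_one ψ, ← map_sub,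
      show u * d - 1 = -q by linear_combination huq, map_neg, hq0, neg_zero]
    have h2 : (X.residue x).hom s * ψ d = ψ a := (map_mul (X.residue x).hom _ _).symm.trans (congrArg (X.residue x).hom hs)
    show ψ (a * u) = (X.residue x).hom s
    rw [map_mul, ← h2, mul_assoc, mul_comm (ψ d), h1, mul_one]
  refine ⟨R, inferInstance, inferInstance, inferInstance, ψ, hψ, fun P hPmax hPp => ?_⟩
  let ι : R →ₐ[k] kbar ⊗[k] R := Algebra.TensorProduct.includeRight
  let T := kbar ⊗[k] R
  let pr : Spec (CommRingCat.of T) ⟶ Spec (CommRingCat.of R) := Spec.map (CommRingCat.ofHom ι.toRingHom)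
  let q : Spec (CommRingCat.of T) ⟶ Spec (CommRingCat.of kbar) := Spec.map (CommRingCat.ofHom (algebraMap kbar T))
  have sq : IsPullback pr q (Spec.map (CommRingCat.ofHom (algebraMap k R))) σ :=
    (AlgebraicGeometry.isPullback_SpecMap_of_isPushout _ _ _ _ (CommRingCat.isPushout_tensorProduct k kbar R)).flip
  let j' : Spec (CommRingCat.of T) ⟶ pullback f σ :=
    pullback.lift (pr ≫ j) q (by rw [Category.assoc, ← hj]; exact sq.w)
  have top : IsPullback pr j' j (pullback.fst f σ) := by
    refine IsPullback.of_bot ?_ (pullback.lift_fst _ _ _).symm (IsPullback.of_hasPullback f σ)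
    rw [pullback.lift_snd, ← hj]
    exact sq
  haveI : IsOpenImmersion j' := MorphismProperty.of_isPullback top.flip.flip inferInstance
  let w : Spec (CommRingCat.of T) := ⟨P, hPmax.isPrime⟩
  have hwp : pr w = p := PrimeSpectrum.ext (hPp.trans hkerp)
  have hcomp : j' ≫ pullback.fst f σ = pr ≫ j := pullback.lift_fst _ _ _
  have hyx : Curv2.bcFst k X kbar (j' w) = x := by
    rw [← hp, ← hwp]
    exact congrArg (fun g : Spec (CommRingCat.of T) ⟶ X => g w) hcomp
  have hwc : IsClosed ({w} : Set (Spec (CommRingCat.of T))) := (PrimeSpectrum.isClosed_singleton_iff_isMaximal w).2 hPmax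
  haveI : w.asIdeal.IsMaximal := hPmax
  haveI : LocallyOfFiniteType (Curv2.bcSnd k X kbar) := inferInstanceAs (LocallyOfFiniteType (pullback.snd _ _))
  have hyc : IsClosed ({j' w} : Set (Curv2.bc k X kbar)) := (isClosed_bc_iff X k _).2 (hyx.symm ▸ hx)
  refine ⟨j' w, hyx, hyc, ?_, fun hP => ?_⟩
  · have e1 := odpAt_etale_iff j' (pullback.snd f σ) hwc
    rw [show j' ≫ pullback.snd f σ = q from pullback.lift_snd _ _ _] at e1
    exact e1.symm.trans (odpAt_spec_iff w)
  -- on the chart
  let A := (Spec (CommRingCat.of R)).presheaf.stalk (pr w)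
  let B := (Spec (CommRingCat.of T)).presheaf.stalk w
  haveI : LocallyOfFiniteType q :=
    (HasRingHomProperty.Spec_iff (P := @LocallyOfFiniteType)).2
      (RingHom.finiteType_algebraMap.2 (inferInstanceAs (Algebra.FiniteType kbar (kbar ⊗[k] R))))
  haveI : IsLocallyNoetherian (Spec (CommRingCat.of T)) := LocallyOfFiniteType.isLocallyNoetherian q
  letI : Algebra T B := (StructureSheaf.toStalk T w).hom.toAlgebra
  haveI : IsLocalization.AtPrime B w.asIdeal := StructureSheaf.IsLocalization.to_stalk T w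
  haveI : IsLocalHom (pr.stalkMap w).hom := inferInstance
  have hP' : w.asIdeal ≤ (w.asIdeal.comap ι).map ι ⊔ w.asIdeal ^ 2 := by
    show P ≤ (P.comap ι).map ι ⊔ P ^ 2
    rw [hPp]; exact hP
  have hA : (maximalIdeal A).map (pr.stalkMap w).hom = maximalIdeal B := by
    refine le_antisymm (Ideal.map_le_iff_le_comap.2 fun r hr => (IsLocalRing.mem_maximalIdeal _).2
      (mem_nonunits_iff.2 fun hu => (IsLocalRing.mem_maximalIdeal _).1 hr (isUnit_of_map_unit (pr.stalkMap w).hom r hu))) ?_
    refine Submodule.le_of_le_smul_of_le_jacobson_bot (I := maximalIdeal B) (IsNoetherian.noetherian _)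
      (IsLocalRing.jacobson_eq_maximalIdeal ⊥ bot_ne_top).ge ?_
    rw [smul_eq_mul, ← pow_two]
    conv_lhs => rw [← IsLocalization.AtPrime.map_eq_maximalIdeal w.asIdeal B]
    refine (Ideal.map_mono hP').trans ?_
    rw [Ideal.map_sup, Ideal.map_pow, IsLocalization.AtPrime.map_eq_maximalIdeal w.asIdeal B]
    refine sup_le_sup_right (Ideal.map_le_iff_le_comap.2 (Ideal.map_le_iff_le_comap.2 fun r hr => ?_)) _
    have hnat : (pr.stalkMap w) (StructureSheaf.toStalk R (pr w) r) = algebraMap T B (ι r) :=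
      AlgebraicGeometry.stalkMap_toStalk_apply (CommRingCat.ofHom ι.toRingHom) w r
    rw [Ideal.mem_comap, Ideal.mem_comap]
    show algebraMap T B (ι r) ∈ _
    rw [← hnat]
    refine Ideal.mem_map_of_mem _ ((IsLocalRing.mem_maximalIdeal _).2 (mem_nonunits_iff.2 fun hu => ?_))
    have hu' := hu.map (pr.stalkMap w).hom
    rw [hnat] at hu'
    exact (IsLocalization.AtPrime.isUnit_to_map_iff B w.asIdeal (ι r)).1 hu' hr
  haveI : IsIso (j.stalkMap (pr w)) := inferInstance
  haveI : IsIso (j'.stalkMap w) := inferInstance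
  have hjs := IsLocalRing.map_maximalIdeal_of_surjective (j.stalkMap (pr w)).hom
    (ConcreteCategory.bijective_of_isIso _).2
  have hj's := IsLocalRing.map_maximalIdeal_of_surjective (j'.stalkMap w).hom
    (ConcreteCategory.bijective_of_isIso _).2
  have hpj : (maximalIdeal (X.presheaf.stalk ((pr ≫ j) w))).map ((pr ≫ j).stalkMap w).hom = maximalIdeal B := by
    rw [Scheme.Hom.stalkMap_comp pr j w]
    exact (Ideal.map_map (j.stalkMap (pr w)).hom (pr.stalkMap w).hom).symm.trans
      ((congrArg (Ideal.map (pr.stalkMap w).hom) hjs).trans hA)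
  have key := (map_max_congr (hcomp.symm) w).1 hpj
  rw [Scheme.Hom.stalkMap_comp j' (pullback.fst f σ) w] at key
  have hb := ConcreteCategory.bijective_of_isIso (j'.stalkMap w)
  have h1 := (Ideal.map_map _ _).trans (key.trans hj's.symm)
  have h2 := congrArg (Ideal.comap (j'.stalkMap w).hom) h1
  exact ((Ideal.comap_map_of_bijective (j'.stalkMap w).hom hb).symm.trans h2).trans
    (Ideal.comap_map_of_bijective (j'.stalkMap w).hom hb)

/-- At a point unramified over its image, being a node is algebraic. -/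
theorem odpAt_iff_algNode {y : Curv2.bc k X kbar} (hy : IsClosed ({y} : Set (Curv2.bc k X kbar)))
    (hmax : (maximalIdeal (X.presheaf.stalk (Curv2.bcFst k X kbar y))).map ((Curv2.bcFst k X kbar).stalkMap y).hom =
      maximalIdeal ((Curv2.bc k X kbar).presheaf.stalk y)) :
    ODPAt (Curv2.bcSnd k X kbar) y ↔ AlgNode (X.presheaf.stalk (Curv2.bcFst k X kbar y)) := by
  haveI : LocallyOfFiniteType (Curv2.bcSnd k X kbar) := inferInstanceAs (LocallyOfFiniteType (pullback.snd _ _))
  haveI : IsLocallyNoetherian X := LocallyOfFiniteType.isLocallyNoetherian (X ↘ Spec (CommRingCat.of k))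
  haveI : IsLocallyNoetherian (Curv2.bc k X kbar) := LocallyOfFiniteType.isLocallyNoetherian (Curv2.bcSnd k X kbar)
  haveI : Flat (Curv2.bcFst k X kbar) := MorphismProperty.pullback_fst _ _ (by
    rw [HasRingHomProperty.Spec_iff (P := @Flat)]
    exact RingHom.flat_algebraMap_iff.2 inferInstance)
  let φ := ((Curv2.bcFst k X kbar).stalkMap y).hom
  haveI : IsLocalHom φ := inferInstanceAs (IsLocalHom ((Curv2.bcFst k X kbar).stalkMap y).hom)
  letI := (RegSmooth17.toStalk (Curv2.bcSnd k X kbar) y).toAlgebra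
  have hres : ∀ b : (Curv2.bc k X kbar).presheaf.stalk y, ∃ c : kbar, b - algebraMap kbar _ c ∈ maximalIdeal _ :=
    fun b => by
      obtain ⟨c, hc⟩ := exists_sub_mem_maximal (Curv2.bcSnd k X kbar) hy b
      exact ⟨c, by rw [← neg_sub]; exact neg_mem hc⟩
  exact ⟨algNode_of_nodeData φ (Flat.stalkMap _ y) hmax hres, nodeData_of_algNode φ (Flat.stalkMap _ y) hmax hres⟩

theorem isNode_iff_algNode {x : X} (hx : IsClosed ({x} : Set X)) :
    Curv2.IsNode k X x ↔ Algebra.IsSeparable k (X.residueField x) ∧ AlgNode (X.presheaf.stalk x) := by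
  obtain ⟨R, _, _, _, ψ, hψ, hpts⟩ := exists_chart k X hx
  haveI : Algebra.FiniteType k (X.residueField x) := Algebra.FiniteType.of_surjective ψ hψ
  haveI : FiniteDimensional k (X.residueField x) := finite_of_finite_type_of_isJacobsonRing k (X.residueField x)
  rw [isNode_iff X k x]
  refine ⟨fun ⟨_, xb, hxb, hodp⟩ => ?_, fun ⟨hsep, halg⟩ => ⟨hx, ?_⟩⟩
  · haveI : _root_.IsReduced (kbar ⊗[k] X.residueField x) := by
      refine isReduced_of_idempotent ψ hψ fun P hP hPp => ?_
      haveI := hP
      obtain ⟨y, hyx, hyc, hiff, -⟩ := hpts P hP hPp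
      have h1 := node_le_map_comap P (hiff.1 (odpAt_conj X k (hyx.trans hxb.symm) hodp))
      rwa [hPp] at h1
    refine ⟨isSeparable_of_isReduced (K := kbar), ?_⟩
    subst hxb
    have hyc := (isClosed_bc_iff X k xb).2 hx
    exact (odpAt_iff_algNode k X hyc (map_maximalIdeal_of_node (K := kbar) _ xb hyc hodp)).1 hodp
  · haveI := hsep
    haveI := AVQuotH1.isGeometricallyReduced_of_separable k (X.residueField x)
    haveI : _root_.IsReduced (kbar ⊗[k] X.residueField x) :=
      (Algebra.isGeometricallyReduced_field_iff _ _).1 inferInstance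
    obtain ⟨M, hM⟩ := Ideal.exists_maximal (kbar ⊗[k] X.residueField x)
    haveI := hM
    let g := Algebra.TensorProduct.map (AlgHom.id kbar kbar) ψ
    haveI hPmax : (M.comap g).IsMaximal := Ideal.comap_isMaximal_of_surjective g (map_ψ_surjective ψ hψ)
    have hPp : (M.comap g).comap (Algebra.TensorProduct.includeRight : R →ₐ[k] kbar ⊗[k] R) = RingHom.ker ψ := by
      haveI : (RingHom.ker ψ).IsMaximal := RingHom.ker_isMaximal_of_surjective ψ hψ
      refine (Ideal.IsMaximal.eq_of_le inferInstance (Ideal.IsPrime.comap _).ne_top fun r hr => ?_).symm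
      show g (1 ⊗ₜ[k] r) ∈ M
      rw [Algebra.TensorProduct.map_tmul, RingHom.mem_ker.1 hr, TensorProduct.tmul_zero]
      exact zero_mem _
    obtain ⟨y, hyx, hyc, -, hmax⟩ := hpts _ hPmax hPp
    refine ⟨y, hyx, (odpAt_iff_algNode k X hyc (hmax (le_map_ker_sup_sq ψ hψ _ hPp))).2 ?_⟩
    rwa [hyx]

theorem isNode_iff_cplQuad {x : X} (hx : IsClosed ({x} : Set X)) :
    Curv2.IsNode k X x ↔ (Algebra.IsSeparable k (X.residueField x) ∧
      (letI := Curv2.stalkAlgebra k X x
       CplQuad k (X.presheaf.stalk x))) := by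
  haveI : IsLocallyNoetherian X := LocallyOfFiniteType.isLocallyNoetherian (X ↘ Spec (CommRingCat.of k))
  rw [isNode_iff_algNode k X hx]
  refine and_congr_right fun hsep => ?_
  letI := Curv2.stalkAlgebra k X x
  haveI : Algebra.IsSeparable k (ResidueField (X.presheaf.stalk x)) := by
    let e : X.residueField x →+* ResidueField (X.presheaf.stalk x) := RingHom.id _
    exact AlgEquiv.Algebra.isSeparable
      (AlgEquiv.ofRingEquiv (f := (RingEquiv.refl _ : X.residueField x ≃+* ResidueField (X.presheaf.stalk x)))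
        fun _ => rfl)
  exact ⟨cplQuad_of_algNode, algNode_of_cplQuad⟩

end Groth.Agent.Nodal27
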